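import Cfsg.Agent.OM.On.E6.All_m3
import Cfsg.Agent.H608.CycOne
import Cfsg.Agent.OddOrderCharacters.IndRes
import Cfsg.Agent.H706.Canon
import Cfsg.Agent.CharactersDeep.ExtUnique
import Cfsg.Agent.Blocks.ReynoldsAux
import Cfsg.Agent.S0886
import Cfsg.Agent.H644.CentralQuot
import Cfsg.Agent.OM.Gl.Reg_m3
import Cfsg.Agent.H658.CyclicUse
import Cfsg.Agent.H658.RegPow
import Cfsg.Agent.H639.Sec
import Cfsg.Agent.H904.SylOne
import Cfsg.Agent.H592.Defect
import Cfsg.Agent.OddOrderCharacters.VChar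
import Cfsg.Agent.S0917
import Cfsg.Agent.S4641
import Cfsg.Agent.S4733
import Cfsg.Agent.H658.RankTwo
import Cfsg.Agent.OM.Lo.Pr_mg_m3
import Cfsg.Agent.KM.Easy_m3
import Cfsg.Agent.PQ.Spor.Tabs
import Cfsg.Agent.Cam.Spor.BSev
import Cfsg.Agent.H436.B7
import Cfsg.Agent.H217.Odm.Real_m3
import Cfsg.Agent.BZ.X.Defs
import Cfsg.Agent.BZ.C5.Eng_m3
import Cfsg.Agent.S0738
import Cfsg.Agent.TO.Blk_m3
import Cfsg.Agent.KM.Two.Row_m3
import Cfsg.Agent.SmallSimple.BurnsideNC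
import Cfsg.Agent.H81.FFourCode
import Cfsg.Agent.H897.Data
import Cfsg.Agent.H129.FE.Grp
import Cfsg.Agent.BH.RowO.XC_m3
import Cfsg.Agent.H101.ROTwF4
import Cfsg.Agent.H129.ExactZ
import Cfsg.Agent.S1062
import Cfsg.Agent.BZ.X.T
import Cfsg.Agent.CharactersDeep.RChar
import Cfsg.Agent.KM.Tor.Cnt3
import Cfsg.Agent.H645.Watanabe
import Cfsg.Agent.S4648
import Cfsg.Agent.S4608
import Cfsg.Agent.BZ.C7.Chr_m3
import Cfsg.Agent.S2603
import Cfsg.Agent.OM.Cu.Asm_m3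
import Cfsg.Agent.BZ.Lab.Iso_m3
import Cfsg.Agent.OM.On.E6.Ax
import Cfsg.Agent.KZ.TF.W1
import Cfsg.Agent.KZ.DatX.Gd_m3
import Cfsg.Agent.FastGrp
import Cfsg.Agent.Prune
set_option linter.all false

section
prune_inst 0x7f90fcf8afa88fffffff7e3ffedcdff810c0cfffe6dff943ffe0e19f0f9f030009c56b8d0de010fe0ed6c2b410b87803fb7eceffe86bdc7ffffd5ff41ffbee0fa5e7350951948c340fb00fff83f06f8e6f3fffffffffffffffffffffffffffbefffdfbfeffff

-- part: OM/Sp/OneC
section
prune_inst 0x6f030750577000000081c001232007ef3f3000192006b8001f1e60f060fcfff23a9432f21fef01f129354bef4707fc04813000179421000002a00be00011f05a18caf6ae6b73cbf04ff0007c0f907190c00000000000000000000000000041000204010000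
set_option linter.all false
open scoped Cfsg.Agent.FastGrp

/-!
# OM, simple sporadic groups: the certificates for the tables (helper88)

For each prime the anchors `⟨relation, character, multiplier, coefficients, order, second relation⟩`.
-/

set_option autoImplicit false
set_option maxRecDepth 100000

namespace Cfsg.Agent.OM.Sp1

open Cfsg Cfsg.Agent.TAB Cfsg.Agent.TAB.Eng Cfsg.Agent.TAB.Use Cfsg.Agent.PQ.Spor
open Cfsg.Agent.BZ.S1 (An dz19 pk19 pkC19 pkC19_eq pkC19_mkR)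

theorem pkBO19 (E : List (ℕ × ℕ)) : pkC19 175 B.Fin.cols E = B.Fin.tabB.rel.map fun r => pk19 r.2 E := by
  have hA : (B.Bes.rowsL B.Fin.cols 0 166).length = 166 := (List.length_map _).trans List.length_range'
  have hB : (B.Bes.rowsL B.Fin.cols 166 9).length = 9 := (List.length_map _).trans List.length_range'
  delta B.Fin.tabB Sm2.mkRows
  rw [pkC19_eq, List.map_append, List.map_map, List.map_map, hA, hB, List.range_add (n := 166) (m := 9), List.map_append,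
    List.map_map]
  refine congrArg₂ _ (List.map_congr_left fun j hj => ?_) (List.map_congr_left fun j hj => ?_)
  · rw [Function.comp_apply, B.Bes.rw'_rowsL _ 166 9 (Nat.lt_add_right 9 (List.mem_range.1 hj))]
  · rw [Function.comp_apply, Function.comp_apply, B.Bes.rw'_rowsL _ 166 9 (Nat.add_lt_add_left (List.mem_range.1 hj) 166)]

theorem no19 {S : Type} [Group S] {D : Dat} {R : Rows} (h : HasT S D R) (PK : List (ℕ × ℕ) → List ℕ)
    (hP : ∀ E, PK E = R.rel.map fun r => pk19 r.2 E) (C : List (ℕ × List An)) (hc : tabO19 D R 160 PK C = true) : No S :=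
  no_of h C (tabO19_spec hP hc)

theorem nM11 : No Spor.M11 := no19 tM11 _ (fun _ => rfl)
    []
    (by decide +kernel)

theorem nM12 : No Spor.M12 := no19 tM12 _ (fun _ => rfl)
    [(2, [⟨0, 0, 64, dz19 43 11 0x48250293c6208db, 0, 0⟩]),
    (3, [⟨0, 0, 27, dz19 39 14 0x553f7aa968700df54f, 0, 0⟩])]
    (by decide +kernel)

theorem nM22 : No Spor.M22 := no19 tM22 _ (fun _ => rfl)
    [(2, [⟨0, 0, 128, dz19 179 10 0x99fbdd0f9dadc82bd6, 0, 0⟩])]
    (by decide +kernel)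

theorem nM23 : No Spor.M23 := no19 tM23 _ (fun _ => rfl)
    [(2, [⟨0, 0, 128, dz19 159 12 0x56edb085084551a145dd3, 0, 0⟩])]
    (by decide +kernel)

theorem nM24 : No M24 := no19 tM24 _ (fun _ => rfl)
    [(2, [⟨0, 0, 1024, dz19 971 21 0x3c1fc0706f915838f79868c23d9b41eff445ad67fdd13e0f1978, 0, 0⟩]),
    (3, [⟨0, 0, 27, dz19 29 19 0x22e46c1719cae1b088c4ea8, 0, 0⟩])]
    (by decide +kernel)

theorem nTits {S : Type} [Group S] (h : Lie.IsoTits S) : No S := no19 (tTits h) _ (fun _ => rfl)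
    [(2, [⟨0, 0, 2048, dz19 795 14 0x16aa607d078dfe95392dd1cc236fa9180c, 0, 0⟩]),
    (3, [⟨0, 0, 27, dz19 41 15 0x1042981ae6dd49ef4ba2, 0, 0⟩])]
    (by decide +kernel)

theorem nJ2 : No Spor.J2 := no19 tJ2 _ (fun _ => rfl)
    [(2, [⟨0, 0, 128, dz19 91 15 0x9ba27936fb32c1eb7f020ed6, 0, 0⟩]),
    (3, [⟨0, 0, 27, dz19 35 16 0x3d76f823233ec179b2b2, 0, 0⟩])]
    (by decide +kernel)

theorem nJ4 : No Spor.J4 := no19 tJ4 _ (fun _ => rfl)
    [(2, [⟨0, 0, 2097152, dz19 2099987 44 0x3b20a3bf4e8e5823c9b4f2dde93b6871a55106fb2f0cbc8f090d50f94cc366141e204857bf56f14f9e056faac5731450238887d87de29f0b76577e0253924cc9767a8fc07b875d5b47353c3c9428b465c3f0847fea1a996dc8c1ccd747fd3808be8e89e39b2367dbc21cb3ae96113109b182588, 0, 0⟩]),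
    (3, [⟨0, 0, 27, dz19 39 44 0x315bf442fa7f31ed34a47bcc7fb49f658db0d1661e26d196375413b668, 0, 0⟩,
    ⟨13, 21, 27, dz19 27 36 0x3ae987b291f83ecd48e02ba7a965e8e37f2bc6bc94d, 2, 16⟩]),
    (11, [⟨0, 0, 1331, dz19 2299 42 0x186263acf429b8d915e400e9c60ece044dd6a72a647fb35b6770850121a37912f92512120fffce709ce5fc6f1e67809aed1d568f02092948eebbf, 0, 0⟩])]
    (by decide +kernel)

theorem nCo1 : No Spor.Co1 := no19 tCo1 _ (fun _ => rfl)
    [(2, [⟨0, 0, 2097152, dz19 1438919 99 0x28b3da28dfb4b7191caa46c9658a385f523b435704f8a59b569b08aa167bc99f16a4a735fc04f30a285df17dd8644d4d900176b10871689f04506a756d95aebc438718d640b2cffe5e51e3c4bdc139eb18bbdfca5fd6fd5db7fe8a5895253f504da3122e5c09ed740aa6fb26988cda4ee7565cb322126df40014a7883b7e93664d3ce3bdd78bfbbad62cd58eae6aef04203f386e0eaeb195367454c2959abbb77ff155c7f28f1995c9e56a7c7fae9be769b74aa8b4f96fb683bd46c3ace3b08a66085baeea1f1e655c551470c3e4100b8e351ed5c65f977064d40dcd193292241817a8bef160c18e67ee1ddc67250e6c67140e420bf9f881e267316dc6,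 0, 0⟩]),
    (3, [⟨0, 0, 19683, dz19 17567 98 0x95396135b0c7080900ccc5c6d9e502277c463773868a6d381653b9320b9bce19068fdd91ed460a34e17a3e895202c13aadf606498c22ee0dde06fed7718545ed95a0be87eeb9b3184b09a386712f4b73b0b3515fd9cbe2e52a1b83a96e242bffebd3056ca3d5e9ddbc4e97e38518cc7fcb904bcefa9a60c232fb60b5bb5df22cb2007054d56cb2d5c7825efa2d13e1857495668add6867c068786c154d142e0bb49b5a78e6d6a49f5dc99e849, 0, 0⟩,
    ⟨17, 17, 27, dz19 27 99 0x17a71ca793dadc7c38ea8e74fc7da9b981d9e5d4e70c22f12e235d1c0117429a1221e9371183fb0a2455c9f8f02cc83677df967330ef658d646bed, 2, 29⟩]),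
    (5, [⟨0, 0, 625, dz19 853 99 0xe518fc5a3b026940b06a35925e185f9d2ffdb06a735056b91cce80bb7002a49502cd8d99e478899f29f653048064a52700f3d848a5ac0bc26b192d265b5fdd24f9bbecbfb3c4a4925d7172abea97c22477523b49a3ab2fce0bb3b78e8dcbd66989b4cbe29a446136d365255094768923082501e626d21417, 0, 0⟩]),
    (7, [⟨0, 0, 49, dz19 79 85 0x896e0229d19a51fa3e71ca896d61b3fb72f79a909bbc82d45299d0638563ca1bb1ab752a3bf4cdd72757f56f368c4efc7698ebe36e26f53a3ac3197217d011a2f50d5, 0, 0⟩])]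
    (by decide +kernel)

theorem nCo2 : No Spor.Co2 := no19 tCo2 _ (fun _ => rfl)
    [(2, [⟨0, 0, 262144, dz19 165807 56 0xc2b30c00dfa75f01e68e974de2141564b85ecbc6ff72d9f2ebaee030ac33c7ba7c9bb030c676929f349cee967b0e2ae2c98b440729809aa7340fc5cb328109b7f5b129dbc907f8b8f88df1bd492d88fa4fc7ccb7b521d447bdea5134516b7acd48bcfe7cf2ffcc720a84f6351cf9be95fc748fd2973a8f9e20, 0, 0⟩]),
    (3, [⟨0, 0, 729, dz19 821 56 0x4ab2bf8bcd109d2ed7dbeea32e460dd1900c0c807045eb63869bed3e3759ce27ebf2b909a9db6eb804ce2da8d06e137ba8856e15ece96f8bdfc626e6767d52df0c69e00, 0, 0⟩]),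
    (5, [⟨0, 0, 125, dz19 163 56 0x16a8a89e4b27ba0bf81a8d845dc8bbe96c844629c5bf516c6d2e1bfcfe647628b0b895c965caec9eb9a259cc3624f0eecb5e3ea, 0, 0⟩])]
    (by decide +kernel)

theorem nCo3 : No Spor.Co3 := no19 tCo3 _ (fun _ => rfl)
    [(2, [⟨0, 0, 1024, dz19 763 37 0x8c3acf2b63cd2ef5c12d0abb7e2a88d5290e6b60671b283ebe9cee5cfc80f1994a2823565b4321d5ed8f129f, 0, 0⟩]),
    (3, [⟨0, 0, 2187, dz19 2525 38 0x2ab1f83dd60523acb1502ebcefdb7b52e7035c1b0d5e0f8569713e78b4af31413eee87a509c97589b55cc6669944864d6be0b088f66, 0, 0⟩]),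
    (5, [⟨0, 0, 125, dz19 175 38 0x5aa75fb4b45f66d1365fab6f4d21f7982cad3d134679f38684327b99c1e4c9da8453b7, 0, 0⟩])]
    (by decide +kernel)

theorem nMcL : No Spor.McL := no19 tMcL _ (fun _ => rfl)
    [(2, [⟨0, 0, 128, dz19 131 18 0x6ac3ff460391e3f713f85c9bb053875, 0, 0⟩]),
    (3, [⟨0, 0, 729, dz19 989 18 0xef55bde7db0f520a0ff6dd7a618083542143dd2ce985, 0, 0⟩]),
    (5, [⟨0, 0, 125, dz19 199 18 0x23915af6cb40e5b64f853b5e7847a0bad7, 0, 0⟩])]
    (by decide +kernel)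

theorem nHS : No Spor.HS := no19 tHS _ (fun _ => rfl)
    [(2, [⟨0, 0, 512, dz19 451 20 0x2f4c1d8e1bcd7d8a9d2ea7be544208370d582a09919, 0, 0⟩]),
    (5, [⟨0, 0, 125, dz19 173 21 0x3be1e29fa36fedaeac9256df7606eeda14d64bb, 0, 0⟩])]
    (by decide +kernel)

theorem nSuz : No Spor.Suz := no19 tSuz _ (fun _ => rfl)
    [(2, [⟨0, 0, 8192, dz19 8263 37 0xad726b5a7a729b708476ed728d6780569186833a6e625fa36c9d50c12aac9ede364864f7001068445c87dc5e11c3c7fc0239d718a323630c293b6420, 0, 0⟩]),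
    (3, [⟨0, 0, 2187, dz19 2091 36 0x170b64c26ca82f3f2e6f92a3da0a4f712bb44a416db1c0a85bb7f0a0d3950127a1d0ca8302cd9ec23651384f322a6eca655, 0, 0⟩])]
    (by decide +kernel)

theorem nHe : No Spor.He := no19 tHe _ (fun _ => rfl)
    [(2, [⟨0, 0, 1024, dz19 827 25 0x134e25b938543395143907fffdb672fc4536fdbde66cb812abdb3977ff04e, 0, 0⟩]),
    (3, [⟨0, 0, 27, dz19 29 23 0x24b1e8d878a0f1dba18efe998e59, 0, 0⟩]),
    (7, [⟨0, 0, 343, dz19 369 25 0x5222188bfacb0e122254859b94cecc7788194ecc2c0b50d1d28b1, 0, 0⟩])]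
    (by decide +kernel)

theorem nRu : No Spor.Ru := no19 tRu _ (fun _ => rfl)
    [(2, [⟨0, 0, 16384, dz19 6403 28 0x3cb44b5c8e41ebb763eb6ab2ff4df125f4161fc9da6f0e9e4afa940f11b573fd8907c06bbf297bea42002e77, 0, 0⟩]),
    (3, [⟨0, 0, 27, dz19 39 24 0xecb456687eb6a20533be25af03a9270, 0, 0⟩]),
    (5, [⟨0, 0, 125, dz19 177 28 0x315fb8d638a63c87bd6ea8ecd3fe5eb3c7956599b85c4c3d919, 0, 0⟩])]
    (by decide +kernel)

theorem nON : No Spor.ON := no19 tON _ (fun _ => rfl)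
    [(2, [⟨0, 0, 512, dz19 395 22 0x8ad52cfd9e030248f856ce28913ef5808b75215152812da, 0, 0⟩]),
    (3, [⟨0, 0, 81, dz19 149 22 0x2470f7f3f7c22e1ce5a00a2aec414dab53bb8e9, 0, 0⟩]),
    (7, [⟨0, 0, 343, dz19 599 22 0x5b3662a973123502d06929534a799a98a11e66cd330335b212, 0, 0⟩])]
    (by decide +kernel)

theorem nLy : No Spor.Ly := no19 tLy _ (fun _ => rfl)
    [(2, [⟨0, 0, 256, dz19 251 37 0xf3d6e7d30193bebe2d3886e08ba8a6237195f855f53ee6c8981b267054f410a809f360937, 0, 0⟩,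
    ⟨1, 1, 128, dz19 83 36 0x8bbe3065e9ac0f7981c83782d3d81c2a77f74d3dddb3395da0a2f4d83, 3, 5⟩]),
    (3, [⟨0, 0, 2187, dz19 2525 38 0x1a4dae53cee178e1a7eda9e2563141f5c8b83598c799743ec15af0277a4b5a056461d782f8ef3a727e9e79ae79ab76595d90dedf64f, 0, 0⟩]),
    (5, [⟨0, 0, 15625, dz19 25543 39 0x66ff9dc5befe29d95a5193715be0e4298dbdb5d124b71b7670a51aae4b538938afea2e1ffae9167b6bf2984c1221635595685ea4b2cf5d1201fe255eb77a2bb0ead4d2af9f0b2c, 0, 0⟩])]
    (by decide +kernel)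

theorem nFi22 : No Spor.Fi22 := no19 tFi22 _ (fun _ => rfl)
    [(2, [⟨0, 0, 131072, dz19 104215 59 0x139bf1791b28e0ef71c273c90da16919e9a4376485f1a337533eced417cdb04f85389ed2e3f25f507fa711fe493d77d3048093708939ff98a3a7400afc22677fc979a0bfca307460eff0fdcaca161699a8cfc29ec68b4db37464715e4c088ca94d24ac70962e24baf6affff9036f6551e9f697d55bef8a6f4f21f0, 0, 0⟩]),
    (3, [⟨0, 0, 19683, dz19 24867 59 0x325dd01da67311745f0787b14a12394b21170832db00f4d350e177bdad87e61a5c6406d2f55a584cec8363011d99de00fed68cbf2e27b3ab580c52110788402af48fd6d4fde2b343057bd31c61bf43e40a6e544252b8aa0351bffdd2d96ec987fa9cb58d38c6cfc012dd07, 0, 0⟩])]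
    (by decide +kernel)

theorem nFi23 : No Spor.Fi23 := no19 tFi23 _ (fun _ => rfl)
    [(2, [⟨0, 0, 262144, dz19 187291 91 0x6bcffa0892c94fee1020913b3070f2414e5994b8280b0b5026269acea9f0dc3800e3c6e62dba6040719dce2bc6e130a9c831b33bf0d511b58a9ad4c63a71f96194a1892c687358c7716d7b3b82833642385712ae32a073da781c4f4ec3cab1a965ff49f4d524ffc1726da2bdd4d3ec03ba58b04a7b6f7a522f7cd1d3423e3c43e134481c5c423c0dc6d7f36a889ccc805a7b9abe8cd25d7b894ec6dde992eddf6543763499542e2fb792845a097e97f74210b421cd8b97cbf0c7d2b6ab34d3acb516825c4007dc, 0, 0⟩]),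
    (3, [⟨0, 0, 1594323, dz19 1745417 92 0xe753c23afb8abf32174b62c0cf653c704ec3afa584264fb02cdadae6e39cbfef0da01ec4628911b6cac9b7e1a2bff8acffa579dfc2b06d059e2ba342a9a5a5c38104977200f22209cf467711695f7160117de3e8dfe137c72a5ad0276e8135379e79f59f7705f5240edc4fe57b10af1a786385a3bfaee2ed96ca864bf5840810bb41e757a92f8d75875f20b0f5341e7c802ea25050cc81fe5221e92441305e01c9c41833bf5b48d7210547daff71c00073bc6b923b66a518a46a7d7e6a105a6f7dc9226a24b84a202af4617e46f14d8e076d9ca373d590fb63934f4c38449dd6b5a28cf8d3e7cbeb1288e84ea5f, 0, 0⟩])]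
    (by decide +kernel)

theorem nFi24 : No Spor.Fi24' := no19 tFi24 (pkC19 F24.consT.length F24.colsT) (pkC19_mkR _ F24.degs _)
    [(2, [⟨0, 0, 2097152, dz19 2126247 94 0x131e8ec4ef5f2e07bf15429df074c633c9f8dc517e76ea0ef1fa458b927175fa0985cd4f3054566f3f24f49664e7408aadfe9a4779afb2cbaf9559481277ba7f75c7e34bd3d26482ec8b73c3d2688f1b68d2265de0d4d1846b2aa9229109ce187da059f7a0fdd4bbaa9a156e15513cc286c741bf64525d422a92d17631474b59914ceeb9939b528e538dba69f51feaf46db25c013589a3ff8cb77182423128c6cd4c946fd25ca66aa061c03a608ed8ca1eaa9793f378e8cb6506d9a4f5af62b7843939fc9a52af69f541eb5d2902c1f8404e193b9a6a840f8b193782c15bf385538f0d41cfc3c471044fd9e863191f6ab5e32e897873c6, 0, 0⟩]),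
    (3, [⟨0, 0, 43046721, dz19 37735391 94 0x4b661bd6fdb2363186e1b05c27c81d0e8361c3eeccbd210cac06b20edc28b770c42ca7479f065a07e844cbd98fe28303cce9f9192a83d3661873541dcb0ff13e25c4bdb860ad1e25f7ba8eff0b23f3ab14220d1b9a087df3be6e4d72d2878712f5727d39f9987b701bf25a080c1b32520356dfea46e03690f0f2d5b4c8e9723e1e16f044be97acf6e40368ad289b98d529ff8062e32e1f5dff2b59f8481e0424211b2b395542176bab7dbb63543b9928a75672b2292c35b973df463ad4a66ada599ee437b8a7e66a3b626dc1572d3401e1778cbc9bc2bfe477d728b8e27be4c05ea5b46183046b5831dbba537863e893ae01e6cc64c78c16f9088438e6468c91b2e95755eeae72823e3da984da7cf356b14d97f57c51d1c7ebba469ff41112e36346bac4c8dfce7, 0, 0⟩]),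
    (7, [⟨0, 0, 343, dz19 535 91 0x377244097bcb817d46fbc2bfadeffd9bc8cdce2036a8cd6fb975759727b394b036853e0510f9a9cbe5aa7fd7e0983bfe5bbfd69690d317433b1746d23f7e92dd9876b906b03ee00cef9944d7bf5db6397bb1e12992cb88d9c2103292b17ab4aeafefbe2fff3730, 0, 0⟩])]
    (by decide +kernel)

theorem nHN : No Spor.HN := no19 tHN _ (fun _ => rfl)
    [(2, [⟨0, 0, 16384, dz19 14671 43 0x2333044ea1b747bd87a76189e000565bdd896c00ade84f80a4927293ace2186faa516798a711e7946ae88a6476ccd77f16de78588e1ed2910dc1d96551b30480d28e701d3ee6195622a9d, 0, 0⟩]),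
    (3, [⟨0, 0, 729, dz19 929 43 0x9a627c16c6d42928753c0f57720724dafafc65f5d4d1af0fb8c183d3753b4539446f3536c4dc28fc293e81403c57f17c602eccd6a, 0, 0⟩]),
    (5, [⟨0, 0, 15625, dz19 14715 42 0x118b7935ae59deef1d1eaa8493c35c71ec05fc7761b8f77d4e27cd98a5bbaf99de7f806c2736eaa23e5a0fa4183d77fdf5085f9b71a7de50e2ff2f07a5ded9107a7e1d3678b3dd4c9, 0, 0⟩])]
    (by decide +kernel)

theorem nTh : No Spor.Th := no19 tTh _ (fun _ => rfl)
    [(2, [⟨0, 0, 32768, dz19 28075 39 0x1004e568e7d64c6e554379699055a776357f76af014cb0e67ec708d4053c8d4c8015dd942e4aa0f7a40140c7d95db2b38c3ae09f67d846739ed56e7699751c32e2f29849f6a55c98, 0, 0⟩]),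
    (3, [⟨0, 0, 59049, dz19 31773 39 0x1638960be0596a606a0be8000a57f6363b01a8325899b6a4516930a793d2f3353f26cd69719883ba9d89a9608ce493a7d80992044c3d0fab404a72d5993a8ead6854d487047c397750, 0, 0⟩]),
    (5, [⟨0, 0, 125, dz19 203 39 0xc2a4d35505fb2df850d94701af83482fc7a6386b411b79f1bfc864db30ed1fea54695dea11, 0, 0⟩]),
    (7, [⟨0, 0, 49, dz19 89 38 0xd3d6bd81da83d752117c374a9026f963b8d04994f725d9ae97995aab2671, 0, 0⟩])]
    (by decide +kernel)

theorem nB : No Spor.BabyMonster := no19 tB (pkC19 175 B.Fin.cols) pkBO19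
    [(2, [⟨0, 0, 2199023255552, dz19 1576933926675 175 0x8b3888af2ca92607565feb1ac20f5541590f423538e34e2bad009ea34373ca06f0f0551e72ee11fc6b4c4d33ae36f6eb48de59231798bdc1c699b423c2b1a900606efc8711a27f594ff5d13987f7aece573946be893cd4c3f9b3745e1d0f6516f69aa75c6db92afaa2cace20002edd2db2120b8985c8a2dce785b3d965b1619805747551d37087523eb2476c5bb4039238cf3bb275f896509fa5de17a9663e558babd1bd5a8ac024b2e49c2f54c6fc651f02a382271e1b194f338ab70054c3086938103245b753747d083dcf739e750a8cafc249ae89e08539d0046933622c5340b32d5032cbdbb7b407e93582627648c72ad0bfc4f9bc0f3bc96d2ce9c4ee2616e3a74c59b117238601be5b23fb3f1555b6373ff8be116df572e507ebcc920fdb4d495996f452109ee5fa5bf229b0d4d2fb2cf617f1a2aa0894b4f07c5f344d50e1c2b9635d54ba9247f01fbb7fe69ee2e2bda8008ba774050f1e8afa13be7b2266b52c24888508603d3b330ba8cc6ff72ebc8c878d101e77ef27f4afc862569aa17d8790fbb53e7fd51a72c06663c643694b855a8eb9effbbc0b7530afc1b94485c0214ed8cf9e5ebc9a0f360ea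9f060342edac9dc6cb49a3838fb4410e87740c7d9460ee948cb6486c6f8a16072ea3398ae500a37aac9a4a4117e26775e594791d832e4754e9a00a8722f66e0da949765e88bbfa4ec7f62ab13ff2eed77e795b200e3e66fc1d2862d854f5361917c45a396fd771f0e744f26222a11464e204f67edab7489e6bad7fbb9f08b7e5b4cc7548b2bbe7973bc0e14f47d58f7d740370b8d48b5b91fbd42e6d43057b919aee8bb2d71229da3b08e119790104c1303956dceea04d47ec5565ba4991c8a2f94b18e707841ec7684e1afa15f0a357db33976afcbcf641e1c4c41d17b79baeb903300fb1b1d35dfb1817ceae0f851b166030c8adc0c9efb9f65f12d3c7682665f676dda1cb148377afea738ad9733b887d4d3db3f2c006691d6cd064f9b304775449fd1b8fdf2b51d047efbcf10db139e5ccfa36e6a733dc627d7d82c728280cc7e5c586e54441c8a23abd7c74c244265e24039088526a1b3b373fe275aef76cbfa1c2b71c8f3f29067fca8fe32ec155c19e5dcd5a341e7a7fb146d1e9d810255c16e5d6e55dc8dc34f5d324185f225e17bc0812eedaee87b10ba2018976e75fe35e68ec9bd43c392f06afa98ef5b9753aa8f9c035a8c95e259141131ba280cd4521123572b63, 0, 0⟩]),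
    (3, [⟨0, 0, 1594323, dz19 2061935 175 0x6f5366fc2cd58b9076ea547b14713cef6d76caa0c7995b08ad4013cfa81dea71623425786b7534de7333d399ef27f392764eaf1e682e6c9d5ab197b28b4638b5ae138c448e00d138164e317d200145c265b1fe3b1d769612c8cfe52da3a6276a277af55bb060ae059deaa77485cdbe385e0fa5bbf3f3d1a1c2ecca56e9b5c1e87913da97b8d9920b0662d95f9f92f7b1d639acdfed57fa8428c7615ed65c40e029641c946657f5c47f269503e5d7e41b76b78a4f39efceebd7aad9a1a32a4089a08b89b84d1473e86932affdb149df5aa3710c8fc86a58aed9f4735e48380206ed2b7d4c7a3ee32fe9508ff9ff58f2a32d631cc75fb1c571b2bedcd1a61e24f1b2b4a2eeb90df7e915df26eba1563ed995b1601ce4ba1f3e43791f7c5c3d39fd54e10c545bd4b5f7fbaa81dab6f0ef1e26d98c9ae47744bf9fdfd8a55e3308eb1b3170f0be92c11bb7e04a2d2f48911f040c53a46c55a2ec9e2dc7160ce5bdac3618383653d9005d676a959218a1bb51bd29765f996695d0b82086d2f256d9beb68a6f4134ba9ea42665af01015c70c26394a3d82cab11dc3b795ffecc287affaa69a73989149a0da03145fa45f8dd17fa3446c138d20ce9809db01a6ff5bbafa4df0e213cc70ceedc5a4,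 0, 0⟩]),
    (5, [⟨0, 0, 15625, dz19 23073 170 0x1e8766d3b68b5a510f883f53074a77f1dfac7ca4ff85566c69ee6b2c53ca67a7a282202e4476b7709f82aa6b9ebea477f343c1a1510635085dda45761ad6e3358fd556821e2261f48e23c8f182a8b15d665225b82f1367c29a0a1c5fd29da9479f50134232e34171179f698590a51314a49f9e6267e22b62990a730c9f3decffe0b4adbec0273e066309625518990b311339d30a54006567e487b33a2b62c80cd6aec4f7e4102e9a340f0663ea6af8dc838d744b2b999e19597798dbb0d4c9b98fbd0ff0d9c36f0da9614e2b2e9ad18876cefaf97f5b7ec2e6ac8560eec0d0448e330dcc523864457cf44f9512bb78a26894926d2d4f13dbeb158d13eaef7caed640ad586973dd3362df9e6ba08ec7d1bbd50227bd215a1a7f3234af7f516647aa5e1835bfd086725037f94020dbf9b59db97f3a, 0, 0⟩]),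
    (7, [⟨0, 0, 49, dz19 89 173 0x38bbfd31ca1e22d274f42930fba03a07653dbbcd802ccc1b9765c40b7f9919f67b87461c87b84a1ff267f2c0e564a480f7083c577cee005eb5751a9190e0d8a2c777a8f8d6fe79cdf2246f53cd1075375196d1afb9fcd255bf69ea4054857c8ee5a6efc394ef0d45857f5a1b6eb44f6f672a64966fa19ec7a714b37569d00627dc23a56a2de0c799325524f, 0, 0⟩,
    ⟨1, 1, 49, dz19 93 170 0x22b946139f8088dc0b02b6ab7f3dde703dfb97637e40ca5f2e5628462e81e9bdc1a28a42fa44e595093a075d347903acd8e77f77d256b569e136cc904dbd3e03e74ce65dc83b61d85d369760c88607ac3e964cbd83407ed894a9be7ebeb3133640bc0e36ce193d64bdfed99efbb24af8dc6172f81c5afb016f68d602456ec887fc4220e681f4f014cc2c9, 2, 3⟩,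
    ⟨6, 6, 49, dz19 79 122 0x3618c5dd6878607558e88fb6d6095cd4aa9679245259af6318e966b47337bc05726b972e70fdb8aafce72b01ef463e7a7d97520ca44dae66213428b254ae9b32bce52664bef51e1f2e791cf67af03a7fc2ccd78b22bb95fbb03df1f65464e429, 2, 8⟩])]
    (by decide +kernel)

theorem nM : No Spor.Monster := no19 tM (pkC19 M.cons.length M.cols) (pkC19_mkR _ M.degs _)
    [(2, [⟨0, 0, 70368744177664, dz19 53028984691739 170 0x3110e47a1920d1ad56b25d43c1052c9e1d9689788f46091aa9bf5dfb3639528fe5198b063ad1cb3154a1c83290d45170f97ec023f39767e4967e356a384811a11f25346000a387117f02990f0bd6c41c23ceae70ee5ba54a257cbdcc42f379409d524656ddb7ad171c37f53f37df606d7d1e0c3e8bd1692b390a1354fc175c5c04e0cc34073503ecb0318754272ba09e07af2285de2d7f4f7ef3e4d7b22671fc64d4d7ba53a5da199b22f22c4a999bbb5cc27b90277a1e05d325b3e27d24738ac89a295e7d650337de5c11198fa7497c739e41d8123371953cd77b33112dba689d0368181275217096fe81c425fa43c7aaaaeeaf1944e788eca88332c146f0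a6e328b807e65bb4aa3f98849006c9f339be3664fe88af2ca3352b5c1cb7547c5ace29a00d3c9851b2166caf79032c1c2c3c16805777c3a5b54d8158e43e36b723a8e7452883dfadce2dacc69e352f94220763f1d141ac0944e3f5a517d627a40b9fc8db8a8b230d0bbfb2eb0012cf70bfda9d16b5d495ecd7e8f18a39baf8ecc627eb86fbdf790dbf51e60a750e54dda7b753002a937ed06d43428d3180aa65c4bd965787b70cdd78867c2341faf779fd7b4871164ababc09c2d67f865e1cd30414d4991368931d1505dc236dc0641ee4ebc2aa5187ea5dfc793889ed2480eca11df9d135a038164c79ef991576a6efbc0a3c535811ef4a2fa9009274411d8c0d701db79b0e450b482de20bcf0ad96f04548c38429cb7a0394b758d909c9bd1e40731c392ca05b00d46c4f626e6627f20af4f1ab108029295ea0758cb31188f7bc8d61812566bf538e4fad04b1d193b27eee0b3815959ef850a52132286d5748a55caf52d090d5c65e3901b88ff9c9c100c7aa6d6fe5d1342524b741ee5e4ac2531ae923f468863e33ae8269c4aac9b56a29703209ec0f12348472856c35e04fd1a899c03a72221546f2a7d5139ac2e05bcf57470d2cf2be3349f3a312085a6153fc97b87df2f68b1b8a56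bf73b23ed393c189bb0c1edc167cf188e3c82cf075b04ef4d784afee98f442efc9e58864544b23d7e6808547c08b779b1d6845ebb527d23f4cc1cde638c45dd0141424bcee9c7f61a5a426b0683ba73461345e0a12199bf9794b2f2cc88fb038029ecf66b1877d877988547e6e6d33c56d9670f80562dac6f4a2e70c04116d825b24a2f87c1fef48c34314e8b58be79fe2f94d5ad6a59ab698d66bf2b3fdcc1a18b662d003d66a0a6f93de0dbc4f66a3232b4158631c2f589c54daf0ddeb2705e796aef64ee7df1e5707a0738c83bf28679a3ffcf4f53b4f6e705c48e09b0b5982e30fa5183ff022ca9825cd09fc86df5e8387d963f18cac10876d3aede2, 0, 0⟩]),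
    (3, [⟨0, 0, 3486784401, dz19 4025623221 171 0xf0848643d5e99a9dc2e52c80a3558a9640a11a472bb7dd7c806ba31115b991add7e21944b4f71de79e3aee0e3590ccefcdd856631fce68c9a08ebc843c307706ec67aa583f5dd5a36e90f30d1cf1071d5f45c2aee5de658f0f18bcd890a41187a72c1ed1cac1d8b7c45e6cafb5a354c4887930bd1d5862067d5e7acd2a7df667878d721d747e70f67487ac0583db73b618e00013ce1885d5d76d5f2ac16bcd6a6c04fc6d55bc0160863af74aa202918c871985ff04297601e7f3ad90267982e9c9ccc783676018d592bbb48deb54debacf46d1512372943da54642df8d104b98095ec416a5b92e0c57059712289d50f90f9440b305735f9485a4b088fae734f382dec686a0a3e9b5e7b3f0f28f5bf421bb42c932846608c12a15bd449964b04f6fb6a1b67781ad16269023fe005b59bcb6655bd4a46d4ba3a424b504d895a16bb1968000c6e4442d500bc62529eb851c9ac349bbc404fd70134221bad11662c1935307e3cb72acaa53d16441532823312adf5eb7271d979bcc23613ca8623adf1a7d24091d28e4ba8dbd37e25b4f2b089f83e42b5834c8684a8d25ee8f646e54c0cb456b1dea687abf48e7fefee41646be5d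a52ca24d91fd3cafcb3692753c17021372c488478004d78ab30d3f9668cc5bb29612378569832d47f0f6732a774f21d38483bc64c1741434e07de32bc84a7490b7fd7c07b590182935ff0d0331f5b89ec1d6e631dbd6532a455d34b24e75ee3a035de06369f75491ff6c815a1db6ed0225c64763bb51b117f2689797579280810fd0f967354231423f9b6a26d37070a24c670f9d347035c86d3d32f4de84fc575a35589e005a4472bea3a419fc704e36212d3cb3c1d6002182266fdfe44ea8ae38db30832eb4600d352ffb92f10907997c10298461ad2323cae300f20e55d19cac2ee5b0e4bce83111424fb8177493e63fed5af373c96f1, 0, 0⟩,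
    ⟨54, 65, 27, dz19 29 159 0x5e92a5ca2b9ac85e4b28cee042fb0a1bae39d0acdf6e5102e07a2cfbcba1ffe1b5a7a1f4f6c41a688ebbd6691feb0aeb1ae21ba06153bcb27cdeb2d5cbce58d41f4e3caa0146ed046ccdadcf58e313ebb1aaa9097f284c127ae7f792b66404cb8, 2, 63⟩]),
    (5, [⟨0, 0, 1953125, dz19 3053123 171 0xd6a51616fca20fd99b961a8324ac604d99f266bce3f8c9193f6d1de1f9d92b3708c550c4c22776888a55f037d4249e743060ae19442c9d334b6df3338736ba41c005a1c866bfcb8e3098203d145d79bbec8589102dd673ee77bdd7c857f75185e5a6137e03c006026345165961da3ad9cf7b6cdf81ea699d064a78dc7849a157af5bda8485c69157bbef371a51a46c0b8c534be40622387fee6bfbabf108e1b1ff8e0d86434567f3147bf22580cd0564ff37b5b540b69ea9feab501b39a1675f891bbe1a91aa0c472bc6e3475275686000335ba3f213b48b1ec7caf86c5ab605b22e4cce2b2f8fc59ce35b19487bfc76abe065734e4052a6f820d3d82205ec406bc77ef5972cb22349a5304b3478009255e5e375b8289ac5a04c64b4dad8462e965382709a66b38a92d44a99f11c9347b76de3280d7277b09ba4922e7e92748dede78e95762ad0ca6c5b677884912d3b2277d10bc7a6b11d70a3e5084b2c8231abe3e93ae4d92f7d1b9f3f69372f921980322a2010817d03d01e64a91ac5c62b97f312a275731561228c778a828a956e39c55bbf9a7377b4937c92f0cc277f56629414b4fb08438070ee962c82e1d7501994bdc44174e5ae49d853ba94290c6696ef6929ce3f89712387336f,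 0, 0⟩]),
    (7, [⟨0, 0, 117649, dz19 195093 171 0x2094b04ba606ede2d25fa097307e03ce421ab4b5c2ce459a657e2b4e73b45ac7908b1bf0fb39ec9af6240638b029b4bd35af8d6f3c2c8f04f60af4428e48a4b353edbfe8ab6949a3ebd5c45df436c539f61ffa8cd980dc1b7f537246266a0d39418990c48789dd8584180004080460fcaca5a328296e9d07056f7557286761b83cd6ecfc827db6e2a26ccc654ecdb0b45dad7b362d6590e43c8584319403c5f5132e2c532577df7f97acfb2aadbeffdd0c1bef8598164213812445cd4f036aedbee7c8f510525d7b00cef0a795b7675f4e202d7edd98736e7fb1dd56b94fe922997450d777929e07a8bf375bb8c1a9e8e4d554a27bb30aaddea3964574fb9906102d8d39ec95586746f3305d4fa57eff7fa0645ecce81baf1fc0ea328137e68ab3876111be777a42297b8a027d26408fb9ba300c4f68d8f77db3285a7a51523090f17642102bbdf94ff00b24c9f909619c1bbc1ba32d3b4027cf36490f2fcc6412f65fbe68ef63f2114b34756a00e147bb37554a15f9720, 0, 0⟩,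
    ⟨9, 9, 49, dz19 93 170 0xaf1c5e6f3ee66adbaaf8ff34e00e381e0a102bf25af3f5190f3decf186d3a8a7cce6a54fe5ca8b14ff60777deedc0ece149881cfac2b043d246f69735c3b9084d1216b75d2604fdebceb7feb36a1fcc2f46629b50ad094b750e175181f2823fbf43e1b66ef0db205791a6828bd3497ce2659438b2b5cf8b4ac61577937c321890d3ab68d39460f6726dba, 2, 12⟩]),
    (11, [⟨0, 0, 121, dz19 225 163 0x19273dff8edea0818b85d3fe424a9918f625d28b307f1242143c4a8b062934078267f00a6bffadd9a15aae9ce0fb0025da0e3050ff4511c28f766d4207919100f803c9b2955ac1522f8cadc6c3cbb07e3f483e7b019dc151d1024e75950d620db85f6872d13f3bf53c117fc3219d464add95fabf8373b5ad32b568abcea7b3debbae65bfaddc930f185c152c397c49c8440f37f1753e7111c87fc12dd3ff8b, 0, 0⟩]),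
    (13, [⟨0, 0, 2197, dz19 3837 171 0xc23ffb442a42803bba0589e89d5849d654211ffa5847c6810214ae7a15d8b55b5b8add7faeb266a0b6fdcb3aa3fa5a20cd4d5141527100ecb60f0d56e4aa3f8da83849a1f244a519f9d38bfac31d1a027ba69ae9d36f5f33583e8a26c68a368283e979aa5517f736ed2793414373a073ca7e6a63f79f938fc9a52351745313f6fb3af4817b67e63d28c8ba6825f775279c06a8e00299f397c1a06b42811ee9080c16db1c5d05058bf889e994ee2c2b20abb1e4b5e5d851a919aa9377c7e9b5bf354261cdb42097ece5dd2162cec242166cff37f12b3aa3465a304b331c92f78b652a10aa9e641bf668220cdf39f7c0fe66972940308bb60aff77050511da, 0, 0⟩])]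
    (by decide +kernel)

end Cfsg.Agent.OM.Sp1
end

-- part: OM/Lo/DE
section
prune_inst 0x6c0202004000000000018000010003a42c20000000040000010800c0000823e2000010001000009000200004000300008000000000000000000000000000000000000000000000000620000001103000000000000000000000000000000041000000000000
set_option linter.all false
open scoped Cfsg.Agent.FastGrp

-- part: OM/Lo/DEA
section
/-!
# OM (S4894): an extension of degree three of a group with Sylow subgroups of order seven (helper35)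

* `DE.al` : two different characters over the same local character are not conjugate.
-/

set_option autoImplicit false
set_option linter.unusedSectionVars false

namespace Cfsg.Agent.OM.Lo.DE

open Cfsg Subgroup Cfsg.Agent.Characters Cfsg.Agent.Characters.Core Cfsg.Agent.Blocks.Basic
  Cfsg.Agent.SmallSimple.ThetaSetup Cfsg.Agent.SmallSimple.ThetaOrtho Cfsg.Agent.SmallSimple.TheoremC
  Cfsg.Agent.OddOrderCharacters.IndRes
open scoped ComplexConjugate

theorem z1 : ∀ a b : (ZMod 7)ˣ, b ≠ 1 → b ^ 3 = 1 → ∃ j : Fin 3, a ^ 2 * b ^ (j : ℕ) = 1 := by decide +kernel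

theorem z2 : ∀ a b : (ZMod 7)ˣ, a ^ 3 = 1 → b ≠ 1 → b ^ 3 = 1 → ∃ j : Fin 3, a * (b ^ (j : ℕ))⁻¹ = 1 := by decide +kernel

theorem z3 : ∀ a b : (ZMod 7)ˣ, a ^ 3 = 1 ∨ b ^ 3 = 1 ∨ (b * a⁻¹) ^ 3 = 1 := by decide +kernel

theorem z4 : ∀ a : (ZMod 7)ˣ, a ≠ 1 → a ^ 3 = 1 → a ^ 2 ≠ 1 := by decide

theorem z5 : ¬ 7 ∣ Nat.card (ZMod 7)ˣ := by rw [Nat.card_eq_fintype_card]; decide

/-- the action on a subgroup of order seven -/
theorem exists_phi {X : Type} [Group X] [Finite X] (R : Subgroup X) (h : Nat.card R = 7) :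
    ∃ φ : normalizer (R : Set X) →* (ZMod 7)ˣ, ∀ g, φ g = 1 ↔ (g : X) ∈ centralizer (R : Set X) := by
  have : Fact (Nat.Prime 7) := ⟨by norm_num⟩
  have : IsCyclic R := isCyclic_of_prime_card h
  have e := IsCyclic.mulAutMulEquiv R
  rw [h] at e
  refine ⟨e.toMonoidHom.comp R.normalizerMonoidHom, fun g => ?_⟩
  rw [← mem_subgroupOf, ← normalizerMonoidHom_ker, MonoidHom.mem_ker]
  exact e.map_eq_one_iff

section sums

variable {L : Type} [Group L] [Fintype L]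

/-- the pairing -/
noncomputable def pt (f χ : L → ℂ) (x : L) : ℂ := ∑ y, χ (x * y) * conj (f y)

theorem part_ne {Y : Subgroup L} (θ : Y → ℂ) (χ : L → ℂ) (x : L) : part θ χ x ≠ 0 ↔ pt (extendByZero Y θ) χ x ≠ 0 := by
  have := Fintype.ofFinite Y
  rw [part_eq, mul_ne_zero_iff_left (inv_ne_zero (card_ne_zero_complex (G := Y))), pt,
    Fintype.sum_of_injective Y.subtype (subtype_injective _) _ (fun y => χ (x * y) * conj (extendByZero Y θ y))
      (fun y hy => by rw [extendByZero_of_notMem _ _ fun h => hy ⟨⟨y, h⟩, rfl⟩, map_zero, mul_zero])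
      fun y => by rw [coe_subtype, extendByZero_of_mem _ _ y.2]]

theorem pt_aut (α : MulAut L) (f χ : L → ℂ) (x : L) : pt (f ∘ α) (χ ∘ α) x = pt f χ (α x) := by
  simp only [pt, Function.comp_apply, map_mul]
  exact Equiv.sum_comp α.toEquiv fun y => χ (α x * y) * conj (f y)

end sums

variable {K L : Type} [Group K] [Fintype K] [Group L] [Fintype L]

/-- the stabiliser of a function -/
def St (a : K →* MulAut L) (f : L → ℂ) : Subgroup K where
  carrier := {k | f ∘ a k = f}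
  one_mem' := by rw [Set.mem_ofPred_eq, map_one]; rfl
  mul_mem' {x y} hx hy := by
    rw [Set.mem_ofPred_eq, map_mul, MulAut.coe_mul, ← Function.comp_assoc, hx, hy]
  inv_mem' {x} hx := by
    rw [Set.mem_ofPred_eq, ← hx, Function.comp_assoc, ← MulAut.coe_mul, ← map_mul, mul_inv_cancel, map_one, hx]; rfl

theorem ind {ι : L →* K} (hι : Function.Injective ι) [ι.range.Normal] :
    ∃ a : K →* MulAut L, (∀ k x, ι (a k x) = k * ι x * k⁻¹) ∧ ∀ ψ : L → ℂ, IsIrrCharacter L ψ → St a ψ ≤ ι.range →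
      ∃ χ : IrrCharacter K, (∀ k ∉ ι.range, (χ : K → ℂ) k = 0) ∧
        ∀ x, (χ : K → ℂ) (ι x) = (Nat.card ι.range : ℂ)⁻¹ * ∑ k, ψ (a k x) := by
  let e := MonoidHom.ofInjective hι
  have he : ∀ y : ι.range, ι (e.symm y) = y := fun y => MonoidHom.apply_ofInjective_symm hι y
  refine ⟨(MulAut.congr e.symm).toMonoidHom.comp MulAut.conjNormal, fun k x => he _, fun ψ hψ hs => ?_⟩
  refine ⟨⟨indFun ι.range (ψ ∘ e.symm), isIrr_indFun_of_stabilizer _ (isIrr_comp e.symm.toMonoidHom e.symm.surjective hψ)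
    fun g hg => hs (funext fun x => ?_)⟩, fun k hk => indFun_eq_zero_of_forall _ _ fun x h => hk ?_, fun x => ?_⟩
  · exact (congrFun hg (e x)).trans (congrArg ψ (e.symm_apply_apply x))
  · exact (Normal.mem_comm_iff ‹_›).1 h |> fun h => by simpa only [_root_.MonoidHom.mem_range, _root_.mul_inv_cancel_left] using h
  · have h := congrFun (res_indFun ι.range (ψ ∘ e.symm)) (e x)
    rw [Pi.smul_apply, Finset.sum_apply, smul_eq_mul] at h
    exact h

/-- the frame -/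
structure Fr [Fact (Nat.Prime 7)] (ι : L →* K) (a : K →* MulAut L) (μ : K →* (ZMod 7)ˣ) (P : Sylow 7 L) (Y : Subgroup L)
    (Q : Sylow 7 K) (Z : Subgroup K) : Prop where
  inj : Function.Injective ι
  act : ∀ k x, ι (a k x) = k * ι x * k⁻¹
  ker : ∀ k, μ k = 1 ↔ k ∈ ι.range
  cube : ∀ k, μ k ^ 3 = 1
  cP : Nat.card P = 7
  cQ : Nat.card Q = 7
  map : (Q : Subgroup K) = (P : Subgroup L).map ι
  hY : IsComp 7 (P : Subgroup L) Y
  hZ : IsComp 7 (Q : Subgroup K) Z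

namespace Fr

variable [Fact (Nat.Prime 7)] {ι : L →* K} {a : K →* MulAut L} {μ : K →* (ZMod 7)ˣ} {P : Sylow 7 L} {Y : Subgroup L}
  {Q : Sylow 7 K} {Z : Subgroup K} (F : Fr ι a μ P Y Q Z)

include F

theorem mu (l : L) : μ (ι l) = 1 := (F.ker _).2 ⟨l, rfl⟩

theorem inn (l x : L) : a (ι l) x = l * x * l⁻¹ := F.inj (by rw [F.act, map_mul, map_mul, map_inv])

theorem memP (x : L) : ι x ∈ (Q : Subgroup K) ↔ x ∈ (P : Subgroup L) := by rw [F.map, mem_map_iff_mem F.inj]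

theorem cen (x : L) : ι x ∈ centralizer ((Q : Subgroup K) : Set K) ↔ x ∈ centralizer ((P : Subgroup L) : Set L) := by
  rw [F.map, mem_centralizer_iff, mem_centralizer_iff, coe_map, Set.forall_mem_image]
  simp only [← map_mul, F.inj.eq_iff]

theorem memY (y : L) : ι y ∈ Z ↔ y ∈ Y := by rw [F.hZ, F.hY, F.cen, orderOf_injective ι F.inj]

theorem nor {g : L} (hg : g ∈ normalizer ((P : Subgroup L) : Set L)) : ι g ∈ normalizer ((Q : Subgroup K) : Set K) :=
  F.map ▸ le_normalizer_map ι (mem_map_of_mem ι hg)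

theorem aY {k : K} (hk : k ∈ normalizer ((Q : Subgroup K) : Set K)) (y : L) : a k y ∈ Y ↔ y ∈ Y := by
  rw [← F.memY, ← F.memY, F.act]
  exact ⟨fun h => by simpa [mul_assoc] using conj_mem F.hZ (inv_mem hk) h, conj_mem F.hZ hk⟩

theorem dec {w : K} (hw : μ w ≠ 1) (k : K) : ∃ (i : ℕ) (l : L), k = ι l * w ^ i := by
  obtain ⟨i, hi⟩ := z2 _ _ (F.cube k) hw (F.cube w)
  obtain ⟨l, hl⟩ := (F.ker (k * (w ^ (i : ℕ))⁻¹)).1 (by rw [map_mul, map_inv, map_pow, hi])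
  exact ⟨i, l, by rw [hl, inv_mul_cancel_right]⟩

theorem exists_tw {θ : Y → ℂ} (hθ : IsIrrCharacter Y θ) {k : K} (hk : k ∈ normalizer ((Q : Subgroup K) : Set K)) :
    ∃ θ', IsIrrCharacter Y θ' ∧ extendByZero Y θ' = extendByZero Y θ ∘ a k := by
  refine ⟨_, isIrr_comp (((a k).toMonoidHom.comp Y.subtype).codRestrict Y fun y => (F.aY hk y).2 y.2)
    (fun y => ⟨⟨(a k).symm y, (F.aY hk _).1 (by rw [MulEquiv.apply_symm_apply]; exact y.2)⟩,
      Subtype.ext ((a k).apply_symm_apply y)⟩) hθ, funext fun x => ?_⟩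
  by_cases hx : x ∈ Y
  · rw [extendByZero_of_mem _ _ hx, Function.comp_apply, Function.comp_apply, extendByZero_of_mem _ _ ((F.aY hk x).2 hx)]
    rfl
  · rw [extendByZero_of_notMem _ _ hx, Function.comp_apply, extendByZero_of_notMem _ _ (mt (F.aY hk x).1 hx)]

theorem ext_tw (θ : Y → ℂ) {g : L} (hg : g ∈ normalizer ((P : Subgroup L) : Set L)) :
    extendByZero Y (tw θ g) = extendByZero Y θ ∘ a (ι g) := funext fun x => by
  by_cases hx : x ∈ Y
  · rw [extendByZero_of_mem _ _ hx, Function.comp_apply, F.inn]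
    rfl
  · rw [extendByZero_of_notMem _ _ hx, Function.comp_apply, extendByZero_of_notMem _ _ (mt (F.aY (F.nor hg) x).1 hx)]

variable {θ : Y → ℂ} (hθ : IsIrrCharacter Y θ) {ψ ψ' : IrrCharacter L} (hψ : ψ ∈ Over P θ)

include hθ hψ

/-- the local character is invariant -/
theorem inv (nd : ¬ 3 ∣ Nat.card (centralizer (P : Set L))) {t : L} (ht : t ∈ normalizer ((P : Subgroup L) : Set L)) (h1 : t ≠ 1) (h3 : t ^ 3 = 1) (hc : ∀ y ∈ Y, t * y = y * t)
    (hψ' : ψ' ∈ Over P θ) {n : K} (hn : n ∈ normalizer ((Q : Subgroup K) : Set K)) (hμ : μ n ≠ 1)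
    (e : (ψ' : L → ℂ) ∘ a n = ψ) :
    centralizer ((Q : Subgroup K) : Set K) ≤ St a (extendByZero Y θ) ∧ ∃ r ∈ centralizer ((Q : Subgroup K) : Set K), μ r ≠ 1 := by
  have : Fact (Nat.Prime 3) := ⟨by norm_num⟩
  obtain ⟨θ', h4, h5⟩ := F.exists_tw hθ hn
  obtain ⟨x, h6, h7⟩ := hψ'
  have h8 : ψ ∈ Over P θ' := by
    refine ⟨⟨a n⁻¹ x, (F.memP _).1 ?_⟩, fun h => h6 (Subtype.ext ((a n⁻¹).map_eq_one_iff.1 (congrArg Subtype.val h))), ?_⟩
    · rw [F.act]
      exact (mem_normalizer_iff.1 (inv_mem hn) _).1 ((F.memP _).2 x.2)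
    · rwa [part_ne, h5, ← e, pt_aut, ← MulAut.mul_apply, ← map_mul, mul_inv_cancel, map_one, MulAut.one_apply, ← part_ne]
  obtain ⟨g, h9, h10⟩ : ∃ g ∈ normalizer ((P : Subgroup L) : Set L), tw θ g = θ' := by_contra fun h =>
    Set.disjoint_left.1 (disjoint_Over F.hY F.cP hθ h4 fun g hg e => h ⟨g, hg, e⟩) hψ h8
  have h11 : n * (ι g)⁻¹ ∈ St a (extendByZero Y θ) := by
    show _ ∘ a _ = _
    rw [map_mul, MulAut.coe_mul, ← Function.comp_assoc, ← h5, ← h10, F.ext_tw θ h9, Function.comp_assoc, ← MulAut.coe_mul,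
      ← map_mul, mul_inv_cancel, map_one]
    rfl
  have h12 : ι t ∈ St a (extendByZero Y θ) := (F.ext_tw θ ht).symm.trans (congrArg _ (funext fun y => by
    rw [tw_apply F.hY θ ht]
    exact congrArg θ (Subtype.ext (mul_inv_eq_iff_eq_mul.2 (hc y y.2)))))
  obtain ⟨φ, hφ⟩ := exists_phi (Q : Subgroup K) F.cQ
  obtain ⟨j, hj⟩ := z1 (φ ⟨_, mul_mem hn (inv_mem (F.nor h9))⟩) (φ ⟨_, F.nor ht⟩)
    (fun h => nd (orderOf_eq_prime h3 h1 ▸ (centralizer _).orderOf_dvd_natCard ((F.cen t).1 ((hφ _).1 h))))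
    (by rw [← map_pow, ← φ.map_one]; exact congrArg φ (Subtype.ext (by rw [coe_pow, ← map_pow, h3, map_one, coe_one])))
  rw [← map_pow, ← map_pow, ← map_mul, hφ, coe_mul, coe_pow, coe_pow] at hj
  have h13 : μ ((n * (ι g)⁻¹) ^ 2 * ι t ^ (j : ℕ)) ≠ 1 := by
    rw [map_mul, map_pow, map_pow, map_mul, map_inv, F.mu, F.mu, inv_one, mul_one, one_pow, mul_one]
    exact z4 _ hμ (F.cube n)
  refine ⟨fun k hk => ?_, _, hj, h13⟩
  obtain ⟨i, l, rfl⟩ := F.dec h13 k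
  have h14 := (F.cen l).1 ((mul_mem_cancel_right (pow_mem hj i)).1 hk)
  refine mul_mem ?_ (pow_mem (mul_mem (pow_mem h11 2) (pow_mem h12 j)) i)
  exact (F.ext_tw θ (centralizer_le_normalizer _ h14)).symm.trans
    (congrArg _ (tw_centralizer F.hY F.cP (isIrr_isClassFunction hθ) h14))

variable (hs : centralizer ((Q : Subgroup K) : Set K) ≤ St a (extendByZero Y θ)) {r : K}
  (hr : r ∈ centralizer ((Q : Subgroup K) : Set K)) (hμ : μ r ≠ 1)

include hs

omit hψ in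
/-- the extension -/
theorem exists_ext : ∃ η, IsIrrCharacter Z η ∧ ∀ (y : Y) (z : Z), (z : K) = ι y → η z = θ y := by
  let N := (μ.comp Z.subtype).ker
  let j : Y →* N := ((ι.comp Y.subtype).codRestrict Z fun y => (F.memY y).2 y.2).codRestrict N fun y => F.mu y
  let e := MulEquiv.ofBijective j ⟨fun x y h => Subtype.ext (F.inj (congrArg (fun z : N => ((z : Z) : K)) h)), fun z => by
    obtain ⟨y, hy⟩ := (F.ker _).1 z.2
    exact ⟨⟨y, (F.memY y).1 (hy ▸ z.1.2)⟩, Subtype.ext (Subtype.ext hy)⟩⟩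
  obtain ⟨η, h1, h2⟩ := S0886.result N (isCyclic_of_injective _ (QuotientGroup.kerLift_injective (μ.comp Z.subtype))) _
    (isIrr_comp e.symm.toMonoidHom e.symm.surjective hθ) fun g n => by
      obtain ⟨y, rfl⟩ := e.surjective n
      have h3 := (F.aY (centralizer_le_normalizer _ (F.hZ.le g.2)) y).2 y.2
      have h4 := congrFun (hs (F.hZ.le g.2)) y
      rw [Function.comp_apply, extendByZero_of_mem _ _ h3, extendByZero_of_mem _ _ y.2] at h4
      exact (congrArg θ (e.symm_apply_eq.2 (Subtype.ext (Subtype.ext (F.act g y).symm)))).trans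
        (h4.trans (congrArg θ (e.symm_apply_apply y).symm))
  refine ⟨η, h1, fun y z hz => ?_⟩
  obtain rfl : z = e y := Subtype.ext hz
  exact (h2 (e y)).trans (congrArg θ (e.symm_apply_apply y))

include hr hμ

/-- the induced character lies over all extensions -/
theorem mem_over {χ : IrrCharacter K} (h0 : ∀ k ∉ ι.range, (χ : K → ℂ) k = 0) {c : ℂ} (hc : c ≠ 0)
    (h1 : ∀ x, (χ : K → ℂ) (ι x) = c * ∑ k, (ψ : L → ℂ) (a k x)) {η : Z → ℂ} (hη : ∀ (y : Y) (z : Z), (z : K) = ι y → η z = θ y) :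
    χ ∈ Over Q η := by
  obtain ⟨x, h2, h3⟩ := hψ
  rw [part_ne] at h3
  refine ⟨⟨ι x, (F.memP _).2 x.2⟩, fun h => h2 (Subtype.ext (F.inj ((congrArg Subtype.val h).trans ι.map_one.symm))), ?_⟩
  have h4 : ∀ k, pt (extendByZero Y θ) ((ψ : L → ℂ) ∘ a k) x = pt (extendByZero Y θ) ψ x := fun k => by
    obtain ⟨i, l, rfl⟩ := F.dec hμ k
    have h5 : (ψ : L → ℂ) ∘ a (ι l) = ψ := funext fun y => by rw [Function.comp_apply, F.inn, irr_conj ψ.2]
    have h6 : a (r ^ i) x = x := F.inj (by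
      rw [F.act, ← mem_centralizer_iff.1 (pow_mem hr i) _ ((F.memP _).2 x.2), mul_inv_cancel_right])
    rw [map_mul, MulAut.coe_mul, ← Function.comp_assoc, h5]
    exact (congrArg (pt · _ _) (hs (pow_mem hr i)).symm).trans ((pt_aut _ _ _ _).trans (congrArg _ h6))
  rw [part_ne, pt, ← Fintype.sum_of_injective ι F.inj (fun y => c * ∑ k, ((ψ : L → ℂ) ∘ a k) (x * y) * conj (extendByZero Y θ y)) _
    (fun k hk => by rw [h0 _ fun h => hk ((ι.range.mul_mem_cancel_left ⟨x, rfl⟩).1 h), zero_mul]) fun y => ?_, ← Finset.mul_sum,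
    Finset.sum_comm]
  · erw [Finset.sum_congr rfl fun k _ => h4 k]
    rw [Finset.sum_const, nsmul_eq_mul]
    exact mul_ne_zero hc (mul_ne_zero (Nat.cast_ne_zero.2 Fintype.card_ne_zero) h3)
  · rw [← map_mul, h1, mul_assoc, Finset.sum_mul]
    by_cases hy : y ∈ Y
    · rw [extendByZero_of_mem _ _ hy, extendByZero_of_mem _ _ ((F.memY y).2 hy), hη ⟨y, hy⟩ _ rfl]
      rfl
    · rw [extendByZero_of_notMem _ _ hy, extendByZero_of_notMem _ _ (mt (F.memY y).1 hy)]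
      rfl

/-- an extension is conjugate to its twist -/
theorem exists_m (h : St a (ψ : L → ℂ) ≤ ι.range → ∃ χ : IrrCharacter K, (∀ k ∉ ι.range, (χ : K → ℂ) k = 0) ∧
    ∀ x, (χ : K → ℂ) (ι x) = (Nat.card ι.range : ℂ)⁻¹ * ∑ k, (ψ : L → ℂ) (a k x)) {n : K} (hn : n ∉ St a (ψ : L → ℂ)) :
    ∃ (η : Z → ℂ) (ν : (ZMod 7)ˣ →* ℂˣ), IsIrrCharacter Z η ∧ η 1 = θ 1 ∧ ν (μ r) ≠ 1 ∧
      ∃ m ∈ normalizer ((Q : Subgroup K) : Set K), tw η m = fun z => η z * ν.comp (μ.comp Z.subtype) z := by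
  obtain ⟨χ, h0, h1⟩ := h fun k hk => by_contra fun h2 => by
    obtain ⟨i, l, rfl⟩ := F.dec (mt (F.ker k).1 h2) n
    exact hn (mul_mem (funext fun y => by rw [Function.comp_apply, F.inn, irr_conj ψ.2]) (pow_mem hk i))
  obtain ⟨η, h2, h3⟩ := F.exists_ext hθ hs
  obtain ⟨ν, hν⟩ := CommGroup.exists_apply_ne_one_of_hasEnoughRootsOfUnity (ZMod 7)ˣ ℂ hμ
  let l : Z →* ℂˣ := ν.comp (μ.comp Z.subtype)
  have hc := inv_ne_zero (card_ne_zero_complex (G := ι.range))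
  exact ⟨η, ν, h2, h3 1 1 ι.map_one.symm, hν, by_contra fun h =>
    Set.disjoint_left.1 (disjoint_Over F.hZ F.cQ h2 (CharactersDeep.ExtUnique.isIrr_mul_hom h2 l) fun g hg e => h ⟨g, hg, e⟩)
      (F.mem_over hθ hψ hs hr hμ h0 hc h1 h3) (F.mem_over hθ hψ hs hr hμ h0 hc h1 fun y z hz => by
        rw [h3 y z hz, show l z = 1 from (congrArg (fun k => ν (μ k)) hz).trans (by rw [F.mu, map_one]), Units.val_one, mul_one])⟩

/-- the determinant -/
theorem false_of (nd : ¬ 3 ∣ Nat.card (centralizer (P : Set L)))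
    (h : St a (ψ : L → ℂ) ≤ ι.range → ∃ χ : IrrCharacter K, (∀ k ∉ ι.range, (χ : K → ℂ) k = 0) ∧
    ∀ x, (χ : K → ℂ) (ι x) = (Nat.card ι.range : ℂ)⁻¹ * ∑ k, (ψ : L → ℂ) (a k x)) {n : K} (hn : n ∉ St a (ψ : L → ℂ)) : False := by
  have : Fact (Nat.Prime 3) := ⟨by norm_num⟩
  obtain ⟨η, ν, h2, h3, hν, m, h4, h5⟩ := F.exists_m hθ hψ hs hr hμ h hn
  let l : Z →* ℂˣ := ν.comp (μ.comp Z.subtype)
  obtain ⟨d, h6, h7⟩ := Blocks.ReynoldsAux.exists_degree_dvd hθ
  obtain ⟨δ, hδ⟩ := CharactersDeep.ExtUnique.exists_hom_detChar h2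
  obtain ⟨x, hx, y, hy, rfl⟩ := F.hZ.exists_mul F.cQ hr
  obtain ⟨x, -, rfl⟩ : x ∈ (P : Subgroup L).map ι := F.map ▸ hx
  rw [map_mul, F.mu, one_mul] at hν
  have h8 := congrFun (H706.Canon.detChar_comp h2 (cK F.hZ h4)) ⟨y, hy⟩
  rw [show η ∘ cK F.hZ h4 = fun z => η z * l z from (funext fun z => (tw_apply F.hZ η h4 z).symm).trans h5,
    CharactersDeep.ExtUnique.detChar_mul_hom h2 (h3.trans h6), Function.comp_apply, hδ] at h8
  beta_reduce at h8
  rw [hδ] at h8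
  obtain ⟨z, hz⟩ := (F.ker (y⁻¹ * (m * y * m⁻¹))).1 (by
    rw [map_mul, map_mul, map_mul, map_inv, map_inv, mul_inv_cancel_comm, inv_mul_cancel])
  have h9 : z ∈ Y := (F.memY z).1 (hz ▸ mul_mem (inv_mem hy) (conj_mem F.hZ h4 hy))
  have h10 : ((⟨y, hy⟩ : Z)⁻¹ * cK F.hZ h4 ⟨y, hy⟩) ^ Nat.card Y = 1 := Subtype.ext (by
    show (y⁻¹ * (m * y * m⁻¹)) ^ Nat.card Y = 1
    rw [← hz, ← map_pow, show z ^ Nat.card Y = 1 from congrArg Subtype.val (pow_card_eq_one' (x := (⟨z, h9⟩ : Y))), map_one])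
  have h11 := congrArg δ h10
  rw [map_pow, map_mul, map_inv, show δ (cK F.hZ h4 ⟨y, hy⟩) = δ ⟨y, hy⟩ * ν (μ y) ^ d from Units.ext (by push_cast; exact h8.symm),
    inv_mul_cancel_left, ← pow_mul, map_one, ← orderOf_dvd_iff_pow_eq_one,
    orderOf_eq_prime (p := 3) (by rw [← map_pow, F.cube, map_one]) hν] at h11
  exact nd (((Nat.prime_three.dvd_mul.1 h11).elim (·.trans h7) id).trans (card_dvd_of_le F.hY.le))

end Fr

/-- the frame exists -/
theorem exists_fr [Fact (Nat.Prime 7)] {ι : L →* K} (hι : Function.Injective ι) {μ : K →* (ZMod 7)ˣ} (hμ : ∀ k, μ k = 1 ↔ k ∈ ι.range)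
    (h3 : ∀ k, μ k ^ 3 = 1) {P : Sylow 7 L} (hP : Nat.card P = 7) {Y : Subgroup L} (hY : IsComp 7 (P : Subgroup L) Y) :
    ι.range.Normal ∧ ∃ a Q Z, Fr ι a μ P Y Q Z ∧ ∀ ψ : L → ℂ, IsIrrCharacter L ψ → St a ψ ≤ ι.range →
      ∃ χ : IrrCharacter K, (∀ k ∉ ι.range, (χ : K → ℂ) k = 0) ∧
        ∀ x, (χ : K → ℂ) (ι x) = (Nat.card ι.range : ℂ)⁻¹ * ∑ k, ψ (a k x) := by
  have h1 : ι.range = μ.ker := Subgroup.ext fun k => (hμ k).symm
  have : ι.range.Normal := h1 ▸ inferInstance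
  obtain ⟨a, ha, hi⟩ := ind hι
  have h2 : ¬ 7 ∣ ((P : Subgroup L).map ι).index := by
    rw [index_map_of_injective _ hι, (Fact.out : Nat.Prime 7).dvd_mul, h1, index_ker]
    exact not_or.2 ⟨P.not_dvd_index, fun h => absurd (h.trans (card_subgroup_dvd_card _)) z5⟩
  let Q := (P.isPGroup'.map ι).toSylow h2
  have h4 : Nat.card Q = 7 := (card_map_of_injective hι).trans hP
  obtain ⟨Z, hZ⟩ := exists_isComp Q h4
  exact ⟨this, a, Q, Z, ⟨hι, ha, hμ, h3, hP, h4, rfl, hY, hZ⟩, hi⟩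

/-- **two different characters over the same local character are not conjugate** -/
theorem al [Fact (Nat.Prime 7)] {ι : L →* K} (hι : Function.Injective ι) {μ : K →* (ZMod 7)ˣ} (hμ : ∀ k, μ k = 1 ↔ k ∈ ι.range)
    (h3 : ∀ k, μ k ^ 3 = 1) {P : Sylow 7 L} (hP : Nat.card P = 7) (hn : ¬ 3 ∣ Nat.card (centralizer (P : Set L))) {Y : Subgroup L}
    (hY : IsComp 7 (P : Subgroup L) Y) {t : L} (ht : t ∈ normalizer ((P : Subgroup L) : Set L)) (t1 : t ≠ 1) (t3 : t ^ 3 = 1)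
    (hc : ∀ y ∈ Y, t * y = y * t) {θ : Y → ℂ} (hθ : IsIrrCharacter Y θ) {ψ ψ' : IrrCharacter L} (hψ : ψ ∈ Over P θ)
    (hψ' : ψ' ∈ Over P θ) (hne : ψ ≠ ψ') {s : K} (hs : ∀ x x', ι x' = s * ι x * s⁻¹ → (ψ' : L → ℂ) x' = (ψ : L → ℂ) x) : False := by
  obtain ⟨_, a, Q, Z, F, hi⟩ := exists_fr hι hμ h3 hP hY
  obtain ⟨_, ⟨l, rfl⟩, n, h5, rfl⟩ := mem_sup_of_normal_left.1 (sup_comm _ ι.range ▸
    (Q.normalizer_sup_eq_top' (F.map.le.trans (map_le_range _ _))).ge (mem_top s))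
  have h6 : (ψ' : L → ℂ) ∘ a n = ψ := funext fun x => by
    rw [← hs x _ (F.act _ x), map_mul, MulAut.mul_apply, F.inn, irr_conj ψ'.2, Function.comp_apply]
  have h7 : n ∉ St a (ψ : L → ℂ) := fun h => hne (Subtype.ext ((a n).surjective.injective_comp_right (h.trans h6.symm)))
  obtain ⟨h8, r, h9, h10⟩ := F.inv hθ hψ hn ht t1 t3 hc hψ' h5 (fun h => by
    obtain ⟨l, rfl⟩ := (hμ n).1 h
    exact h7 (funext fun y => by rw [Function.comp_apply, F.inn, irr_conj ψ.2])) h6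
  exact F.false_of hθ hψ h8 h9 h10 hn (hi _ ψ.2) h7

/-- **the same with a given second element** -/
theorem al1 [Fact (Nat.Prime 7)] {ι : L →* K} (hι : Function.Injective ι) {μ : K →* (ZMod 7)ˣ} (hμ : ∀ k, μ k = 1 ↔ k ∈ ι.range)
    (h3 : ∀ k, μ k ^ 3 = 1) {P : Sylow 7 L} (hP : Nat.card P = 7) {Y : Subgroup L}
    (hY : IsComp 7 (P : Subgroup L) Y) {t : L} (ht : t ∈ normalizer ((P : Subgroup L) : Set L))
    (t1 : t ∉ centralizer ((P : Subgroup L) : Set L)) (t3 : t ^ 3 = 1) (hc : ∀ y ∈ Y, t * y = y * t) {r : K} (r1 : μ r ≠ 1) (r3 : r ^ 3 = 1)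
    (rP : ∀ x ∈ (P : Subgroup L), ι x * r = r * ι x) (rY : ∀ y ∈ Y, ι y * r = r * ι y) (rt : ι t * r = r * ι t)
    {θ : Y → ℂ} (hθ : IsIrrCharacter Y θ) {ψ ψ' : IrrCharacter L} (hψ : ψ ∈ Over P θ)
    (hne : ψ ≠ ψ') {s : K} (hs : ∀ x x', ι x' = s * ι x * s⁻¹ → (ψ' : L → ℂ) x' = (ψ : L → ℂ) x) : False := by
  obtain ⟨_, a, Q, Z, F, hi⟩ := exists_fr hι hμ h3 hP hY
  have h1 : r ∈ centralizer ((Q : Subgroup K) : Set K) := by
    rw [F.map, mem_centralizer_iff, coe_map, Set.forall_mem_image]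
    exact rP
  have h2 : r ∈ St a (extendByZero Y θ) := funext fun y => by
    by_cases hy : y ∈ Y
    · rw [Function.comp_apply, show a r y = y from hι (by rw [F.act, ← rY y hy, mul_inv_cancel_right])]
    · rw [Function.comp_apply, extendByZero_of_notMem _ _ hy,
        extendByZero_of_notMem _ _ (mt (F.aY (centralizer_le_normalizer _ h1) y).1 hy)]
  obtain ⟨η, ν, h4, -, h5, m, h6, h7⟩ := F.exists_m hθ hψ (fun k hk => by
      obtain ⟨i, l, rfl⟩ := F.dec r1 k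
      have h4 := (F.cen l).1 ((mul_mem_cancel_right (pow_mem h1 i)).1 hk)
      exact mul_mem ((F.ext_tw θ (centralizer_le_normalizer _ h4)).symm.trans
        (congrArg _ (tw_centralizer F.hY F.cP (isIrr_isClassFunction hθ) h4))) (pow_mem h2 i)) h1 r1 (hi _ ψ.2) (n := s)
    fun h => hne (Subtype.ext ((a s).surjective.injective_comp_right (h.trans (funext fun x => (hs x _ (F.act s x)).symm))))
  have h8 : r ∈ Z := (F.hZ r).2 ⟨h1, fun h => absurd (h.trans (orderOf_dvd_of_pow_eq_one r3)) (by decide)⟩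
  have h9 : ∀ z ∈ Z, z * r = r * z ∧ z * ι t = ι t * z := fun z hz => by
    obtain ⟨i, l, rfl⟩ := F.dec r1 z
    have h10 := (F.memY l).1 ((mul_mem_cancel_right (pow_mem h8 i)).1 hz)
    exact ⟨Commute.mul_left (rY l h10) (Commute.pow_self r i),
      Commute.mul_left (Commute.map (hc l h10).symm ι) (Commute.pow_left rt.symm i)⟩
  obtain ⟨φ, hφ⟩ := exists_phi (Q : Subgroup K) F.cQ
  obtain ⟨j, hj⟩ := z1 (φ ⟨_, h6⟩) (φ ⟨_, F.nor ht⟩) (fun h => t1 ((F.cen t).1 ((hφ _).1 h)))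
    (by rw [← map_pow, ← φ.map_one]; exact congrArg φ (Subtype.ext (by rw [coe_pow, ← map_pow, t3, map_one, coe_one])))
  rw [← map_pow, ← map_pow, ← map_mul, hφ, coe_mul, coe_pow, coe_pow] at hj
  have h10 := congrFun (tw_centralizer F.hZ F.cQ (isIrr_isClassFunction h4) hj) ⟨r, h8⟩
  rw [tw_mul F.hZ _ (pow_mem h6 2) (pow_mem (F.nor ht) _), tw_apply F.hZ _ (pow_mem (F.nor ht) _),
    show (⟨_, conj_mem F.hZ (pow_mem (F.nor ht) _) (⟨r, h8⟩ : Z).2⟩ : Z) = ⟨r, h8⟩ from Subtype.ext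
      (mul_inv_eq_iff_eq_mul.2 (Commute.pow_left rt (j : ℕ))), sq, tw_mul F.hZ _ h6 h6, h7, tw_apply F.hZ _ h6,
    ← tw_apply F.hZ η h6, h7] at h10
  simp only [MonoidHom.comp_apply, coe_subtype, map_mul, map_inv, mul_inv_cancel_comm] at h10
  have := Fintype.ofFinite Z
  obtain ⟨c, h11⟩ := H644.CentralQuot.exists_scalar_center ⟨η, h4⟩ (z := ⟨r, h8⟩)
    (mem_center_iff.2 fun z => Subtype.ext (h9 z z.2).1)
  have h12 : η ⟨r, h8⟩ ≠ 0 := fun h => by
    have h13 := h11 1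
    have h14 := h11 ⟨r, h8⟩⁻¹
    rw [one_mul] at h13
    rw [inv_mul_cancel, (mul_eq_zero.1 (h13.symm.trans h)).resolve_right (isIrr_apply_one_ne_zero h4), zero_mul] at h14
    exact isIrr_apply_one_ne_zero h4 h14
  rw [mul_assoc, mul_right_eq_self₀, or_iff_left h12, ← Units.val_mul, Units.val_eq_one] at h10
  have h13 : ν (μ r) ^ 3 = 1 := by rw [← map_pow, h3, map_one]
  exact h5 (by rwa [pow_succ, sq, h10, one_mul] at h13)

end Cfsg.Agent.OM.Lo.DE
end

-- part: OM/Lo/Desc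
section
/-!
# OM (S4894): descent to the centraliser of an element of order `p` (helper57)

* `Desc.van` : the non-exceptional characters of a block of defect one agree up to sign on the `p`-singular elements;
* `Desc.key` : the norm of the induced function is an integer;  `boxDesc`.
-/

set_option autoImplicit false
set_option linter.unusedSectionVars false

namespace Cfsg.Agent.OM.Lo

open Cfsg Subgroup Cfsg.Agent.Characters Cfsg.Agent.Characters.Core Cfsg.Agent.Blocks Cfsg.Agent.Blocks.Basic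
  Cfsg.Agent.Blocks.Blau Cfsg.Agent.H613.RegGram Cfsg.Agent.H644.CentralQuot Cfsg.Agent.OddOrderCharacters.VChar
  Cfsg.Agent.H658 Cfsg.Agent.H658.RegPow Cfsg.Agent.H649
open scoped ComplexConjugate

namespace Desc

variable {p : ℕ} [hp : Fact p.Prime] {M : Ideal AlgInt}

section one

variable {K : Type} [Group K] [Fintype K]

/-- the values on the `p`-singular elements -/
theorem van (hM : IsPModular p M) {c X Y : Set (IrrCharacter K)} (hc : IsPBlock M c) (hXY : c = X ∪ Y) (hd : Disjoint X Y)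
    (hr : blockRank p c = Nat.card X) {δ : IrrCharacter K → ℤ} {δ₀ : ℤ} (hδ : ∀ χ ∈ X, δ χ = 1 ∨ δ χ = -1) (h0 : δ₀ = 1 ∨ δ₀ = -1)
    (hrel : ∀ ψ ∈ Y, ∀ g : K, ¬ p ∣ orderOf g → (δ₀ : ℂ) * (ψ : K → ℂ) g + ∑ᶠ χ ∈ X, (δ χ : ℂ) * (χ : K → ℂ) g = 0)
    {y : K} (hy : p ∣ orderOf y) {χ : IrrCharacter K} (hχ : χ ∈ X) :
    (δ χ : ℂ) * (χ : K → ℂ) y = δ₀ * ∑ᶠ ψ ∈ Y, (ψ : K → ℂ) y := by
  have := finite_irr (G := K)
  have := Fintype.ofFinite X
  have := Fintype.ofFinite Y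
  have h1 : ∀ ψ ∈ Y, ∀ g, ¬ p ∣ orderOf g → (ψ : K → ℂ) g = ∑ χ : X, -(δ₀ * δ χ : ℂ) * (χ.1 : K → ℂ) g := fun ψ hψ g hg => by
    have h2 := hrel ψ hψ g hg
    rw [← finsum_set_coe_eq_finsum_mem, finsum_eq_sum_of_fintype] at h2
    simp only [neg_mul, mul_assoc, Finset.sum_neg_distrib, ← Finset.mul_sum]
    rcases h0 with rfl | rfl <;> push_cast at h2 ⊢
    · linear_combination h2
    · linear_combination -h2
  have h2 : LinearIndependent ℂ fun χ : X => regPart p (χ.1 : K → ℂ) := by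
    rw [linearIndependent_iff_card_eq_finrank_span, Set.finrank, ← Nat.card_eq_fintype_card, ← hr, blockRank]
    refine congrArg (fun V : Submodule ℂ (K → ℂ) => Module.finrank ℂ V) (le_antisymm (Submodule.span_le.2 ?_) (Submodule.span_le.2 ?_))
    · rintro _ ⟨ψ, hψ, rfl⟩
      beta_reduce
      rw [pRegularPart_eq_regPart]
      rcases hXY ▸ hψ with h3 | h3
      · exact Submodule.subset_span ⟨⟨ψ, h3⟩, rfl⟩
      · rw [show regPart p (ψ : K → ℂ) = ∑ χ : X, -(δ₀ * δ χ : ℂ) • regPart p (χ.1 : K → ℂ) from funext fun g => by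
          rw [Finset.sum_apply]
          by_cases hg : p ∣ orderOf g
          · simp only [Pi.smul_apply, regPart_of_dvd hg, smul_zero, Finset.sum_const_zero]
          · simp only [Pi.smul_apply, regPart_of_not_dvd hg, smul_eq_mul, h1 ψ h3 g hg]]
        exact Submodule.sum_mem _ fun χ _ => Submodule.smul_mem _ _ (Submodule.subset_span ⟨χ, rfl⟩)
    · rintro _ ⟨ψ, rfl⟩
      exact Submodule.subset_span ⟨ψ.1, hXY ▸ Or.inl ψ.2, pRegularPart_eq_regPart p _⟩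
  have h3 := Fintype.linearIndependent_iff.1 h2
    (fun χ => conj ((χ.1 : K → ℂ) y) - δ₀ * δ χ * ∑ ψ : Y, conj ((ψ.1 : K → ℂ) y)) (funext fun g => by
      rw [Finset.sum_apply]
      by_cases hg : p ∣ orderOf g
      · simp only [Pi.smul_apply, regPart_of_dvd hg, smul_zero, Finset.sum_const_zero, Pi.zero_apply]
      have h3 := S0907.result p M hM c hc g y hg hy
      rw [hXY, finsum_mem_union hd (Set.toFinite _) (Set.toFinite _), ← finsum_set_coe_eq_finsum_mem,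
        ← finsum_set_coe_eq_finsum_mem, finsum_eq_sum_of_fintype, finsum_eq_sum_of_fintype,
        Finset.sum_congr rfl fun (ψ : Y) _ => by rw [h1 ψ.1 ψ.2 g hg], ← Finset.mul_sum, Finset.sum_mul,
        ← Finset.sum_add_distrib] at h3
      rw [Pi.zero_apply, ← h3]
      exact Finset.sum_congr rfl fun χ _ => by rw [Pi.smul_apply, regPart_of_not_dvd hg, smul_eq_mul]; ring) ⟨χ, hχ⟩
  have h4 := congrArg conj h3
  simp only [map_sub, map_mul, map_intCast, map_sum, Complex.conj_conj, map_zero] at h4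
  rw [← finsum_set_coe_eq_finsum_mem, finsum_eq_sum_of_fintype]
  rcases hδ χ hχ with h5 | h5 <;> rw [h5] at h4 ⊢ <;> push_cast at h4 ⊢
  · linear_combination h4
  · linear_combination -h4

/-- the pattern of a block of defect one -/
theorem pat (hM : IsPModular p M) {c : Set (IrrCharacter K)} (hc : IsPBlock M c) (hd : blockDefect p c = 1) :
    ∃ (X : Set (IrrCharacter K)) (δ : IrrCharacter K → ℤ), X ⊆ c ∧ X.ncard = blockRank p c ∧ (∀ χ ∈ X, δ χ = 1 ∨ δ χ = -1) ∧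
      (∀ χ ∈ X, ∀ χ' ∈ X, ∀ y, p ∣ orderOf y → (δ χ : ℂ) * (χ : K → ℂ) y = (δ χ' : ℂ) * (χ' : K → ℂ) y) ∧
      (X.Nontrivial → p ≤ c.ncard → blockRank p c = p - 1) := by
  have := finite_irr (G := K)
  obtain ⟨D, hD⟩ := H592.Defect.exists_defectGroup p hM hc
  have h1 : Nat.card D = p ^ 1 := by
    obtain ⟨k, hk⟩ := (H592.Defect.isPGroup_of_isDefectGroup hD).exists_card_eq
    have h2 := H592.Defect.factorization_card_defect p hM hc hD
    rw [hk, hp.out.factorization_pow, Finsupp.single_eq_same, hd] at h2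
    rw [hk, h2]
  have h2 : IsCyclic D := isCyclic_of_prime_card (h1.trans (pow_one p))
  obtain ⟨b, hb⟩ := exists_root_centralizer hM ⟨⟨fun x y => (IsCyclic.commGroup (α := D)).mul_comm x y⟩⟩ hD hc
  obtain ⟨T, hT⟩ := exists_stabilizer hM D hb.1
  have h3 := S4695.result p M hM D h2 1 le_rfl h1 c hc hD b hb T hT _ rfl
  obtain ⟨⟨k, h4⟩, -, X, Y, h88⟩ := S4696.result p M hM D h2 1 le_rfl h1 c hc hD b hb T hT _ rfl
  revert h88; rintro ⟨h5, h6, h7, h8, -, h88⟩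
  revert h88; rintro ⟨δ, δ₀, h9, h10, h11, -⟩
  rw [← h3] at h4 h7 h8
  refine ⟨X, δ, h5 ▸ Set.subset_union_left, h7, h9, fun χ h χ' h' y hy =>
    (van hM hc h5 h6 h7.symm h9 h10 h11 hy h).trans (van hM hc h5 h6 h7.symm h9 h10 h11 hy h').symm, fun h h' => ?_⟩
  have h12 : 1 < blockRank p c := h7 ▸ (Set.one_lt_ncard_iff_nontrivial (s := X)).2 h
  rw [pow_one, h4, Nat.mul_div_cancel_left _ (zero_lt_one.trans h12)] at h8
  rw [h5, Set.ncard_union_eq h6, ← Nat.card_coe_set_eq, ← Nat.card_coe_set_eq, h7, h8] at h'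
  have h13 := hp.out.two_le
  generalize blockRank p c = e at *
  obtain rfl : k = 1 := by
    rcases k with _ | _ | k
    · omega
    · rfl
    · obtain ⟨e, rfl⟩ : ∃ e', e = e' + 2 := ⟨e - 2, by omega⟩
      have h14 : (e + 2) * (k + 1 + 1) = e * k + 2 * e + 2 * k + 4 := by ring
      omega
  rw [h4, mul_one]

end one

section split

variable {H : Type} [Group H] [Fintype H] {U : Subgroup H} [U.Normal] [Fintype U] {f : H → ℂ}

/-- `f` comes from a function on the `p`-regular elements of `H / U` -/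
structure Nice (p : ℕ) (U : Subgroup H) (f : H → ℂ) : Prop where
  ker : ∀ z ∈ U, ∀ y, f (z * y) = f y
  sup : ∀ y, f y ≠ 0 → ∃ z ∈ U, ¬ p ∣ orderOf (z⁻¹ * y)

theorem split (hU : U ≤ center H) (hq : IsPGroup p U) (hf : Nice p U f) (g : H → ℂ) :
    classInner g f = ∑ z : U, rg p (fun v => g (z * v)) f := by
  simp only [rg_eq_classInner, Core.classInner_def, ← Finset.mul_sum]
  rw [Finset.sum_congr rfl fun (z : U) _ => (Equiv.sum_comp (Equiv.mulLeft (z : H)⁻¹) _).symm, Finset.sum_comm]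
  refine congrArg _ (Finset.sum_congr rfl fun y _ => ?_)
  simp only [Equiv.coe_mulLeft, hf.ker _ (inv_mem (Subtype.prop _))]
  by_cases h0 : f y = 0
  · simp only [h0, map_zero, mul_zero, Finset.sum_const_zero]
  obtain ⟨z, hz, h1⟩ := hf.sup y h0
  rw [Finset.sum_eq_single ⟨z, hz⟩ (fun w _ hw => ?_) fun h => (h (Finset.mem_univ _)).elim, regPart_of_not_dvd h1,
    mul_inv_cancel_left]
  rw [regPart_of_dvd (by_contra fun h2 => hw (Subtype.ext (inv_injective (mul_right_cancel (eq_of_mk_eq hU hq h2 h1 ?_))))), zero_mul]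
  rw [QuotientGroup.mk_mul, QuotientGroup.mk_mul, (QuotientGroup.eq_one_iff _).2 (inv_mem w.2),
    (QuotientGroup.eq_one_iff _).2 (inv_mem hz)]

theorem rg_congr {g g' : H → ℂ} (h : ∀ v, ¬ p ∣ orderOf v → g v = g' v) (f : H → ℂ) : rg p g f = rg p g' f := by
  rw [rg_eq_classInner, rg_eq_classInner]
  refine congrArg (classInner · f) (funext fun v => ?_)
  by_cases hv : p ∣ orderOf v
  · rw [regPart_of_dvd hv, regPart_of_dvd hv]
  · rw [regPart_of_not_dvd hv, regPart_of_not_dvd hv, h v hv]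

theorem split' (hU : U ≤ center H) (hq : IsPGroup p U) (hf : Nice p U f) {g g' : H → ℂ}
    (h : ∀ z ∈ U, ∀ v, ¬ p ∣ orderOf v → g (z * v) = g' v) : classInner g f = Nat.card U * rg p g' f := by
  rw [split hU hq hf, Finset.sum_congr rfl fun (z : U) _ => rg_congr (h z z.2) f, Finset.sum_const, nsmul_eq_mul,
    Finset.card_univ, Nat.card_eq_fintype_card]

theorem inner_sing {g g' : H → ℂ} (h : ∀ v, p ∣ orderOf v → g' v = g v) :
    classInner g' (f - regPart p f) = classInner g f - rg p g f := by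
  simp only [rg_eq_classInner, Core.classInner_def, ← mul_sub, ← Finset.sum_sub_distrib]
  refine congrArg _ (Finset.sum_congr rfl fun y _ => ?_)
  by_cases hy : p ∣ orderOf y
  · rw [Pi.sub_apply, regPart_of_dvd hy, regPart_of_dvd hy, h y hy, sub_zero, zero_mul, sub_zero]
  · rw [Pi.sub_apply, regPart_of_not_dvd hy, regPart_of_not_dvd hy, sub_self, sub_self, map_zero, mul_zero]

theorem nice_mk {F : H ⧸ U → ℂ} (h : ∀ x, p ∣ orderOf x → F x = 0) : Nice p U fun y => F (QuotientGroup.mk y) where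
  ker z hz y := by rw [QuotientGroup.mk_mul, (QuotientGroup.eq_one_iff _).2 hz, one_mul]
  sup y h0 := by
    obtain ⟨v, h1, h2⟩ := PRegular.exists_isPRegular_lift H p U (x := QuotientGroup.mk y) fun e => h0 (h _ e)
    refine ⟨y * v⁻¹, (QuotientGroup.eq_one_iff _).1 (by rw [QuotientGroup.mk_mul, QuotientGroup.mk_inv, h2, mul_inv_cancel]), ?_⟩
    rwa [mul_inv_rev, inv_inv, inv_mul_cancel_right]

end split

theorem arith {I : Type} (T : Finset I) (d : I → ℕ) (m z : I → ℤ) (ρ : ℂ) {v : ℕ} (h1 : ∑ i ∈ T, d i ^ 2 = p ^ 2 * T.gcd d ^ 2 * v)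
    (h2 : ∀ i ∈ T, p * ρ * d i = z i) (h3 : ∑ i ∈ T, (m i - ρ * d i) * d i = 0) :
    ∃ k : ℤ, ∑ i ∈ T, (m i - ρ * d i) * conj (m i - ρ * d i) = k := by
  obtain ⟨c, hc⟩ := Finset.gcd_eq_sum_mul T fun i => (d i : ℤ)
  obtain ⟨t, ht⟩ : T.gcd (fun i => (d i : ℤ)) ∣ (T.gcd d : ℕ) :=
    Int.natAbs_dvd.1 (Int.natCast_dvd_natCast.2 (Finset.dvd_gcd fun i hi => Int.natAbs_dvd_natAbs.2 (Finset.gcd_dvd hi)))
  have h4 : p * ρ * (T.gcd d : ℕ) = ((∑ i ∈ T, z i * c i) * t : ℤ) := by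
    have h5 := congrArg (Int.cast : ℤ → ℂ) (ht.trans (congrArg (· * t) hc))
    push_cast at h5 ⊢
    rw [h5, ← mul_assoc, Finset.mul_sum]
    exact congrArg (· * _) (Finset.sum_congr rfl fun i hi => by rw [← h2 i hi, mul_assoc (p * ρ)])
  refine ⟨∑ i ∈ T, m i ^ 2 - ((∑ i ∈ T, z i * c i) * t) ^ 2 * v, ?_⟩
  have h5 := congrArg (Nat.cast : ℕ → ℂ) h1
  rw [Int.cast_sub, Int.cast_mul, Int.cast_pow, ← h4]
  push_cast at h5 ⊢
  have h6 : ∑ i ∈ T, (m i - ρ * d i) * conj (m i - ρ * d i) = ∑ i ∈ T, (m i : ℂ) ^ 2 - (ρ + conj ρ) * ∑ i ∈ T, (m i - ρ * d i) * d i -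
      ρ ^ 2 * ∑ i ∈ T, (d i : ℂ) ^ 2 := by
    simp only [Finset.mul_sum, ← Finset.sum_sub_distrib, map_sub, map_mul, map_intCast, map_natCast]
    exact Finset.sum_congr rfl fun i _ => by ring
  rw [h6, h3, h5]
  ring

section loc

variable {G : Type} [Group G] [Fintype G] {u : G}

/-- the centraliser -/
abbrev Cu (u : G) : Subgroup G := centralizer ({u} : Set G)

/-- the normaliser -/
abbrev Nu (u : G) : Subgroup G := normalizer (zpowers u : Set G)

/-- the central subgroup -/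
abbrev Uu (u : G) : Subgroup (Cu u) := (zpowers u).subgroupOf (Cu u)

theorem comm_of {y z : G} (hy : y ∈ Cu u) (hz : z ∈ zpowers u) : y * z = z * y := by
  obtain ⟨k, rfl⟩ := hz
  exact Commute.zpow_right (mem_centralizer_singleton_iff.1 hy) k

theorem zp_le : zpowers u ≤ Cu u := fun _ hz => mem_centralizer_singleton_iff.2 (comm_of (mem_centralizer_singleton_iff.2 rfl) hz).symm

theorem uu_le : Uu u ≤ center (Cu u) := fun _ hz => mem_center_iff.2 fun y => Subtype.ext (comm_of y.2 hz)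

theorem card_uu : Nat.card (Uu u) = orderOf u := by
  rw [Nat.card_congr (subgroupOfEquivOfLe zp_le).toEquiv, Nat.card_zpowers]

theorem uu_normal : (Uu u).Normal := ⟨fun z hz g => by rwa [mem_center_iff.1 (uu_le hz) g, mul_inv_cancel_right]⟩

theorem nu_le : Nu u ≤ normalizer (Cu u : Set G) := fun g hg => mem_normalizer_fintype fun y hy =>
  mem_centralizer_singleton_iff.2 (by
    have h1 := congrArg (fun x => g * x * g⁻¹) (comm_of hy ((mem_normalizer_iff''.1 hg u).1 (mem_zpowers u)))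
    simpa only [mul_assoc, _root_.mul_inv_cancel, _root_.mul_one, _root_.mul_inv_cancel_left] using h1)

theorem cu_le : Cu u ≤ Nu u := fun g hg => mem_normalizer_fintype fun z hz => by
  rwa [comm_of hg hz, mul_inv_cancel_right]

/-- the action of the normaliser -/
def ac (u : G) : Nu u →* MulAut (Cu u) := (Cu u).normalizerMonoidHom.comp (inclusion nu_le)

theorem ac_coe (g : Nu u) (y : Cu u) : (ac u g y : G) = g * y * (g : G)⁻¹ := rfl

theorem ac_mem (g : Nu u) {z : Cu u} (hz : z ∈ Uu u) : ac u g z ∈ Uu u := (mem_normalizer_iff.1 g.2 _).1 hz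

theorem ord_uu (hu : orderOf u = p) {z : G} (hz : z ∈ zpowers u) : ∃ k, orderOf z = p ^ k :=
  ((Nat.dvd_prime_pow hp.out).1 (((pow_one p).symm ▸ hu : orderOf u = p ^ 1) ▸ orderOf_dvd_of_mem_zpowers hz)).imp fun _ h => h.2

theorem part (hu : orderOf u = p) {n r : ℕ} (h : RegExp p G n r) {y z : Cu u} (hz : z ∈ Uu u) (hy : ¬ p ∣ orderOf (z⁻¹ * y)) :
    (z : G) = y * ((y : G) ^ p ^ n)⁻¹ := by
  have h1 := h.mul_pow_eq (g := (z⁻¹ * y : Cu u)) (comm_of (z⁻¹ * y).2 hz) (ord_uu hu hz)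
  rw [h.pow_of_not_dvd (g := (z⁻¹ * y : Cu u)) (by rwa [orderOf_coe]), comm_of (z⁻¹ * y).2 hz, coe_mul, coe_inv,
    coe_subtype, mul_inv_cancel_left] at h1
  rw [h1, mul_inv_rev, inv_inv, mul_inv_cancel_left]

theorem zp_eq (hu : orderOf u = p) {z : G} (hz : z ∈ zpowers u) (h1 : z ≠ 1) : zpowers z = zpowers u := by
  refine Subgroup.eq_of_le_of_card_ge (zpowers_le.2 hz) (le_of_eq ?_)
  rw [Nat.card_zpowers, Nat.card_zpowers, hu]
  exact ((hp.out.eq_one_or_self_of_dvd _ (hu ▸ orderOf_dvd_of_mem_zpowers hz)).resolve_left (mt orderOf_eq_one_iff.1 h1)).symm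

variable [Fintype (Cu u)] [Fintype (Nu u)]

/-- the restriction of the induced function -/
theorem mackey (hu : orderOf u = p) {h : Cu u → ℂ} (hs : ∀ y, h y ≠ 0 → p ∣ orderOf y ∧ ∃ z ∈ Uu u, ¬ p ∣ orderOf (z⁻¹ * y)) :
    classInner (fun y : Cu u => indFun (Cu u) h y) h = (Nat.card (Cu u) : ℂ)⁻¹ * ∑ g : Nu u, classInner (h ∘ ac u g) h := by
  simp only [Core.classInner_def, indFun_apply, ← Finset.mul_sum, mul_assoc]
  rw [Finset.sum_comm]
  refine congrArg _ (congrArg _ (Finset.sum_congr rfl fun y _ => ?_))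
  rw [← Finset.sum_mul]
  by_cases h0 : h y = 0
  · rw [h0, map_zero, mul_zero, mul_zero]
  refine congrArg (· * _) ((Equiv.sum_comp (Equiv.inv G) _).symm.trans (Fintype.sum_of_injective (Nu u).subtype
    (subtype_injective _) _ _ (fun x hx => by_contra fun h1 => hx ?_) fun g => ?_).symm)
  · rw [Equiv.inv_apply, inv_inv, ← mul_assoc] at h1
    have h2 : x * y * x⁻¹ ∈ Cu u := by_contra fun h2 => h1 (extendByZero_of_notMem _ _ h2)
    rw [extendByZero_of_mem _ _ h2] at h1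
    obtain ⟨h3, z, h4, h5⟩ := hs y h0
    obtain ⟨-, z', h6, h7⟩ := hs _ h1
    obtain ⟨n, r, -, hR⟩ := exists_regExp p G 0
    have h8 : x * z * x⁻¹ = z' := by
      rw [part hu hR h4 h5, part hu hR h6 h7, conj_pow]
      group
    have h9 := zp_eq hu h4 fun e => h5 (by rwa [show z = 1 from Subtype.ext e, inv_one, one_mul])
    refine ⟨⟨x, mem_normalizer_fintype fun w hw => ?_⟩, rfl⟩
    obtain ⟨k, rfl⟩ : w ∈ zpowers (z : G) := h9 ▸ hw
    show x * (z : G) ^ k * x⁻¹ ∈ zpowers u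
    rw [← conj_zpow, h8]
    exact zpow_mem h6 k
  · rw [Equiv.inv_apply, inv_inv, ← mul_assoc]
    exact (extendByZero_of_mem _ _ (ac u g y).2).symm

variable {B : Set (IrrCharacter G)} {D : Subgroup G}

/-- **the norm of the induced function** -/
theorem key (hM : IsPModular p M) (hB : IsPBlock M B) (hD : IsDefectGroup p M B D) (hR : R1 p B) (hc : Nat.card D = p ^ 2)
    (hu : orderOf u = p) {f : Cu u → ℂ} (hg : IsGeneralizedCharacter _ f) (hf : Nice p (Uu u) f)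
    (hb : ∀ χ, χ ∉ B → ∀ z ∈ Uu u, z ≠ 1 → rg p (fun v => (χ : G → ℂ) (z * v : Cu u)) f = 0) :
    ∃ k : ℤ, ((p : ℂ) - 1) * ∑ g : Nu u, classInner (f ∘ ac u g) f = k * p * Nat.card (Cu u) := by
  classical
  have := finite_irr (G := G)
  have := Fintype.ofFinite (IrrCharacter G)
  have := Fintype.ofFinite (Uu u)
  have := uu_normal (u := u)
  have hq : IsPGroup p (Uu u) := IsPGroup.of_card (card_uu.trans (hu.trans (pow_one p).symm))
  set h := f - regPart p f with hh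
  have h1 : ∀ y, h y ≠ 0 → p ∣ orderOf y ∧ f y ≠ 0 := fun y hy => by
    have h1 : p ∣ orderOf y := by_contra fun e => hy (by rw [hh, Pi.sub_apply, regPart_of_not_dvd e, sub_self])
    exact ⟨h1, by rwa [hh, Pi.sub_apply, regPart_of_dvd h1, sub_zero] at hy⟩
  have hI := Brauer.indFun_isClassFunction (Cu u) h
  have h2 : ∀ F, IsClassFunction G F → classInner F (indFun (Cu u) h) = classInner (fun y : Cu u => F y) h := fun F hF => by
    rw [← classInner_conj_symm, Brauer.classInner_indFun _ _ _ _ hF, classInner_conj_symm]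
  have h3 := mackey hu fun y hy => ⟨(h1 y hy).1, hf.sup y (h1 y hy).2⟩
  rw [← h2 _ hI, classInner_eq_sum hI hI] at h3
  choose m hm using fun χ : IrrCharacter G => gen_inner (gen_restrict (Cu u) (gen_of_irr χ.2)) hg
  have h4 : ∀ χ : IrrCharacter G, classInner (indFun (Cu u) h) χ = conj (m χ - rg p (fun y : Cu u => (χ : G → ℂ) y) f) := fun χ => by
    rw [← classInner_conj_symm, h2 _ (isIrr_isClassFunction χ.2), inner_sing fun _ _ => rfl, hm]
  have h5 : ∀ χ, χ ∉ B → classInner (indFun (Cu u) h) χ = 0 := fun χ hχ => by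
    rw [h4, ← hm, split uu_le hq hf, Finset.sum_eq_single (1 : Uu u) (fun (z : Uu u) _ hz => hb χ hχ z z.2 fun e => hz (Subtype.ext e))
      fun e => (e (Finset.mem_univ _)).elim]
    simp only [_root_.OneMemClass.coe_one, _root_.one_mul, _root_.sub_self, _root_.map_zero]
  have := Local.isPrime_of_isPModular hM
  obtain ⟨χ₀, h6⟩ := Basic.isPBlock_nonempty hB
  set ρ := rg p (fun y : Cu u => (χ₀ : G → ℂ) y) f / (χ₀ : G → ℂ) 1
  have h7 : ∀ χ ∈ B, rg p (fun y : Cu u => (χ : G → ℂ) y) f = ρ * charDegree (χ : G → ℂ) := fun χ hχ => by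
    rw [← irr_one_eq_charDegree χ.2, div_mul_eq_mul_div, mul_div_assoc, mul_comm, ← rg_smul_left]
    exact rg_congr (fun v hv => by
      rw [Pi.smul_apply, smul_eq_mul, div_mul_eq_mul_div, eq_div_iff (isIrr_apply_one_ne_zero χ₀.2), mul_comm ((χ : G → ℂ) 1)]
      exact hR χ hχ χ₀ h6 v (by rwa [IsPRegular, orderOf_coe])) f
  obtain ⟨n, r, -, hE⟩ := exists_regExp p (Cu u) 0
  choose z hz using fun χ : IrrCharacter G => gen_inner (isGeneralizedCharacter_pow hE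
    (isCharacter_comp (Cu u).subtype (isIrr_isCharacter χ.2))) hg
  set T := (Set.toFinite B).toFinset
  have hT : ∀ χ, χ ∈ T ↔ χ ∈ B := fun _ => Set.Finite.mem_toFinset _
  have h8 : ∀ F : IrrCharacter G → ℂ, ∑ χ : IrrCharacter G, classInner (indFun (Cu u) h) χ * F χ =
      ∑ χ ∈ T, conj (m χ - ρ * charDegree (χ : G → ℂ)) * F χ := fun F => by
    rw [← Finset.sum_subset (Finset.subset_univ T) fun χ _ hχ => by rw [h5 χ (mt (hT χ).2 hχ), zero_mul]]
    exact Finset.sum_congr rfl fun χ hχ => by rw [h4, h7 χ ((hT χ).1 hχ)]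
  obtain ⟨h9, v, -, -, -, h10⟩ := S4641.result p M hM B hB D hD _ 2 rfl hc (T.gcd fun χ => charDegree (χ : G → ℂ))
    (fun χ hχ => Finset.gcd_dvd ((hT χ).2 hχ)) fun _ h9 => Finset.dvd_gcd fun χ hχ => h9 χ ((hT χ).1 hχ)
  have h11 : 2 ≤ (Nat.card G).factorization p :=
    (hp.out.pow_dvd_iff_le_factorization Nat.card_pos.ne').1 (hc ▸ card_subgroup_dvd_card D)
  obtain ⟨k, hk⟩ := arith (p := p) T (fun χ => charDegree (χ : G → ℂ)) m z ρ (v := v) (by
      rw [← finsum_mem_eq_finite_toFinset_sum _ (Set.toFinite B), h10]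
      obtain ⟨a, ha⟩ := Nat.exists_eq_add_of_le h11
      obtain ⟨t, ht⟩ := Nat.ordProj_dvd (T.gcd fun χ => charDegree (χ : G → ℂ)) p
      rw [h9, ha, Nat.add_sub_cancel_left] at ht
      rw [ha, ht, Nat.add_sub_cancel_left, Nat.mul_div_cancel_left _ (pow_pos hp.out.pos a), show 2 * (2 + a) - 2 = 2 + a * 2 by omega]
      ring)
    (fun χ hχ => by
      rw [← hz, mul_assoc, ← h7 χ ((hT χ).1 hχ), show (p : ℂ) = Nat.card (Uu u) by rw [card_uu, hu]]
      exact (split' uu_le hq hf fun w hw y hy => by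
        show (χ : G → ℂ) ((w * y) ^ p ^ n : Cu u) = _
        rw [← mem_center_iff.1 (uu_le hw), hE.mul_pow_eq (mem_center_iff.1 (uu_le hw) y) (orderOf_coe w ▸ ord_uu hu hw),
          hE.pow_of_not_dvd hy]).symm)
    (by
      have h12 := congrFun (classFunction_eq_sum hI) 1
      rw [Finset.sum_apply, indFun_apply, Finset.sum_eq_zero fun x _ => by
        rw [mul_one, inv_mul_cancel, extendByZero_of_mem _ _ (one_mem _)]
        exact by_contra fun e => hp.out.not_dvd_one (orderOf_one (G := Cu u) ▸ (h1 _ e).1), mul_zero] at h12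
      have h13 := congrArg conj (h12.trans (h8 fun χ => (χ : G → ℂ) 1))
      rw [map_zero, map_sum] at h13
      exact (Finset.sum_congr rfl fun χ _ => by
        rw [map_mul, Complex.conj_conj, irr_one_eq_charDegree χ.2, map_natCast]).trans h13.symm)
  refine ⟨k, ?_⟩
  rw [h8, Finset.sum_congr rfl fun χ hχ => by rw [h4, h7 χ ((hT χ).1 hχ), Complex.conj_conj, mul_comm], hk,
    eq_inv_mul_iff_mul_eq₀ card_ne_zero_complex] at h3
  rw [mul_right_comm, mul_comm (k : ℂ), h3, Finset.mul_sum, Finset.sum_mul]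
  refine Finset.sum_congr rfl fun g _ => ?_
  rw [inner_sing (g := f ∘ ac u g) fun v hv => by
    rw [Function.comp_apply, hh, Pi.sub_apply, regPart_of_dvd (by rwa [MulEquiv.orderOf_eq]), sub_zero, Function.comp_apply],
    split' uu_le hq hf (g' := f ∘ ac u g) fun w hw y _ => by
      rw [Function.comp_apply, map_mul, hf.ker _ (ac_mem g hw), Function.comp_apply], card_uu, hu]
  ring

theorem col (hM : IsPModular p M) (hu : orderOf u = p) {β : Set (IrrCharacter (Cu u))} (hβ : IsInducedBlock M (Cu u) β B)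
    {ψ : IrrCharacter (Cu u)} (hψ : ψ ∈ β) {χ : IrrCharacter G} (hχ : χ ∉ B) {z : Cu u} (hz : z ∈ Uu u) (h1 : z ≠ 1) :
    rg p (fun v => (χ : G → ℂ) (z * v : Cu u)) ψ = 0 := by
  have := Local.isPrime_of_isPModular hM
  refine H639.wt_eq_zero hM (ord_uu hu hz) ?_ (isPBlock_blockOf χ) (mem_blockOf_self χ) fun h => hχ ?_
  · show centralizer _ = _
    rw [← centralizer_closure, ← zpowers_eq_closure, ← zp_eq hu hz fun e => h1 (Subtype.ext e), zpowers_eq_closure, centralizer_closure]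
  · obtain ⟨χ₀, h2⟩ := Basic.isPBlock_nonempty hβ.2.1
    rw [isPBlock_eq_blockOf hβ.2.1 h2]
    exact fun g => Local.memLocalIdeal_sub_trans (Local.memLocalIdeal_sub_comm (hβ.2.2 ψ hψ χ₀ h2 g))
      (h.2.2 ψ (mem_blockOf_self ψ) χ (mem_blockOf_self χ) g)

/-- the action on the characters -/
@[reducible] noncomputable def ma (u : G) : MulAction (Nu u) (IrrCharacter (Cu u)) where
  smul g ψ := irrMap (ac u g) ψ
  one_smul ψ := (congrArg (irrMap · ψ) (map_one (ac u))).trans (irrMap_refl ψ)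
  mul_smul g h ψ := (congrArg (irrMap · ψ) (map_mul (ac u) g h)).trans (irrMap_irrMap _ _ ψ).symm

attribute [local instance] ma

theorem ma_inv (g : Nu u) (ψ : IrrCharacter (Cu u)) : (ψ : Cu u → ℂ) ∘ ac u g = (g⁻¹ • ψ : IrrCharacter (Cu u)) :=
  funext fun y => by
    show _ = (ψ : Cu u → ℂ) ((ac u g⁻¹)⁻¹ y)
    rw [map_inv, inv_inv, Function.comp_apply]

theorem sum_ac (ψ ψ' : IrrCharacter (Cu u)) :
    ∑ g : Nu u, classInner ((ψ : Cu u → ℂ) ∘ ac u g) ψ' = Nat.card {g : Nu u // g • ψ = ψ'} := by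
  classical
  rw [← Equiv.sum_comp (Equiv.inv (Nu u)), Nat.card_eq_fintype_card, Fintype.card_subtype, Finset.card_filter]
  push_cast
  exact Finset.sum_congr rfl fun g _ => by
    rw [Equiv.inv_apply, ma_inv, inv_inv, classInner_irr (g • ψ).2 ψ'.2]
    exact if_congr Subtype.coe_inj rfl rfl

theorem stab (hu : orderOf u = p) : ∃ e, e ∣ p - 1 ∧ ∀ ψ : IrrCharacter (Cu u), ∃ s,
    Nat.card (MulAction.stabilizer (Nu u) ψ) = Nat.card (Cu u) * s ∧ (MulAction.orbit (Nu u) ψ).ncard * s = e := by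
  obtain ⟨e, h1, h2⟩ := H904.SylOne.card_nc (P := zpowers u) ((Nat.card_zpowers u).trans hu)
  rw [show centralizer (zpowers u : Set G) = Cu u by rw [zpowers_eq_closure, centralizer_closure]] at h2
  refine ⟨e, h1, fun ψ => ?_⟩
  obtain ⟨s, hs⟩ := card_dvd_of_le (show (Cu u).subgroupOf (Nu u) ≤ MulAction.stabilizer (Nu u) ψ from fun g hg =>
    inv_mem_iff.1 (Subtype.ext ((ma_inv g ψ).symm.trans (funext fun y => irr_conj ψ.2 y ⟨g, hg⟩))))
  rw [Nat.card_congr (subgroupOfEquivOfLe cu_le).toEquiv] at hs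
  refine ⟨s, hs, Nat.eq_of_mul_eq_mul_left (Nat.card_pos (α := Cu u)) ?_⟩
  rw [← h2, mul_left_comm, ← hs, ← MulAction.index_stabilizer, index_mul_card]

theorem num {a s a' s' e : ℕ} (h : a * s = e) (h' : a' * s' = e) (he : e ∣ p - 1) (hd : p ∣ s + s') (hs : s' ≤ s) :
    a = 1 ∧ a' = p - 1 := by
  have h1 := hp.out.two_le
  obtain ⟨k, hk⟩ := he
  have h2 : 0 < s' := Nat.pos_of_ne_zero (by rintro rfl; rw [← h', mul_zero, zero_mul] at hk; omega)
  have h3 := Nat.le_of_dvd (by omega) hd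
  have h4 : a * k = 1 := by
    rw [← h, mul_right_comm] at hk
    generalize a * k = c at *
    rcases c with _ | _ | c
    · omega
    · rfl
    · have h5 : (c + 1 + 1) * s = c * s + 2 * s := by ring
      omega
  obtain rfl := Nat.eq_one_of_mul_eq_one_right h4
  obtain rfl := Nat.eq_one_of_mul_eq_one_left h4
  obtain rfl : s' = 1 := by
    obtain ⟨j, hj⟩ := hd
    rcases j with _ | _ | j
    · omega
    · omega
    · have h5 : p * (j + 1 + 1) = p * j + 2 * p := by ring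
      omega
  omega

variable [(Uu u).Normal] {β : Set (IrrCharacter (Cu u))}

/-- inflation -/
noncomputable abbrev fl : IrrCharacter (Cu u ⧸ Uu u) → IrrCharacter (Cu u) := H644.CentralQuot.infl (Uu u)

/-- two characters which are not conjugate -/
theorem two (hM : IsPModular p M) (hD : IsDefectGroup p M B D) (hR : R1 p B) (hc : Nat.card D = p ^ 2) (hu : orderOf u = p)
    (hβ : IsInducedBlock M (Cu u) β B) {θ θ' : IrrCharacter (Cu u ⧸ Uu u)} (h : fl θ ∈ β) (h' : fl θ' ∈ β) {δ δ' : ℤ}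
    (hδ : δ = 1 ∨ δ = -1) (hδ' : δ' = 1 ∨ δ' = -1)
    (hv : ∀ y, p ∣ orderOf y → (δ : ℂ) * (θ : Cu u ⧸ Uu u → ℂ) y = (δ' : ℂ) * (θ' : Cu u ⧸ Uu u → ℂ) y)
    (hn : ∀ g : Nu u, g • fl θ ≠ fl θ') :
    (MulAction.orbit (Nu u) (fl θ)).ncard = 1 ∧ (MulAction.orbit (Nu u) (fl θ')).ncard = p - 1 ∨
      (MulAction.orbit (Nu u) (fl θ')).ncard = 1 ∧ (MulAction.orbit (Nu u) (fl θ)).ncard = p - 1 := by
  have := Fintype.ofFinite (Uu u)
  obtain ⟨k, hk⟩ := key (f := (δ : ℂ) • (fl θ : Cu u → ℂ) - (δ' : ℂ) • (fl θ' : Cu u → ℂ)) hM hβ.2.1 hD hR hc hu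
    (gen_sub (gen_intCast_smul _ (gen_of_irr (fl θ).2)) (gen_intCast_smul _ (gen_of_irr (fl θ').2)))
    (nice_mk (F := fun y => (δ : ℂ) * (θ : Cu u ⧸ Uu u → ℂ) y - (δ' : ℂ) * (θ' : Cu u ⧸ Uu u → ℂ) y) fun y hy =>
      sub_eq_zero.2 (hv y hy)) fun χ hχ z hz h1 => by
      rw [rg_eq_classInner, classInner_sub_right, classInner_smul_right, classInner_smul_right, ← rg_eq_classInner,
        ← rg_eq_classInner, col hM hu hβ h hχ hz h1, col hM hu hβ h' hχ hz h1, mul_zero, mul_zero, sub_zero]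
  obtain ⟨e, he, hs⟩ := stab hu
  obtain ⟨s, h1, h2⟩ := hs (fl θ)
  obtain ⟨s', h3, h4⟩ := hs (fl θ')
  have h5 : ∀ ψ ψ' : IrrCharacter (Cu u), (∀ g : Nu u, g • ψ ≠ ψ') → Nat.card {g : Nu u // g • ψ = ψ'} = 0 := fun ψ ψ' h5 =>
    @Nat.card_of_isEmpty _ ⟨fun g => h5 g.1 g.2⟩
  simp only [Pi.sub_comp, Pi.smul_comp, classInner_sub_left, classInner_sub_right, classInner_smul_left, classInner_smul_right,
    Finset.sum_sub_distrib, ← Finset.mul_sum, sum_ac, map_intCast, h5 _ _ hn,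
    h5 _ _ fun g e => hn g⁻¹ (inv_smul_eq_iff.2 e.symm)] at hk
  erw [h1, h3] at hk
  have h6 : ((p : ℤ) - 1) * (s + s') = k * p := by
    have h7 : ((p : ℂ) - 1) * (s + s') = k * p := mul_right_cancel₀ (card_ne_zero_complex (G := Cu u)) (by
      rw [← hk]
      rcases hδ with rfl | rfl <;> rcases hδ' with rfl | rfl <;> push_cast <;> ring)
    exact_mod_cast h7
  have h7 : p ∣ s + s' := Int.natCast_dvd_natCast.1 ⟨s + s' - k, by push_cast; linear_combination -h6⟩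
  rcases le_total s' s with h8 | h8
  · exact Or.inl (num h2 h4 he h7 h8)
  · exact Or.inr (num h4 h2 he (add_comm s s' ▸ h7) h8)

/-- the conclusion -/
def Cc (p : ℕ) (u : G) (β : Set (IrrCharacter (Cu u))) : Prop :=
  ∃ A ⊆ β, A.ncard = blockRank p β ∧ (∀ ψ ∈ A, ∀ z ∈ Uu u, (ψ : Cu u → ℂ) z = (ψ : Cu u → ℂ) 1) ∧
    ∀ ψ ∈ A, ∀ ψ' ∈ A, ∃ g : Nu u, g • ψ = ψ'

theorem triv (θ : IrrCharacter (Cu u ⧸ Uu u)) {z : Cu u} (hz : z ∈ Uu u) : (fl θ : Cu u → ℂ) z = (fl θ : Cu u → ℂ) 1 := by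
  rw [infl_apply, (QuotientGroup.eq_one_iff _).2 hz, infl_one]

theorem cc_of {X : Set (IrrCharacter (Cu u ⧸ Uu u))} (h : X ⊆ defl _ β) (hr : X.ncard = blockRank p β)
    (hc : ∀ θ ∈ X, ∀ θ' ∈ X, ∃ g : Nu u, g • fl θ = fl θ') : Cc p u β :=
  ⟨fl '' X, Set.image_subset_iff.2 h, (Set.ncard_image_of_injective _ (infl_injective _)).trans hr,
    Set.forall_mem_image.2 fun θ _ _ hz => triv θ hz, Set.forall_mem_image.2 fun θ h => Set.forall_mem_image.2 (hc θ h)⟩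

theorem cc_orb (hM : IsPModular p M) (hb : IsPBlock M β) {θ θ' : IrrCharacter (Cu u ⧸ Uu u)} (h : fl θ ∈ β) (h' : fl θ' ∈ β)
    (hn : ∀ g : Nu u, g • fl θ' ≠ fl θ) (h1 : (MulAction.orbit (Nu u) (fl θ)).ncard = 1)
    (h2 : (MulAction.orbit (Nu u) (fl θ')).ncard = p - 1) (hr : p ≤ (defl (Uu u) β).ncard → blockRank p β = p - 1) : Cc p u β := by
  have := Local.isPrime_of_isPModular hM
  have := finite_irr (G := Cu u)
  have := Fintype.ofFinite (Uu u)
  obtain ⟨a, ha⟩ := Set.ncard_eq_one.1 h1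
  have h3 : MulAction.orbit (Nu u) (fl θ') ⊆ β := by
    rintro _ ⟨g, rfl⟩
    have h4 : g • fl θ = fl θ := (Set.mem_singleton_iff.1 (ha ▸ MulAction.mem_orbit _ g)).trans
      (Set.mem_singleton_iff.1 (ha ▸ MulAction.mem_orbit_self _)).symm
    rw [isPBlock_eq_blockOf hb h, ← h4]
    exact (sameBlock_irrMap_iff _ _ _).2 (mem_blockOf.1 (isPBlock_eq_blockOf hb h ▸ h'))
  have h4 : ∀ ψ ∈ MulAction.orbit (Nu u) (fl θ'), ∀ z ∈ Uu u, (ψ : Cu u → ℂ) z = (ψ : Cu u → ℂ) 1 := by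
    rintro _ ⟨g, rfl⟩ z hz
    beta_reduce
    rw [← inv_inv g, ← ma_inv, Function.comp_apply, Function.comp_apply, map_one, triv θ' (ac_mem _ hz)]
  refine ⟨_, h3, h2.trans (hr ?_).symm, h4, fun ψ h5 ψ' h6 => MulAction.mem_orbit_iff.1 (MulAction.orbit_eq_iff.2 h5 ▸ h6)⟩
  rw [← Set.ncard_image_of_injective _ (infl_injective _), ← Nat.sub_add_cancel hp.out.one_le, ← h2,
    ← Set.ncard_insert_of_notMem (a := fl θ) fun e => (MulAction.mem_orbit_iff.1 e).elim hn]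
  refine Set.ncard_le_ncard (Set.insert_subset ⟨θ, h, rfl⟩ fun ψ hψ => ?_)
  obtain ⟨η, hη⟩ := Deflate.exists_deflation (Uu u) (ψ : Cu u → ℂ) ψ.2 (by
    rw [Finset.sum_congr rfl fun (z : Uu u) _ => h4 ψ hψ z z.2, Finset.sum_const, Finset.card_univ, nsmul_eq_mul]
    exact mul_ne_zero (by exact_mod_cast Fintype.card_ne_zero) (isIrr_apply_one_ne_zero ψ.2))
  obtain rfl : fl η = ψ := Subtype.ext hη.symm
  exact ⟨η, h3 hψ, rfl⟩

theorem cc (hM : IsPModular p M) (hD : IsDefectGroup p M B D) (hR : R1 p B) (hc : Nat.card D = p ^ 2) (hu : orderOf u = p)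
    (hβ : IsInducedBlock M (Cu u) β B) : Cc p u β := by
  have := Fintype.ofFinite (Cu u ⧸ Uu u)
  have := finite_irr (G := Cu u ⧸ Uu u)
  have h1 : Nat.card (Uu u) = p ^ 1 := card_uu.trans (hu.trans (pow_one p).symm)
  have h2 := isPBlock_defl hM uu_le (IsPGroup.of_card h1) hβ.1
  have h3 := blockRank_defl hM uu_le (IsPGroup.of_card h1) hβ.1
  have h4 := blockDefect_defl hM uu_le h1 hβ.1
  obtain ⟨Q, hQ⟩ := H592.Defect.exists_defectGroup p hM hβ.1
  obtain ⟨E, hE, h5⟩ := S0917.result p M hM _ β hβ.1 B hβ.2.1 hβ Q hQ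
  have h6 := (Nat.factorization_le_iff_dvd Nat.card_pos.ne' Nat.card_pos.ne').2 (card_dvd_of_le h5) p
  rw [card_subtype, H592.Defect.factorization_card_defect p hM hβ.1 hQ, H592.Defect.factorization_card_defect p hM hβ.2.1 hE,
    ← H592.Defect.factorization_card_defect p hM hβ.2.1 hD, hc, hp.out.factorization_pow, Finsupp.single_eq_same] at h6
  rcases (by omega : blockDefect p (defl (Uu u) β) = 0 ∨ blockDefect p (defl (Uu u) β) = 1) with h7 | h7
  · obtain ⟨h8, h9⟩ := (S4733.result p M hM _ h2).2.1.1 h7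
    exact cc_of subset_rfl (h8.trans (h9.symm.trans h3)) fun θ h θ' h' => ⟨1, by
      rw [one_smul, (Set.ncard_le_one (Set.toFinite _)).1 (le_of_eq h8) θ h θ' h']⟩
  obtain ⟨X, δ, h8, h9, h10, h11, h12⟩ := pat hM h2 h7
  rw [h3] at h9 h12
  by_cases h13 : ∀ θ ∈ X, ∀ θ' ∈ X, ∃ g : Nu u, g • fl θ = fl θ'
  · exact cc_of h8 h9 h13
  push Not at h13
  obtain ⟨θ, h, θ', h', h13⟩ := h13
  have h14 := h12 ⟨θ, h, θ', h', fun e => h13 1 (by rw [one_smul, e])⟩
  rcases two hM hD hR hc hu hβ (h8 h) (h8 h') (h10 θ h) (h10 θ' h') (h11 θ h θ' h') h13 with ⟨h15, h16⟩ | ⟨h15, h16⟩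
  · exact cc_orb hM hβ.1 (h8 h) (h8 h') (fun g e => h13 g⁻¹ (inv_smul_eq_iff.2 e.symm)) h15 h16 h14
  · exact cc_orb hM hβ.1 (h8 h') (h8 h) h13 h15 h16 h14

end loc

end Desc

end Cfsg.Agent.OM.Lo
end

-- part: OM/Lo/DE
section
/-!
# OM (S4894): defect groups of order `49` (helper35)

* `DE.de0` : the case of rank one, Sylow defect group;  `boxDE_of`.
-/

set_option autoImplicit false
set_option linter.unusedSectionVars false

namespace Cfsg.Agent.OM.Lo

open Cfsg Subgroup Cfsg.Agent.Characters Cfsg.Agent.Characters.Core Cfsg.Agent.Blocks Cfsg.Agent.Blocks.Basic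
  Cfsg.Agent.SmallSimple.ThetaSetup Cfsg.Agent.SmallSimple.ThetaOrtho Cfsg.Agent.H644.CentralQuot Cfsg.Agent.H658
  Cfsg.Agent.H649 Cfsg.Agent.OM.Lo.Desc

namespace DE

variable [Fact (Nat.Prime 7)] {M : Ideal AlgInt}

/-- the inertial index is divisible by three -/
theorem rank3 (hM : IsPModular 7 M) {L : Type} [Group L] [Finite L] {P : Subgroup L} (hP : Nat.card P = 7)
    (hn : ¬ 3 ∣ Nat.card (centralizer (P : Set L))) {t : L} (ht : t ∈ normalizer (P : Set L)) (t3 : orderOf t = 3)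
    (hc : ∀ y ∈ centralizer (P : Set L), ¬ 7 ∣ orderOf y → t * y = y * t) {c : Set (IrrCharacter L)} (hb : IsPBlock M c)
    (hD : IsDefectGroup 7 M c P) : 2 < blockRank 7 c := by
  have := Local.isPrime_of_isPModular hM
  have h1 : IsCyclic P := isCyclic_of_prime_card hP
  obtain ⟨b, h2⟩ := exists_root_centralizer hM inferInstance hD hb
  obtain ⟨T, hT⟩ := exists_stabilizer hM P h2.1
  have h3 : t ∈ T := (hT t).2 ⟨ht, fun θ hθ θ' h => by
    have h4 : ∀ x, IsPRegular 7 x → (θ' : _ → ℂ) x = (θ : _ → ℂ) x := fun x hx =>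
      h x x (eq_mul_inv_iff_mul_eq.2 (hc x x.2 (by rwa [orderOf_coe])).symm)
    rw [isPBlock_eq_blockOf h2.1 hθ]
    exact mem_blockOf.2 (sameBlock_of_prop hM θ.2 θ'.2 fun x hx => by
      rw [h4 x hx, h4 1 (by rw [IsPRegular, orderOf_one]; decide)])⟩
  rw [S4695.result 7 M hM P h1 1 le_rfl hP c hb hD b h2 T hT _ rfl]
  have h4 := t3 ▸ T.orderOf_dvd_natCard h3
  rw [← ((centralizer (P : Set L)).subgroupOf T).card_mul_index, Nat.prime_three.dvd_mul] at h4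
  exact Nat.le_of_dvd (Nat.pos_of_ne_zero index_ne_zero_of_finite)
    (h4.resolve_left fun h => hn (h.trans (card_comap_dvd_of_injective _ _ T.subtype_injective)))

attribute [local instance] Desc.ma

variable {G : Type} [Group G] [Fintype G] {u : G} [Fintype (Cu u)] [Fintype (Nu u)] [(Uu u).Normal]

/-- the passage to the normaliser -/
theorem loc (hu : orderOf u = 7) {P : Sylow 7 (Cu u ⧸ Uu u)} (hP : Nat.card P = 7)
    (hn : ¬ 3 ∣ Nat.card (centralizer (P : Set (Cu u ⧸ Uu u)))) {Y : Subgroup (Cu u ⧸ Uu u)} (hY : IsComp 7 (P : Subgroup _) Y)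
    {t : Cu u ⧸ Uu u} (ht : t ∈ normalizer ((P : Subgroup (Cu u ⧸ Uu u)) : Set (Cu u ⧸ Uu u))) (t3 : orderOf t = 3) (hc : ∀ y ∈ Y, t * y = y * t)
    {θ : IrrCharacter Y} {A : Set (IrrCharacter (Cu u))} (h1 : A ⊆ fl '' Over P (θ : Y → ℂ)) (h2 : 2 < A.ncard)
    (h3 : ∀ ψ ∈ A, ∀ ψ' ∈ A, ∃ g : Nu u, g • ψ = ψ') : False := by
  have := finite_irr (G := Cu u)
  obtain ⟨φ, hφ⟩ := exists_phi (zpowers u) ((Nat.card_zpowers u).trans hu)
  rw [show centralizer (zpowers u : Set G) = Cu u by rw [zpowers_eq_closure, centralizer_closure]] at hφ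
  obtain ⟨ψ, h4, ψ', h5, h6, g, h7, h8⟩ : ∃ ψ ∈ A, ∃ ψ' ∈ A, ψ ≠ ψ' ∧ ∃ g : Nu u, g • ψ = ψ' ∧ φ g ^ 3 = 1 := by
    obtain ⟨a, ha, b, hb, c, hc, ab, ac, bc⟩ := (Set.two_lt_ncard (s := A)).1 h2
    obtain ⟨g, rfl⟩ := h3 a ha b hb
    obtain ⟨g', rfl⟩ := h3 a ha c hc
    rcases z3 (φ g) (φ g') with h | h | h
    · exact ⟨_, ha, _, hb, ab, g, rfl, h⟩
    · exact ⟨_, ha, _, hc, ac, g', rfl, h⟩
    · exact ⟨_, hb, _, hc, bc, g' * g⁻¹, by rw [mul_smul, inv_smul_smul], by rwa [map_mul, map_inv]⟩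
  obtain ⟨ψ, h9, rfl⟩ := h1 h4
  obtain ⟨ψ', h10, rfl⟩ := h1 h5
  let Q := (zpowers u).subgroupOf (Nu u)
  let j : Cu u ⧸ Uu u →* Nu u ⧸ Q := QuotientGroup.map _ Q (inclusion cu_le) fun _ h => h
  let μ : Nu u ⧸ Q →* (ZMod 7)ˣ := QuotientGroup.lift Q φ fun _ h => (hφ _).2 (zp_le h)
  have hj : Function.Injective j := (injective_iff_map_eq_one j).2 fun x h => by
    obtain ⟨x, rfl⟩ := QuotientGroup.mk_surjective x
    exact (QuotientGroup.eq_one_iff _).2 ((QuotientGroup.eq_one_iff (N := Q) _).1 h)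
  have hμ : ∀ x, μ (j x) = 1 := fun x => by
    obtain ⟨x, rfl⟩ := QuotientGroup.mk_surjective x
    exact (hφ _).2 x.2
  let K := ((powMonoidHom 3).comp μ).ker
  have := Fintype.ofFinite K
  have := Fintype.ofFinite (Cu u ⧸ Uu u)
  let ι : Cu u ⧸ Uu u →* K := j.codRestrict K fun x => (congrArg (· ^ 3) (hμ x)).trans (one_pow 3)
  have hι : Function.Injective ι := fun x y h => hj (congrArg Subtype.val h)
  refine al hι (μ := μ.comp K.subtype) (fun k => ⟨fun h => ?_, ?_⟩) (fun k => k.2) hP hn hY ht (fun h => ?_) (t3 ▸ pow_orderOf_eq_one t)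
    hc θ.2 h9 h10 (fun h => h6 (congrArg fl h)) (s := ⟨QuotientGroup.mk g, h8⟩) fun x x' h => ?_
  · obtain ⟨k, hk⟩ := k
    obtain ⟨k, rfl⟩ := QuotientGroup.mk_surjective k
    exact ⟨QuotientGroup.mk ⟨k, (hφ k).1 h⟩, rfl⟩
  · rintro ⟨x, rfl⟩
    exact hμ x
  · rw [h, orderOf_one] at t3
    omega
  · obtain ⟨x, rfl⟩ := QuotientGroup.mk_surjective x
    obtain rfl : x' = QuotientGroup.mk (ac u g x) := hι (h.trans rfl)
    exact (congrArg (fun χ : IrrCharacter (Cu u) => (χ : Cu u → ℂ) (ac u g x)) h7).symm.trans (irrMap_apply' _ _ _)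

/-- **rank one, Sylow defect group** -/
theorem de0 (hM : IsPModular 7 M) {G : Type} [Group G] [Finite G] {B : Set (IrrCharacter G)} {D : Subgroup G} (hB : IsPBlock M B)
    (hD : IsDefectGroup 7 M B D) (hR : R1 7 B) (hc : Nat.card D = 7 ^ 2) (hn : ¬ IsCyclic D) (hS : ¬ 7 ^ 3 ∣ Nat.card G)
    (h3 : ¬ 3 ∣ Nat.card (centralizer (D : Set G))) {u : G} (hu : u ∈ D) (u1 : u ≠ 1) {t : G} (ht : t ∈ normalizer (D : Set G))
    (t3 : orderOf t = 3) (tu : Commute t u) (hy : ∀ y ∈ centralizer (D : Set G), ¬ 7 ∣ orderOf y → Commute t y) : False := by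
  have : Fact (Nat.Prime 3) := ⟨Nat.prime_three⟩
  have := Fintype.ofFinite G
  have := Fintype.ofFinite (Cu u)
  have := Fintype.ofFinite (Nu u)
  have := Fintype.ofFinite (Uu u)
  have hab := IsPGroup.isMulCommutative_of_card_eq_prime_sq hc
  have ho : orderOf u = 7 := by
    obtain ⟨k, h1, h2⟩ := (Nat.dvd_prime_pow Fact.out).1 (hc ▸ D.orderOf_dvd_natCard hu)
    obtain rfl | rfl | rfl : k = 0 ∨ k = 1 ∨ k = 2 := by omega
    · exact absurd (orderOf_eq_one_iff.1 h2) u1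
    · exact h2
    · exact absurd (isCyclic_of_orderOf_eq_card ⟨u, hu⟩ (by rw [hc, ← h2, ← orderOf_coe])) hn
  obtain ⟨β, U, _, h1, h2, h4, -, h5, -, -, h6⟩ := exists_major_defl hM hB hD hab hu
  obtain rfl : Uu u = U := h4 ▸ Subgroup.ext fun x => by
    rw [mem_subgroupOf, ← mem_map_iff_mem (subtype_injective _), MonoidHom.map_zpowers]
    rfl
  have h7 := isPBlock_defl hM uu_le h5 h1.1
  have h8 := blockDefect_defl hM uu_le (card_uu.trans (ho.trans (pow_one 7).symm)) h1.1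
  rw [h2, ← H592.Defect.factorization_card_defect 7 hM hB hD, hc, Nat.Prime.factorization_pow Fact.out, Finsupp.single_eq_same] at h8
  have h9 := S0908.result 7 M hM _ h7 _ h6
  rw [show blockDefect 7 (defl (Uu u) β) = 1 by omega, pow_one] at h9
  let P := (H592.Defect.isPGroup_of_isDefectGroup h6).toSylow fun ⟨k, hk⟩ => hS (Dvd.dvd.trans ⟨k, by
    rw [card_eq_card_quotient_mul_card_subgroup (Uu u), ← card_mul_index (map (QuotientGroup.mk' (Uu u)) (D.subgroupOf (Cu u))),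
      hk, h9, card_uu, ho]
    ring⟩ (card_subgroup_dvd_card (Cu u)))
  have h10 : ∀ y ∈ centralizer ((P : Subgroup (Cu u ⧸ Uu u)) : Set (Cu u ⧸ Uu u)), ¬ 7 ∣ orderOf y →
      ∃ x : Cu u, QuotientGroup.mk x = y ∧ (x : G) ∈ centralizer (D : Set G) ∧ ¬ 7 ∣ orderOf (x : G) := fun y h h' => by
    obtain ⟨x, h11, rfl⟩ := PRegular.exists_isPRegular_lift _ 7 (Uu u) h'
    refine ⟨x, rfl, mem_centralizer_iff.2 fun d hd => ?_, by rwa [orderOf_coe]⟩
    let d' : Cu u := ⟨d, mem_centralizer_singleton_iff.2 (congrArg Subtype.val (hab.is_comm.comm ⟨d, hd⟩ ⟨u, hu⟩))⟩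
    exact congrArg Subtype.val (mem_centralizer_singleton_iff.1 ((H644.CentralQuot.mem_centralizer_iff uu_le h5 h11 d').1
      (mem_centralizer_singleton_iff.2 (mem_centralizer_iff.1 h _ (mem_map_of_mem _ (mem_subgroupOf.2 hd))))))
  have h11 : ¬ 3 ∣ Nat.card (centralizer ((P : Subgroup (Cu u ⧸ Uu u)) : Set (Cu u ⧸ Uu u))) := fun h => by
    obtain ⟨y, h12⟩ := exists_prime_orderOf_dvd_card' 3 h
    rw [← orderOf_coe] at h12
    obtain ⟨x, h13, h14, -⟩ := h10 y y.2 (by rw [h12]; decide)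
    have h15 := orderOf_map_dvd (QuotientGroup.mk' (Uu u)) x
    rw [QuotientGroup.mk'_apply, h13, h12, ← orderOf_coe] at h15
    exact h3 (h15.trans ((centralizer _).orderOf_dvd_natCard h14))
  let t' : Cu u := ⟨t, mem_centralizer_singleton_iff.2 tu⟩
  have h12 : QuotientGroup.mk t' ∈ normalizer ((P : Subgroup (Cu u ⧸ Uu u)) : Set (Cu u ⧸ Uu u)) :=
    le_normalizer_map (QuotientGroup.mk' (Uu u)) (mem_map_of_mem _ (le_normalizer_comap (Cu u).subtype ht))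
  have h13 : orderOf (QuotientGroup.mk t' : Cu u ⧸ Uu u) = 3 := orderOf_eq_prime
    (by rw [← QuotientGroup.mk_pow, show t' ^ 3 = 1 from Subtype.ext (t3 ▸ pow_orderOf_eq_one t), QuotientGroup.mk_one])
    fun h => absurd (t3 ▸ ho ▸ orderOf_dvd_of_mem_zpowers (mem_subgroupOf.1 ((QuotientGroup.eq_one_iff _).1 h))) (by decide)
  have h14 : ∀ y ∈ centralizer ((P : Subgroup (Cu u ⧸ Uu u)) : Set (Cu u ⧸ Uu u)), ¬ 7 ∣ orderOf y →
      QuotientGroup.mk t' * y = y * QuotientGroup.mk t' := fun y h h' => by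
    obtain ⟨x, rfl, h15, h16⟩ := h10 y h h'
    exact congrArg QuotientGroup.mk (Subtype.ext (hy x h15 h16) : t' * x = x * t')
  obtain ⟨Y, hY⟩ := exists_isComp P h9
  obtain ⟨θ, hθ⟩ := H608.CycOne.exists_eq_Over hY h9 hM h7 (by omega)
  obtain ⟨A, h15, h16, h17, h18⟩ := cc hM hD hR hc ho h1
  refine loc ho (by exact h9) h11 hY h12 h13 (fun y h => h14 y (hY.le h) ((hY y).1 h).2) (θ := θ) (fun ψ hψ => ?_)
    (h16 ▸ blockRank_defl hM uu_le h5 h1.1 ▸ rank3 hM h9 h11 h12 h13 h14 h7 h6) h18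
  obtain ⟨η, hη⟩ := Deflate.exists_deflation (Uu u) (ψ : Cu u → ℂ) ψ.2 (by
    rw [Finset.sum_congr rfl fun (z : Uu u) _ => h17 ψ hψ z z.2, Finset.sum_const, Finset.card_univ, nsmul_eq_mul]
    exact mul_ne_zero (by exact_mod_cast Fintype.card_ne_zero) (isIrr_apply_one_ne_zero ψ.2))
  obtain rfl : fl η = ψ := Subtype.ext hη.symm
  exact ⟨η, hθ ▸ h15 hψ, rfl⟩

/-- regular elements of a group with a central Sylow subgroup -/
theorem reg_mul {W : Type} [Group W] [Finite W] (h : ¬ 7 ∣ (center W).index) {a b : W} (ha : ¬ 7 ∣ orderOf a) (hb : ¬ 7 ∣ orderOf b) :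
    ¬ 7 ∣ orderOf (a * b) := fun h1 => by
  have h2 : (a * b) ^ ((center W).index * (orderOf a * orderOf b)) = 1 := by
    rw [pow_mul, ← MonoidHom.transferCenterPow_apply, map_mul, coe_mul,
      Commute.mul_pow (mem_center_iff.1 (MonoidHom.transferCenterPow W b).2 _), MonoidHom.transferCenterPow_apply,
      MonoidHom.transferCenterPow_apply, ← pow_mul, ← pow_mul, orderOf_dvd_iff_pow_eq_one.1 ((dvd_mul_right _ _).mul_left _),
      orderOf_dvd_iff_pow_eq_one.1 ((dvd_mul_left _ _).mul_left _), one_mul]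
  simpa only [(Fact.out : Nat.Prime 7).dvd_mul, h, ha, hb, or_self] using h1.trans (orderOf_dvd_of_pow_eq_one h2)

/-- coprime action -/
theorem comm3 {G : Type} [Group G] {t y : G} (t3 : t ^ 3 = 1) (h : Commute t (y⁻¹ * (t * y * t⁻¹)))
    (h3 : ¬ 3 ∣ orderOf (y⁻¹ * (t * y * t⁻¹))) : Commute t y := by
  generalize hz : y⁻¹ * (t * y * t⁻¹) = z at h h3
  have h1 : t * y = y * z * t := by rw [← hz]; group
  have h2 : t ^ 3 * y = y * z ^ 3 * t ^ 3 := by
    calc t ^ 3 * y = t * (t * (t * y)) := by simp only [pow_succ, pow_zero, one_mul, mul_assoc]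
      _ = y * (z * t) ^ 3 := by
        simp only [h1, ← mul_assoc t, mul_assoc _ z t, mul_assoc y]
        simp only [pow_succ, pow_zero, one_mul, mul_assoc]
      _ = _ := by rw [h.symm.mul_pow, mul_assoc]
  rw [t3, one_mul, mul_one, left_eq_mul, ← orderOf_dvd_iff_pow_eq_one, Nat.dvd_prime Nat.prime_three] at h2
  rw [orderOf_eq_one_iff.1 (h2.resolve_right fun e => h3 (e ▸ dvd_rfl)), mul_one] at h1
  exact h1

end DE

open DE in
/-- **defect groups of order `49`** -/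
theorem boxDE_of (hO : BoxOv) : BoxDE := fun M X _ _ Γ b D S _ σ H hi hz hc hS h3 u hu u1 t ht t3 tu hy => by
  have : Fact (Nat.Prime 7) := ⟨by norm_num⟩
  have : Fact (Nat.Prime 3) := ⟨Nat.prime_three⟩
  obtain hR | ⟨G, _, _, ι, B, g, hι, ⟨α, -, -, hα⟩, ⟨c, hc1, ⟨k, z, -, hc3⟩, hG⟩, hB, hD, hR, -⟩ := hO 7 M X Γ b D S σ H (by decide) hi hz
  · exact de0 H.hM H.hb H.hD hR hc H.nc hS h3 hu u1 ht t3 tu hy
  have cc : ∀ (y : G) (n : ℕ), Commute y (c ^ n) := fun y n => Commute.pow_right (mem_center_iff.1 hc1 y) n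
  have cd : ∀ (a y : G) (n : ℕ), a * c ^ n * y * (a * c ^ n)⁻¹ = a * y * a⁻¹ := fun a y n => by
    rw [mul_assoc a, ← (cc y n).eq]
    group
  have hN : ι.range.Normal := ⟨by
    rintro _ ⟨y, rfl⟩ w
    obtain ⟨x, n, rfl | rfl⟩ := hG w
    · exact ⟨x * y * x⁻¹, by rw [map_mul, map_mul, map_inv, cd]⟩
    · exact ⟨x * α y * x⁻¹, by rw [map_mul, map_mul, map_inv, hα, mul_assoc (ι x) (c ^ n), ← (cc g n).eq, ← mul_assoc _ g, cd]; group⟩⟩
  let π := QuotientGroup.mk' ι.range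
  have h4 : ∀ x, π (ι x) = 1 := fun x => (QuotientGroup.eq_one_iff _).2 ⟨x, rfl⟩
  have h5 : π c ^ 2 ^ k = 1 := by rw [← map_pow, ← hc3, h4]
  have h6 : ∃ n, π g ^ 2 = π c ^ n := by
    obtain ⟨x, n, h | h⟩ := hG (g * g)
    · exact ⟨n, by rw [sq, ← map_mul, h, map_mul, h4, one_mul, map_pow]⟩
    · exact ⟨n * 2, by rw [mul_right_cancel h, map_mul, h4, one_mul, map_pow, pow_mul]⟩
  have h7 : ∀ y : G, ∃ n, π y ^ 2 = π c ^ n := fun y => by
    obtain ⟨m, hm⟩ := h6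
    obtain ⟨x, n, rfl | rfl⟩ := hG y
    · exact ⟨n * 2, by rw [map_mul, h4, one_mul, map_pow, pow_mul]⟩
    · exact ⟨n * 2 + m, by rw [map_mul, map_mul, h4, one_mul, ((cc g n).map π).symm.mul_pow, hm, map_pow, pow_add, pow_mul]⟩
  have h8 : IsPGroup 2 (G ⧸ ι.range) := fun y => by
    obtain ⟨y, rfl⟩ := QuotientGroup.mk'_surjective _ y
    obtain ⟨n, hn⟩ := h7 y
    exact ⟨k + 1, by rw [pow_succ', pow_mul, hn, ← pow_mul, mul_comm, pow_mul, h5, one_pow]⟩
  have h9 : ¬ 7 ^ 3 ∣ Nat.card G := fun h => by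
    obtain ⟨m, hm⟩ := h8.exists_card_eq
    rw [card_eq_card_quotient_mul_card_subgroup ι.range, hm, ← Nat.card_congr (MonoidHom.ofInjective hι).toEquiv] at h
    exact hS ((Nat.Coprime.pow _ _ (by decide)).dvd_of_dvd_mul_left h)
  have h10 : ∀ x, ι x ∈ centralizer (D.map ι : Set G) ↔ x ∈ centralizer (D : Set X) := fun x => by
    rw [Subgroup.mem_centralizer_iff, Subgroup.mem_centralizer_iff, coe_map, Set.forall_mem_image]
    simp only [← map_mul, hι.eq_iff]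
  have h11 : ¬ 3 ∣ Nat.card (centralizer (D.map ι : Set G)) := fun h => by
    obtain ⟨y, h12⟩ := exists_prime_orderOf_dvd_card' 3 h
    rw [← orderOf_coe] at h12
    obtain ⟨m, hm⟩ := h8 (π y)
    obtain ⟨x, hx⟩ := (QuotientGroup.eq_one_iff _).1 (orderOf_eq_one_iff.1 (Nat.eq_one_of_dvd_coprimes
      (Nat.Coprime.pow_right m (by decide : Nat.Coprime 3 2)) (h12 ▸ orderOf_map_dvd π y) (orderOf_dvd_of_pow_eq_one hm)))
    rw [← hx, orderOf_injective ι hι] at h12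
    exact h3 (h12 ▸ (centralizer _).orderOf_dvd_natCard ((h10 x).1 (hx ▸ y.2)))
  have h12 : Nat.card (D.map ι) = 7 ^ 2 := (card_map_of_injective hι).trans hc
  have h15 : ι t ∈ normalizer (D.map ι : Set G) := le_normalizer_map ι (mem_map_of_mem ι ht)
  have h16 := (orderOf_injective ι hι t).trans t3
  refine de0 H.hM hB hD hR h12 (fun h => H.nc (isCyclic_of_surjective _ (D.equivMapOfInjective ι hι).symm.surjective)) h9 h11
    (mem_map_of_mem ι hu) (fun h => u1 (hι (h.trans ι.map_one.symm))) h15 h16 (tu.map ι) fun y h h' => ?_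
  have h17 : ι t * y * (ι t)⁻¹ ∈ centralizer (D.map ι : Set G) := (mem_normalizer_iff.1 (H649.mem_normalizer_centralizer h15) y).1 h
  have h18 := mul_mem (inv_mem h) h17
  refine comm3 (h16 ▸ pow_orderOf_eq_one _) ?_ fun e => h11 (e.trans ((centralizer _).orderOf_dvd_natCard h18))
  obtain ⟨x, hx⟩ : y⁻¹ * (ι t * y * (ι t)⁻¹) ∈ ι.range := (QuotientGroup.eq_one_iff _).1 (by
    show π _ = 1
    rw [map_mul, map_mul, map_mul, map_inv, map_inv, h4, one_mul, inv_one, mul_one, inv_mul_cancel])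
  have h19 : ¬ 7 ∣ (center (centralizer (D.map ι : Set G))).index := fun e => h9 (by
    have hab := IsPGroup.isMulCommutative_of_card_eq_prime_sq h12
    have h20 := card_dvd_of_le (show (D.map ι).subgroupOf (centralizer (D.map ι : Set G)) ≤ center _ from fun d hd =>
      mem_center_iff.2 fun w => Subtype.ext (mem_centralizer_iff.1 w.2 d hd).symm)
    rw [Nat.card_congr (subgroupOfEquivOfLe (Subgroup.le_centralizer _)).toEquiv, h12] at h20
    exact (mul_dvd_mul h20 e).trans ((card_mul_index _).dvd.trans (card_subgroup_dvd_card _)))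
  have h20 := reg_mul h19 (a := ⟨y, h⟩⁻¹) (b := ⟨_, h17⟩) (by rwa [orderOf_inv, ← orderOf_coe])
    (by rwa [← orderOf_coe, coe_mk, ← MulAut.conj_apply, MulEquiv.orderOf_eq])
  rw [← orderOf_coe, coe_mul, coe_inv, ← hx, orderOf_injective ι hι] at h20
  exact hx ▸ (hy x ((h10 x).1 (hx ▸ h18)) h20).map ι

end Cfsg.Agent.OM.Lo
end

private theorem dce_5ecbae2c51a3 : _root_.True := by
  try have : _root_.True := by simp only [_root_.Cfsg.Agent.OM.Lo.DE.pt.eq_1]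
  try have : _root_.True := by simp only [_root_.Cfsg.Agent.SmallSimple.ThetaOrtho.cK.congr_simp]
  exact _root_.True.intro
end

-- part: OM/Sp/C5/B7_mg
section
prune_inst 0x4010000
set_option linter.all false
open scoped Cfsg.Agent.FastGrp

-- part: OM/Sp/C5/B7
section
/-!
# OM (S4894), the row of `2.B` for `p = 7` (helper96)

* `de` : `BoxDE` with the hypotheses in the simple group;
* `b_2_7_of`.
-/

set_option autoImplicit false
set_option maxRecDepth 100000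
set_option maxHeartbeats 400000

namespace Cfsg.Agent.OM.C5

open Cfsg Subgroup Cfsg.Agent.BHZ.Spor Cfsg.Agent.OM.Lo Cfsg.Agent.BZ.T Cfsg.Agent.TAB Cfsg.Agent.TAB.Eng
open Cfsg.Agent.TAB.Use Cfsg.Agent.PQ.Spor Cfsg.Agent.KM.Sp

section
variable {M : Ideal AlgInt} {X : Type} [Group X] [Finite X] {Γ : Subgroup (MulAut X)}
  {b : Set (IrrCharacter X)} {D : Subgroup X} {S : Type} [Group S] {σ : X →* S}

theorem card_sq {p : ℕ} [hp : Fact p.Prime] (H : Hyp p M Γ b D σ) (h : ¬ p ^ 3 ∣ Nat.card S) :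
    Nat.card D = p ^ 2 ∧ Nat.card (D.map σ) = p ^ 2 := by
  obtain ⟨k, hk⟩ := H.exists_card
  have h1 : Nat.card D = p ^ 2 := by
    rcases k with _ | k
    · exact hk
    · exact (h ((pow_dvd_pow p (by omega)).trans (hk ▸ H.dvd_card))).elim
  exact ⟨h1, Nat.dvd_antisymm (h1 ▸ card_map_dvd D σ) ((cex H).dvd_map h1.symm.dvd)⟩

/-- **`BoxDE` in the simple group** -/
theorem de (hDE : BoxDE) (H : Hyp 7 M Γ b D σ) (h2 : (Inn X).relIndex Γ ∣ 2) (hz : Hz Γ) (h7 : ¬ 7 ^ 3 ∣ Nat.card S)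
    (hZ : ¬ 3 ∣ Nat.card (center X)) (hC : ¬ 3 ∣ Nat.card (centralizer (D.map σ : Set S))) {u t : S} (hu : u ∈ D.map σ)
    (h1 : u ≠ 1) (ht : t ∈ normalizer (D.map σ : Set S)) (ho : orderOf t = 3) (hc : Commute t u)
    (h : ∀ y ∈ centralizer (D.map σ : Set S), ¬ 7 ∣ orderOf y → Commute t y) : False := by
  have h7' : Fact (Nat.Prime 7) := ⟨by norm_num⟩
  have h3' : Fact (Nat.Prime 3) := ⟨Nat.prime_three⟩
  have := Finite.of_surjective σ H.surj
  obtain ⟨u, hu, rfl⟩ := hu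
  obtain ⟨s, rfl, k, hk⟩ := exists_p_lift (p := 3) H.surj (x := t) (k := 1) (by rw [pow_one, ← ho, pow_orderOf_eq_one])
  have hm : ∀ y ∈ centralizer (D : Set X), σ y ∈ centralizer (D.map σ : Set S) := fun y hy => mem_centralizer_iff.2 (by
    rintro _ ⟨d, hd, rfl⟩
    rw [← map_mul, ← map_mul, mem_centralizer_iff.1 hy d hd])
  have h3 : ¬ 3 ∣ Nat.card (centralizer (D : Set X)) := fun e => by
    rcases (Nat.prime_three.dvd_mul).1 (e.trans (card_map_mul σ _)) with e | e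
    · exact hC (e.trans (card_dvd_of_le (map_le_iff_le_comap.2 hm)))
    · exact hZ (H.ker ▸ e)
  have h4 : s ^ 3 = 1 := eq_one_of_reg (p := 3) (k := k) (fun e => hZ (e.trans (orderOf_dvd_natCard _ (by
    rw [← H.ker, MonoidHom.mem_ker, map_pow, ← ho, pow_orderOf_eq_one])))) (by rw [← pow_mul, mul_comm, pow_mul, hk, one_pow])
  have h5 : orderOf s = 3 := orderOf_eq_prime h4 fun e => by
    rw [e, map_one, orderOf_one] at ho
    omega
  have h6 : ∀ d ∈ D, d ^ 7 ^ 2 = 1 := fun d hd =>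
    congrArg Subtype.val ((card_sq H h7).1 ▸ pow_card_eq_one' (x := (⟨d, hd⟩ : D)))
  refine hDE M X Γ b D S σ H h2 hz (card_sq H h7).1 (fun e => h7 ?_) h3 u hu (fun e => h1 (by rw [e, map_one])) s
    (mem_normalizer_fintype fun d hd => ?_) h5
    (commute_p_reg (p := 7) H.ker.le hc.symm (h6 u hu) (by rw [h5]; decide)).symm fun y hy h8 =>
      commute_p_reg (p := 3) H.ker.le (h _ (hm y hy) (reg_map' h8)) hk fun e => h3 (e.trans (orderOf_dvd_natCard _ hy))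
  · rw [H.card_eq] at e
    exact (Nat.Coprime.pow_left _ (h7'.out.coprime_iff_not_dvd.2 H.sit.ndvd)).dvd_of_dvd_mul_right e
  · obtain ⟨d', hd', e⟩ := (mem_normalizer_iff.1 ht (σ d)).1 ⟨d, hd, rfl⟩
    have h8 : d'⁻¹ * (s * d * s⁻¹) ∈ σ.ker := by
      rw [MonoidHom.mem_ker, map_mul, map_inv, e, map_mul, map_mul, map_inv, inv_mul_cancel]
    have h9 : Commute d' (d'⁻¹ * (s * d * s⁻¹)) := mem_center_iff.1 (H.ker.le h8) d'
    have h10 := h9.mul_pow (7 ^ 2)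
    rw [mul_inv_cancel_left, conj_pow, h6 d hd, h6 d' hd', mul_one, mul_inv_cancel, one_mul] at h10
    rw [← inv_mul_eq_one.1 (eq_one_of_reg ((cex H).reg h8) h10.symm)]
    exact hd'

end

section
variable {S : Type} [Group S] [Finite S] {P : Subgroup S}

theorem exists_three (hP : Nat.card P = 49) {u : S} (hu : P ≤ centralizer {u})
    (hc : Nat.card (centralizer ({u} : Set S)) = 564480) (h5 : ¬ 5 ∣ Nat.card (centralizer (P : Set S))) :
    ∃ t ∈ normalizer (P : Set S), orderOf t = 3 ∧ Commute t u := by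
  have h7' : Fact (Nat.Prime 7) := ⟨by norm_num⟩
  have h3' : Fact (Nat.Prime 3) := ⟨Nat.prime_three⟩
  have h5' : Fact (Nat.Prime 5) := ⟨Nat.prime_five⟩
  let Q : Sylow 7 (centralizer ({u} : Set S)) := Sylow.ofCard (P.subgroupOf _) (by
    rw [Nat.card_congr (subgroupOfEquivOfLe hu).toEquiv, hP, hc]
    decide +kernel)
  have key : ∀ r : ℕ, r.Prime → r ∣ Nat.card (normalizer (Q : Set (centralizer ({u} : Set S)))) →
      ∃ t ∈ normalizer (P : Set S), orderOf t = r ∧ Commute t u := fun r hr h => by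
    have := Fact.mk hr
    obtain ⟨w, hw⟩ := exists_prime_orderOf_dvd_card' r h
    exact ⟨w.1.1, mem_normalizer_fintype fun x hx => (mem_normalizer_iff.1 w.2 ⟨x, hu hx⟩).1 hx,
      by rw [orderOf_coe, orderOf_coe, hw], mem_centralizer_singleton_iff.1 w.1.2⟩
  refine key 3 Nat.prime_three (by_contra fun h3 => ?_)
  have h6 : ¬ 5 ∣ Nat.card (normalizer (Q : Set (centralizer ({u} : Set S)))) := fun h => by
    obtain ⟨w, h6, h7, -⟩ := key 5 Nat.prime_five h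
    have h8 := H966.Der.card_mod_of_normalizer Nat.prime_five h7 h6
    have h9 : Nat.card ↥(P ⊓ centralizer ({w} : Set S)) ∣ 7 ^ 2 := (card_dvd_of_le inf_le_left).trans hP.dvd
    obtain ⟨i, hi, h10⟩ := (Nat.dvd_prime_pow h7'.out).1 h9
    rw [h10, hP] at h8
    obtain rfl : i = 2 := by
      interval_cases i
      · exact absurd h8 (by decide)
      · exact absurd h8 (by decide)
      · rfl
    have h11 : P ⊓ centralizer ({w} : Set S) = P := eq_of_le_of_card_ge inf_le_left (by rw [h10, hP]; norm_num)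
    refine h5 (h7 ▸ orderOf_dvd_natCard _ (mem_centralizer_iff.2 fun x hx => ?_))
    exact mem_centralizer_singleton_iff.1 (h11.ge hx).2
  have h7 := card_sylow_modEq_one 7 (centralizer ({u} : Set S))
  have h8 := Q.card_dvd_index
  have h9 := (normalizer (Q : Set (centralizer ({u} : Set S)))).card_mul_index
  have h10 := (Q : Subgroup (centralizer ({u} : Set S))).card_mul_index
  rw [show Nat.card (Q : Subgroup (centralizer ({u} : Set S))) = 49 from
    (Nat.card_congr (subgroupOfEquivOfLe hu).toEquiv).trans hP, hc] at h10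
  rw [show (Q : Subgroup (centralizer ({u} : Set S))).index = 45 * 2 ^ 8 by omega] at h8
  rw [← Q.card_eq_index_normalizer, hc] at h9
  generalize Nat.card (Sylow 7 (centralizer ({u} : Set S))) = n at *
  generalize Nat.card (normalizer (Q : Set (centralizer ({u} : Set S)))) = m at *
  obtain ⟨j, rfl⟩ : 45 ∣ n := Nat.Coprime.dvd_of_dvd_mul_left (Nat.Coprime.mul_left
    ((Nat.prime_three.coprime_iff_not_dvd.2 h3).pow_left 2) (Nat.prime_five.coprime_iff_not_dvd.2 h6)) (h9 ▸ by decide)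
  obtain ⟨i, hi, rfl⟩ := (Nat.dvd_prime_pow Nat.prime_two).1 (Nat.dvd_of_mul_dvd_mul_left (by norm_num) h8)
  interval_cases i <;> exact absurd h7 (by decide)

theorem comm_three (hP : Nat.card P = 49) (hab : P ≤ centralizer P) (hc : Nat.card (centralizer (P : Set S)) ∣ 4 * 49)
    {t d : S} (ht : t ∈ normalizer (P : Set S)) (ho : orderOf t = 3) (hd : orderOf d = 2) (h1 : d ∈ centralizer (P : Set S))
    (h2 : Commute d t) : ∀ y ∈ centralizer (P : Set S), ¬ 7 ∣ orderOf y → Commute t y := fun y hy h7 => by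
  have h3 := H966.Der.card_mod_of_normalizer Nat.prime_three ho (H644.mem_normalizer_centralizer ht)
  have h4 : 2 ∣ Nat.card ↥(centralizer (P : Set S) ⊓ centralizer ({t} : Set S)) :=
    hd ▸ orderOf_dvd_natCard _ (mem_inf.2 ⟨h1, mem_centralizer_singleton_iff.2 h2⟩)
  have h5 : (centralizer (P : Set S) ⊓ centralizer ({t} : Set S)) ⊔ P ≤ centralizer (P : Set S) := sup_le inf_le_left hab
  have h6 := card_dvd_of_le h5
  have h8 := card_dvd_of_le (le_sup_left (a := centralizer (P : Set S) ⊓ centralizer ({t} : Set S)) (b := P))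
  have h9 := hP ▸ card_dvd_of_le (le_sup_right (a := centralizer (P : Set S) ⊓ centralizer ({t} : Set S)) (b := P))
  have h10 := eq_of_le_of_card_ge h5 ((by decide +kernel : ∀ c ∈ Nat.divisors 196, ∀ s ∈ Nat.divisors 196,
    ∀ a ∈ Nat.divisors 196, c ≡ a [MOD 3] → 2 ∣ a → s ∣ c → a ∣ s → 49 ∣ s → c ≤ s) _ (Nat.mem_divisors.2 ⟨hc, by norm_num⟩) _
    (Nat.mem_divisors.2 ⟨h6.trans hc, by norm_num⟩) _ (Nat.mem_divisors.2 ⟨h8.trans (h6.trans hc), by norm_num⟩)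
    h3 h4 h6 h8 h9)
  have h11 : y ∈ (((centralizer (P : Set S) ⊓ centralizer ({t} : Set S)) ⊔ P : Subgroup S) : Set S) := h10.ge hy
  rw [coe_mul_of_left_le_normalizer_right _ _ (inf_le_left.trans (centralizer_le_normalizer _))] at h11
  obtain ⟨f, hf, v, hv, rfl⟩ := h11
  have h12 : (f * v) ^ 49 = f ^ 49 := by
    rw [Commute.mul_pow (mem_centralizer_iff.1 hf.1 v hv).symm,
      show v ^ 49 = 1 from congrArg Subtype.val (hP ▸ pow_card_eq_one' (x := (⟨v, hv⟩ : P))), mul_one]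
  have h13 : f * v ∈ zpowers ((f * v) ^ 49) :=
    mem_zpowers_pow_iff.2 (((by norm_num : Nat.Prime 7).coprime_iff_not_dvd.2 h7).pow_left 2)
  rw [h12] at h13
  exact (mem_centralizer_singleton_iff.1 (zpowers_le.2 (pow_mem hf.2 49) h13)).symm

end

theorem b_2_7_of (hDE : BoxDE) : ∀ (S : Type) [Group S] [Finite S], Spor.IsoB S → Cov 2 7 S := fun _ _ _ ⟨e⟩ =>
  Cov.of_equiv e fun X _ _ σ M Γ b D H hc _ => by
    have h7' : Fact (Nat.Prime 7) := ⟨by norm_num⟩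
    have := Finite.of_surjective σ H.surj
    have hB : Spor.IsoB Spor.BabyMonster := ⟨MulEquiv.refl _⟩
    obtain ⟨T, hm, -⟩ := tB
    have h1 : (Inn X).relIndex Γ = 1 := Nat.dvd_one.1 (S2084.result ▸ boxIdx 7 M X Γ b D _ σ H)
    have h2 : ¬ 7 ^ 3 ∣ Nat.card Spor.BabyMonster := by rw [hm.1]; decide +kernel
    have h3 := (card_sq H h2).2
    have h4 := H436.B7.card_cent hB h3
    have h5 := forall_of_comm (comm_of_not_cube_dvd (H.pg.map σ) (by rw [h3]; decide))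
    obtain ⟨u, hu⟩ := exists_prime_orderOf_dvd_card' (G := D.map σ) 7 (by rw [h3]; decide)
    have h6 : orderOf (u : Spor.BabyMonster) = 7 := (orderOf_coe u).trans hu
    have h7 := le_cnt hm (u : Spor.BabyMonster)
    rw [← (by decide +kernel : ∀ t < B.Fin.datF.n, B.Fin.datF.ord t = 7 → B.Fin.datF.cnt t * 564480 = B.Fin.datF.N) _
      (T.lt _) (T.ord _ ▸ h6)] at h7
    replace h7 := Nat.le_of_mul_le_mul_left h7 (cnt_pos hm _)
    obtain ⟨h8, d, h9, h10, h11, h12⟩ := (Cam.Spor.b_seven hB h6).resolve_left (by omega)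
    obtain ⟨t, h13, h14, h15⟩ := exists_three h3 (fun x hx => mem_centralizer_singleton_iff.2 (h5 x hx u u.2)) h8
      fun h => absurd (h.trans h4) (by decide)
    refine (de hDE H (h1 ▸ one_dvd _) (boxHz 7 M X Γ b D _ σ H (.inr (.inl h1))) h2 (by rw [hc]; decide)
      (fun h => absurd (h.trans h4) (by decide)) u.2 (fun h => ?_) h13 h14 h15
      (comm_three h3 (fun x hx => mem_centralizer_iff.2 fun y hy => h5 y hy x hx) h4 h13 h14
        (orderOf_eq_prime ((pow_two d).trans h10) h9) (mem_centralizer_iff.2 fun y hy => h12 y (h5 y hy u u.2))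
        (h12 t h15).symm)).elim
    rw [h, orderOf_one] at h6
    omega

end Cfsg.Agent.OM.C5
end

-- part: OM/Sp/C2/Tool
section
/-!
# OM (S4894), covers: a member of `q`-defect zero (helper43)

* `dvd_of_dz` : if a member of `b` vanishes at the elements of order `q`, then `q` divides all degrees in `b`;
* `Cv`, `Cv.dz`, `Cv.two`, `Cv.fd` : degrees of faithful characters of a perfect cover with centre of prime order;
* `mem`, `fin` : the end of a row.
-/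

set_option autoImplicit false
set_option linter.unusedSectionVars false
set_option maxHeartbeats 400000

namespace Cfsg.Agent.OM.C2

open Cfsg Subgroup Cfsg.Agent.OM.Alt Cfsg.Agent.BZ.T Cfsg.Agent.Blocks.Local Cfsg.Agent.Blocks.Basic
  Cfsg.Agent.TAB.Eng Cfsg.Agent.TAB.Use
open Cfsg.Agent.BZ.C2 (Fd)
open Cfsg.Agent.BHZ.Spor (RegTriv)

/-- **a member which vanishes at the elements of order `q`** -/
theorem dvd_of_dz {X : Type} [Group X] [Finite X] {p q : ℕ} (hp : p.Prime) [hq : Fact q.Prime] (hpq : p ≠ q)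
    {b : Set (IrrCharacter X)} (h : OneA p b) (hX : q ∣ Nat.card X) {θ θ' : IrrCharacter X} (hθ : θ ∈ b) (hθ' : θ' ∈ b)
    (h0 : ∀ x, orderOf x = q → (θ : X → ℂ) x = 0) : q ∣ charDegree (θ' : X → ℂ) := by
  classical
  have := Fintype.ofFinite X
  obtain ⟨M, hM⟩ := Blocks.ExistsModular.exists_isPModular hq.out
  have := isPrime_of_isPModular hM
  have h1 : ∀ x : X, x ^ q = 1 → x = 1 ∨ orderOf x = q := fun x hx =>
    ((Nat.dvd_prime hq.out).1 (orderOf_dvd_of_pow_eq_one hx)).imp_left orderOf_eq_one_iff.1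
  have h2 := h {x | x ^ q = 1} (fun α x (hx : x ^ q = 1) => show α x ^ q = 1 by rw [← map_pow, hx, map_one])
    (fun x (hx : x ^ q = 1) e => hpq ((Nat.prime_dvd_prime_iff_eq hp hq.out).1 (e.trans (orderOf_dvd_of_pow_eq_one hx))))
    θ hθ θ' hθ'
  have h3 : ks {x | x ^ q = 1} (θ : X → ℂ) = (θ : X → ℂ) 1 := by
    rw [ks_eq, Finset.sum_eq_single 1 (fun x _ hx => ?_) fun e => absurd (Finset.mem_univ _) e,
      if_pos (show (1 : X) ∈ {x : X | x ^ q = 1} from one_pow q)]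
    split_ifs with h4
    · exact h0 x ((h1 x h4).resolve_left hx)
    · rfl
  rw [h3, mul_comm] at h2
  have h4 := mul_right_cancel₀ (irr_one_ne_zero θ.2) h2
  have h5 : MemLocalIdeal M (ks {x | x ^ q = 1} (θ' : X → ℂ) - ks {x : X | x ^ q = 1} fun _ => (θ' : X → ℂ) 1) := by
    rw [ks_eq, ks_eq]
    refine memLocalIdeal_sum_sub_sum fun x _ => ?_
    split_ifs with h6
    · have h7 := CharactersDeep.ModCongr.memLocalIdeal_character_sub hM θ'.2 x x (Blocks.PPart.isPPart_of_isPGroup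
        ((h1 x h6).elim (fun e => ⟨0, by rw [e, orderOf_one, pow_zero]⟩) fun e => ⟨1, by rw [e, pow_one]⟩))
      rwa [inv_mul_cancel] at h7
    · rw [sub_zero]
      exact memLocalIdeal_zero
  rw [← h4, ks_const (fun _ _ => rfl), irr_one_eq_charDegree θ'.2] at h5
  refine (memLocalIdeal_natCast_iff hM _).1 ((memLocalIdeal_iff_of_sub h5).2 (memLocalIdeal_mul_right
    ((memLocalIdeal_natCast_iff hM _).2 ?_) (memLocalRing_natCast _)))
  exact S0738.dvd_card_pow_eq_one q hX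

/-- a perfect cover with centre of order `r` -/
structure Cv (r : ℕ) {X S : Type} [Group X] [Group S] (σ : X →* S) : Prop where
  surj : Function.Surjective σ
  ker : σ.ker = center X
  card : Nat.card (center X) = r
  per : commutator X = ⊤

section cv

variable {r : ℕ} [hr : Fact r.Prime] {X S : Type} [Group X] [Finite X] [Group S] {σ : X →* S}

theorem Cv.ext (C : Cv r σ) : BZ.Comp.Ext r σ :=
  ⟨C.surj, C.ker.le, IsPGroup.of_card (n := 1) (by rw [C.ker, C.card, pow_one])⟩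

theorem Cv.nu (C : Cv r σ) : ∃ ν : σ.ker →* ℂˣ, ∀ χ : IrrCharacter X, BZ.Comp.Ov σ ν (χ : X → ℂ) →
    ∀ z ∈ center X, (χ : X → ℂ) z = (χ : X → ℂ) 1 → z = 1 := by
  have h1 : Nontrivial σ.ker := Finite.one_lt_card_iff_nontrivial.1 (by rw [C.ker, C.card]; exact hr.out.one_lt)
  obtain ⟨z, hz⟩ := exists_ne (1 : σ.ker)
  let _ : CommGroup σ.ker :=
    { (inferInstance : Group σ.ker) with mul_comm := fun a b => Subtype.ext (mem_center_iff.1 (C.ker.le b.2) a) }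
  have : NeZero (Monoid.exponent σ.ker) := ⟨Monoid.exponent_ne_zero_of_finite⟩
  obtain ⟨ν, hν⟩ := CommGroup.exists_apply_ne_one_of_hasEnoughRootsOfUnity σ.ker ℂ hz
  refine ⟨ν, fun χ o => faith_of_prime hr.out C.card (C.ker.le z.2) fun h => hν (Units.ext ?_)⟩
  rw [o z] at h
  exact mul_right_cancel₀ (irr_one_ne_zero χ.2) (h.trans (one_mul _).symm)

theorem Cv.card_eq (C : Cv r σ) : Nat.card X = Nat.card S * r := by
  rw [card_eq_card_quotient_mul_card_subgroup σ.ker,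
    Nat.card_congr (QuotientGroup.quotientKerEquivOfSurjective σ C.surj).toEquiv, C.ker, C.card]

variable {E : Dat} {T : TD S E} {R : Rows}

/-- the degree of a character of `r`-defect zero -/
theorem Cv.dz (C : Cv r σ) (hm : T.Mass) (hT : Tab T R) (j e n : ℕ)
    (h : j < R.n ∧ R.d j = n ∧ r ^ e ∣ n ∧ r ^ e ∣ E.N ∧ ¬ r ^ (e + 1) ∣ E.N) : Fd X n := by
  have := Finite.of_surjective σ C.surj
  obtain ⟨ν, hν⟩ := C.nu
  obtain ⟨φ, hE, -⟩ := hT
  obtain ⟨h1, rfl, h2, h3, h4⟩ := h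
  obtain ⟨χ, h5, h6⟩ := BZ.Comp.dz C.ext ν (hE.irr j h1) fun g =>
    zero_of_dz (hE.irr j h1) (hE.deg j h1) hr.out (hm.1 ▸ h3) (hm.1 ▸ h4) h2
  exact ⟨χ, hν χ h5, by simp [charDegree, h6 1 BZ.Comp.reg_one, hE.deg j h1]⟩

/-- the degrees in an `r`-block of defect one with three members and two Brauer characters -/
theorem Cv.two (C : Cv r σ) (hT : Tab T R) (a c : Fin 3 → ℕ) (h1 : BZ.Comp.rowsB R a c)
    (hA : ∀ t < E.n, ¬ r ∣ E.ord t → BZ.Comp.rv R (a 2) t = BZ.Comp.rv R (a 0) t + BZ.Comp.rv R (a 1) t)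
    (hB : ∀ t < E.n, r ∣ E.ord t → BZ.Comp.rv R (a 0) t + BZ.Comp.rv R (a 2) t = 0 ∧
      BZ.Comp.rv R (a 1) t + BZ.Comp.rv R (a 2) t = 0)
    (j : Fin 3) (n : ℕ) (h : ∀ t < E.n, E.ord t = 1 → BZ.Comp.rv R (a j) t = n) : Fd X n := by
  obtain ⟨ν, hν⟩ := C.nu
  obtain ⟨χ, h5, h6⟩ := BZ.Comp.two_tab C.ext ν hT a c h1 hA hB j
  have h7 : (χ : X → ℂ) 1 = n := by
    rw [h6 1 BZ.Comp.reg_one, h _ (T.lt _) (by rw [← T.ord, map_one, orderOf_one]), Int.cast_natCast]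
  exact ⟨χ, hν χ h5, by simp [charDegree, h7]⟩

open Cfsg.Agent.BZ.C5 in
/-- a faithful character whose degree has the property `P` -/
theorem Cv.fd (C : Cv r σ) (hm : T.Mass) {V G : List (List ℤ)} (hV : ∀ v ∈ V, Virt T (nth v)) {L m : ℕ} {lv : List Lv}
    {e : List ℤ} (h0 : okV E r V G lv.length = true) (h1 : okL G L lv = true) (he : okD E V lv.length e m = true)
    (hm0 : 0 < m) {QL : List (List ℤ × List ℤ)} {P : ℕ → Bool}
    (h2 : okQ G L lv QL (fun xs => !(pd e m (E.N * r) r P xs)) = true) : ∃ n, Fd X n ∧ P n = true := by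
  have := Finite.of_surjective σ C.surj
  obtain ⟨ν, hν⟩ := C.nu
  obtain ⟨χ, x, h3, h4, h5⟩ := core C.ext ν hm hV h0 h1 h2
  refine ⟨_, ⟨χ, hν χ h3, rfl⟩, ?_⟩
  have h6 := dvd_deg C.ext C.per (C.ker ▸ C.card) (C.ker ▸ hν χ h3)
  have h7 := H669.Basic.charDegree_dvd_card χ.2
  rw [C.card_eq, hm.1] at h7
  rw [pd, h4.deg hm he] at h5
  have h8 : (!frc (m * charDegree (χ : X → ℂ)) fun y => Nat.beq (y % m) 0 && frc (y / m) fun d =>
    Nat.beq (E.N * r % d) 0 && Nat.beq (d % r) 0 && !(P d)) = true := h5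
  rw [frc_eq, frc_eq, Nat.mul_mod_right, Nat.mul_div_cancel_left _ hm0, Nat.mod_eq_zero_of_dvd h6,
    Nat.mod_eq_zero_of_dvd h7] at h8
  simpa using h8

end cv

variable {p : ℕ} [hp : Fact p.Prime] {M : Ideal AlgInt} {X : Type} [Group X] [Finite X] {Γ : Subgroup (MulAut X)}
  {b : Set (IrrCharacter X)} {D : Subgroup X} {S : Type} [Group S] {σ : X →* S}

theorem cv (H : Hyp p M Γ b D σ) {r : ℕ} (hc : Nat.card (center X) = r) : Cv r σ :=
  ⟨H.surj, H.ker, hc, H.sit.qs.1.commutator_eq_top⟩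

theorem ce (H : Hyp p M Γ b D σ) : Ce p σ := ⟨H.surj, H.ker.le, H.ker ▸ H.sit.ndvd⟩

theorem rt (H : Hyp p M Γ b D σ) {d : ℕ} (h : Reg p d S) (hd : Thr p ∣ Nat.card D) (h1 : p ^ d ∣ Thr p) :
    RegTriv p (D.map σ) := (ce H).rt_of_reg h (h1.trans hd)

/-- a Galois conjugate of a faithful character in a block of maximal defect lies in `b` -/
theorem mem_of_top (H : Hyp p M Γ b D σ) (h : RegTriv p (D.map σ)) (χ : IrrCharacter X)
    (hf : ∀ z ∈ center X, (χ : X → ℂ) z = (χ : X → ℂ) 1 → z = 1) (hT : Top p M (χ : X → ℂ)) :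
    ∃ (m : ℕ) (hm : m.Coprime (Nat.card X)), gal hm χ ∈ b := by
  have := isPrime_of_isPModular H.hM
  obtain ⟨ψ, h1, h3⟩ := (ce H).max_of_rt H.hM H.hb H.hD h
  obtain ⟨m, hm, h2⟩ := exists_gal H.ker.le (H.ker ▸ H.sit.cyc) (χ := χ) (ψ := ψ) (H.ker ▸ hf) (H.ker ▸ H.faith ψ h1)
  exact ⟨m, hm, isPBlock_mem_of_sameBlock H.hb h1 ((ce H).same H.hM ⟨_, H.pg.map σ, h⟩ (top_of_not_dvd H.hM h3)
    (hT.gal hm) h2.symm)⟩

/-- there is a member of degree `n` -/
def Dg (b : Set (IrrCharacter X)) (n : ℕ) : Prop := ∃ θ ∈ b, charDegree (θ : X → ℂ) = n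

theorem mem0 (H : Hyp p M Γ b D σ) (h : RegTriv p (D.map σ)) {n : ℕ} (hn : Fd X n) (h1 : ¬ p ∣ n) : Dg b n := by
  obtain ⟨χ, hf, rfl⟩ := hn
  obtain ⟨m, hm, h2⟩ := mem_of_top H h χ hf (top_of_not_dvd H.hM h1)
  exact ⟨_, h2, gal_deg hm χ⟩

theorem mem (H : Hyp p M Γ b D σ) (h : RegTriv p (D.map σ)) {n d : ℕ} (hn : Fd X n) (hR : Reg p d S) (a : ℕ)
    (h2 : ¬ p ^ (a + 1) ∣ n) (h4 : p ^ (a + d) ∣ Nat.card S) : Dg b n := by
  have := Finite.of_surjective σ H.surj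
  obtain ⟨χ, hf, rfl⟩ := hn
  obtain ⟨m, hm, h3⟩ := mem_of_top H h χ hf ((ce H).top_of_crit H.hM hR χ (by
    have h5 := (hp.out.pow_dvd_iff_le_factorization Nat.card_pos.ne').1 h4
    have h6 := mt (hp.out.pow_dvd_iff_le_factorization (charDegree_pos χ.2).ne').2 h2
    omega))
  exact ⟨_, h3, gal_deg hm χ⟩

/-- **the end of a row** : a member of `q`-defect zero and a member of degree prime to `q` -/
theorem fin (H : Hyp p M Γ b D σ) {n m N r : ℕ} (hn : Dg b n) (hm : Dg b m) (hN : Nat.card S = N)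
    (hc : Nat.card (center X) = r) (q e : ℕ) (hq : q.Prime)
    (h : p ≠ q ∧ q ∣ N ∧ q ^ e ∣ n ∧ ¬ q ^ (e + 1) ∣ N * r ∧ ¬ q ∣ m) : False := by
  have := Fact.mk hq
  obtain ⟨θ, h1, rfl⟩ := hn
  obtain ⟨θ', h2, rfl⟩ := hm
  obtain ⟨h3, h4, h5, h6, h7⟩ := h
  have h8 : Nat.card X = N * r := by rw [H.card_eq, hN, hc]
  exact h7 (dvd_of_dz hp.out h3 (oneA_of_one H.one) (h8 ▸ h4.mul_right r) h1 h2 fun x hx =>
    zero_of_dz θ.2 (irr_one_eq_charDegree θ.2) hq (h5.trans (H669.Basic.charDegree_dvd_card θ.2)) (h8 ▸ h6) h5 hx.symm.dvd)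

end Cfsg.Agent.OM.C2
end
end

-- part: OM/Xc/C/SevE_mg
section
prune_inst 0xc02014000200000000000000000040100000009000008000c00002040200000209000000040010020000200000000000020000004000000000000000000000000000000000000000800000000000000000000000000000000000000000000000000000000
set_option linter.all false
open scoped Cfsg.Agent.FastGrp

-- part: OM/Lo/OvA
section
/-!
# OM (S4894): the block over a stable block of a subgroup of index two (helper43)

* `exists_two` : a cyclic extension of degree two;  `low` : a lower bound for the sum of the squares of the degrees;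
* `Cv`, `exists_cv` : one block of rank one lies over `b`.
-/

set_option autoImplicit false
set_option linter.unusedSectionVars false
set_option maxHeartbeats 400000

namespace Cfsg.Agent.OM.Lo.Ovg

open Cfsg Subgroup Cfsg.Agent.Characters.Core Cfsg.Agent.Blocks.Basic Cfsg.Agent.OM.Lo.DecP
open Cfsg.Agent.TO.S1 (cj cj_cases inv_iff ov_cj res_of_inv eq_of_moved deg_of_moved)
open scoped ComplexConjugate

section two

variable {X : Type} [Group X] {α : MulAut X} {y : X}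

variable (α y) in
/-- the multiplication -/
def mul2 : X ⊕ X → X ⊕ X → X ⊕ X :=
  Sum.elim (fun a => Sum.elim (fun b => .inl (a * b)) fun b => .inr (a * b))
    fun a => Sum.elim (fun b => .inr (a * α b)) fun b => .inl (a * α b * y)

/-- the extension -/
@[reducible] def grp (h1 : ∀ x, α (α x) = y * x * y⁻¹) (h2 : α y = y) : Group (X ⊕ X) :=
  @Group.ofLeftAxioms _ ⟨mul2 α y⟩ ⟨Sum.elim (fun a => .inl a⁻¹) fun a => .inr (y⁻¹ * (α a)⁻¹)⟩ ⟨.inl 1⟩
    (by
      rintro (a | a) (b | b) (c | c)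
      · exact congrArg Sum.inl (mul_assoc a b c)
      · exact congrArg Sum.inr (mul_assoc a b c)
      · exact congrArg Sum.inr (mul_assoc a b (α c))
      · exact congrArg Sum.inl (show a * b * α c * y = a * (b * α c * y) by simp only [mul_assoc])
      · exact congrArg Sum.inr (show a * α b * α c = a * α (b * c) by rw [map_mul, mul_assoc])
      · exact congrArg Sum.inl (show a * α b * α c * y = a * α (b * c) * y by rw [map_mul, mul_assoc a])
      · exact congrArg Sum.inl (show a * α b * y * c = a * α (b * α c) * y by rw [map_mul, h1]; group)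
      · exact congrArg Sum.inr (show a * α b * y * c = a * α (b * α c * y) by rw [map_mul, map_mul, h1, h2]; group))
    (by
      rintro (a | a)
      · exact congrArg Sum.inl (one_mul a)
      · exact congrArg Sum.inr (one_mul a))
    (by
      rintro (a | a)
      · exact congrArg Sum.inl (inv_mul_cancel a)
      · exact congrArg Sum.inl (show y⁻¹ * (α a)⁻¹ * α a * y = 1 by group))

theorem exists_two [Finite X] (h1 : α * α = MulAut.conj y) (h2 : α y = y) :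
    ∃ (G : Type) (_ : Group G) (_ : Finite G) (ι : X →* G) (g : G), Function.Injective ι ∧ g ∉ ι.range ∧
      (∀ x, ι (α x) = g * ι x * g⁻¹) ∧ ∀ z : G, ∃ x, z = ι x ∨ z = ι x * g := by
  let _ := grp (α := α) (y := y) (fun x => DFunLike.congr_fun h1 x) h2
  refine ⟨X ⊕ X, inferInstance, inferInstance, MonoidHom.mk' Sum.inl fun _ _ => rfl, .inr 1, Sum.inl_injective, ?_,
    fun x => eq_mul_inv_of_mul_eq (congrArg Sum.inr (show α x * 1 = 1 * α x by rw [mul_one, one_mul])), ?_⟩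
  · rintro ⟨x, hx⟩
    exact Sum.inl_ne_inr hx
  · rintro (a | a)
    · exact ⟨a, .inl rfl⟩
    · exact ⟨a, .inr (congrArg Sum.inr (mul_one a).symm)⟩

theorem index_two {G : Type} [Group G] {N : Subgroup G} {g : G} (hg : g ∉ N) (h : ∀ z : G, ∃ x ∈ N, z = x ∨ z = x * g) :
    N.index = 2 := index_eq_two_iff.2 ⟨g⁻¹, fun z => by
  obtain ⟨x, hx, rfl | rfl⟩ := h z
  · exact .inr ⟨hx, fun e => hg (by simpa using (N.mul_mem_cancel_left hx).1 e)⟩
  · exact .inl ⟨by simpa using hx, fun e => hg ((N.mul_mem_cancel_left hx).1 e)⟩⟩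

end two

variable {p : ℕ} {M : Ideal AlgInt} {G : Type} [Group G]

/-- the sum of the squares of the degrees -/
theorem low [Finite G] (hM : IsPModular p M) {F : Finset (IrrCharacter G)} (hb : IsPBlock M (F : Set (IrrCharacter G)))
    {m k : ℕ} (hm : ∀ χ ∈ F, m ∣ charDegree (χ : G → ℂ)) (hk : ∀ c, p ^ (Nat.card G).factorization p ∣ m * c → k ∣ c) :
    m * (m * k) ≤ ∑ χ ∈ F, charDegree (χ : G → ℂ) ^ 2 ∧
      (∑ χ ∈ F, charDegree (χ : G → ℂ) ^ 2 < 2 * (m * (m * k)) → R1 p (F : Set (IrrCharacter G))) := by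
  have := Fact.mk hM.1
  have := Blocks.Local.isPrime_of_isPModular hM
  obtain ⟨l, d, φ, n, h⟩ := exists_dm hM hb
  have hr : IsPRegular p (1 : G) := by
    rw [IsPRegular, orderOf_one]
    exact hM.1.not_dvd_one
  choose u hu hu1 using h.deg
  have h1 : ∀ χ ∈ F, charDegree (χ : G → ℂ) = ∑ j, d χ j * u j := fun χ hχ => by
    have h2 := h.dec χ hχ 1 hr
    simp only [hu1] at h2
    rw [irr_one_eq_charDegree χ.2] at h2
    exact_mod_cast h2
  have h2 : ∀ j, m ≤ u j := fun j => Nat.le_of_dvd (hu j) (by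
    have h4 := h.comb j 1 hr
    rw [hu1] at h4
    have h5 : ((u j : ℤ) : ℂ) = ((∑ χ ∈ F, n j χ * charDegree (χ : G → ℂ) : ℤ) : ℂ) := by
      rw [Int.cast_natCast, h4, Int.cast_sum]
      exact Finset.sum_congr rfl fun χ _ => by rw [irr_one_eq_charDegree χ.2, Int.cast_mul, Int.cast_natCast]
    rw [← Int.natCast_dvd_natCast, Int.cast_injective h5]
    exact Finset.dvd_sum fun χ hχ => (Int.natCast_dvd_natCast.2 (hm χ hχ)).mul_left _)
  have h3 : ∀ j, m * k ≤ ∑ χ ∈ F, d χ j * charDegree (χ : G → ℂ) := fun j => by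
    obtain ⟨P⟩ : Nonempty (Sylow p G) := inferInstance
    have h4 := h.int hM hb j P
    have h5 : ∑ χ ∈ F, (d χ j : ℂ) * (χ : G → ℂ) 1 = (∑ χ ∈ F, d χ j * charDegree (χ : G → ℂ) : ℕ) := by
      rw [Nat.cast_sum]
      exact Finset.sum_congr rfl fun χ _ => by rw [irr_one_eq_charDegree χ.2, Nat.cast_mul]
    rw [h5] at h4
    have h6 := Characters.DegreeBounds.nat_dvd_of_isIntegral_div Nat.card_pos.ne' h4
    obtain ⟨χ, hχ, h7⟩ := h.col j
    have h8 : 0 < ∑ χ ∈ F, d χ j * charDegree (χ : G → ℂ) :=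
      Finset.sum_pos' (fun _ _ => Nat.zero_le _) ⟨χ, hχ, Nat.mul_pos (Nat.pos_of_ne_zero h7) (charDegree_pos χ.2)⟩
    obtain ⟨c, hc⟩ : m ∣ ∑ χ ∈ F, d χ j * charDegree (χ : G → ℂ) := Finset.dvd_sum fun χ hχ => (hm χ hχ).mul_left _
    rw [P.card_eq_multiplicity, hc] at h6
    rw [hc] at h8 ⊢
    exact Nat.mul_le_mul_left _ (Nat.le_of_dvd (Nat.pos_of_mul_pos_left h8) (hk c h6))
  have h4 : l * (m * (m * k)) ≤ ∑ χ ∈ F, charDegree (χ : G → ℂ) ^ 2 := by
    have h5 : ∑ χ ∈ F, charDegree (χ : G → ℂ) ^ 2 = ∑ j, u j * ∑ χ ∈ F, d χ j * charDegree (χ : G → ℂ) := by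
      simp only [Finset.mul_sum]
      rw [Finset.sum_comm]
      refine Finset.sum_congr rfl fun χ hχ => ?_
      rw [sq]
      nth_rw 1 [h1 χ hχ]
      rw [Finset.sum_mul]
      exact Finset.sum_congr rfl fun j _ => by ring
    have h6 := Finset.card_nsmul_le_sum Finset.univ (fun j => u j * ∑ χ ∈ F, d χ j * charDegree (χ : G → ℂ)) _
      fun j _ => Nat.mul_le_mul (h2 j) (h3 j)
    rwa [Finset.card_univ, Fintype.card_fin, smul_eq_mul, ← h5] at h6
  have h5 : l ≠ 0 := by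
    rintro rfl
    obtain ⟨χ, hχ⟩ := isPBlock_nonempty hb
    exact (charDegree_pos χ.2).ne' (by rw [h1 χ hχ, Fintype.sum_empty])
  refine ⟨(Nat.le_mul_of_pos_left _ (Nat.pos_of_ne_zero h5)).trans h4, fun h6 => ?_⟩
  obtain rfl : l = 1 := by
    have := Nat.lt_of_mul_lt_mul_right (h4.trans_lt h6)
    omega
  intro χ hχ ψ hψ x hx
  rw [h.dec χ hχ x hx, h.dec ψ hψ x hx, h.dec χ hχ 1 hr, h.dec ψ hψ 1 hr]
  simp only [Fin.sum_univ_one]
  ring

variable [Fintype G] {N : Subgroup G} [N.Normal] [Fintype N]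

theorem res_of_moved (hN : N.index = 2) {t : G} (ht : t ∉ N) {χ : IrrCharacter G} {θ : IrrCharacter N}
    (h : TO.S1.Ov χ θ) (hθ : cj t θ ≠ θ) (n : N) : (χ : G → ℂ) n = (θ : N → ℂ) n + (cj t θ : N → ℂ) n := by
  have h1 := mt (inv_iff hN ht θ).1 hθ
  rcases H348.PPD.Dich.dich N hN θ.2 with ⟨ψ, h2, h3⟩ | ⟨ψ, h2, -, h3⟩
  · exact absurd (H41.McLTwo.Cliff.inv_of_ext (χ := ⟨ψ, h2⟩) h3) h1
  · have h4 : TO.S1.Ov ⟨ψ, h2⟩ θ := by
      have h5 : (fun n : N => ψ n) = (θ : N → ℂ) + (cj t θ : N → ℂ) := funext (h3 t ht).1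
      change classInner (fun n : N => ψ n) _ ≠ 0
      rw [h5, classInner_add_left, classInner_irr_self θ.2, classInner_irr_ne (cj t θ).2 θ.2 fun e => hθ (Subtype.ext e),
        add_zero]
      exact one_ne_zero
    rw [eq_of_moved hN h4 h h1]
    exact (h3 t ht).1 n

theorem sum_sq (B : Finset (IrrCharacter G)) :
    (Nat.card G : ℂ) * blockCoeff (B : Set (IrrCharacter G)) 1 = (∑ χ ∈ B, charDegree (χ : G → ℂ) ^ 2 : ℕ) := by
  rw [blockCoeff, mul_inv_cancel_left₀ (Nat.cast_ne_zero.2 Nat.card_pos.ne'), finsum_mem_coe_finset, Nat.cast_sum]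
  exact Finset.sum_congr rfl fun χ _ => by rw [irr_one_eq_charDegree χ.2, map_natCast, Nat.cast_pow, sq]

/-- the block `B` over `b` -/
structure Cv (p : ℕ) (M : Ideal AlgInt) (b : Set (IrrCharacter N)) (D : Subgroup N) (n : ℕ) (B : Set (IrrCharacter G)) :
    Prop where
  blk : IsPBlock M B
  dg : IsDefectGroup p M B (D.map N.subtype)
  r1 : R1 p B
  mem : ∀ χ, χ ∈ B ↔ ∃ θ ∈ b, TO.S1.Ov χ θ
  dvd : ∀ χ ∈ B, 2 * n ∣ charDegree (χ : G → ℂ)
  sum : ∑ᶠ χ ∈ B, (charDegree (χ : G → ℂ) / (2 * n)) ^ 2 = Nat.card D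

theorem exists_cv (hM : IsPModular p M) (hp : p ≠ 2) (hN : N.index = 2) {t : G} (ht : t ∉ N) {b : Set (IrrCharacter N)}
    (hb : IsPBlock M b) {D : Subgroup N} (hD : IsDefectGroup p M b D) (hst : ∀ θ ∈ b, cj t θ ∈ b) {n : ℕ} (hn : 0 < n)
    (hv : n.factorization p + (Nat.card D).factorization p = (Nat.card N).factorization p)
    (h1 : ∀ θ ∈ b, n ∣ charDegree (θ : N → ℂ)) (h2 : ∀ θ ∈ b, cj t θ = θ → 2 * n ∣ charDegree (θ : N → ℂ))
    (h3 : ∑ᶠ θ ∈ b, charDegree (θ : N → ℂ) ^ 2 = 2 * (n * (n * Nat.card D))) : ∃ B, Cv p M b D n B := by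
  classical
  have := Fact.mk hM.1
  have hP := Blocks.Local.isPrime_of_isPModular hM
  have := finite_irr (G := G)
  have := finite_irr (G := N)
  have hcj : ∀ g, ∀ θ ∈ b, cj g θ ∈ b := fun g θ h => (cj_cases hN ht g θ).elim (fun e => e.symm ▸ h) fun e => e.symm ▸ hst θ h
  have h2p : ¬ p ∣ 2 := fun e => hp ((Nat.prime_dvd_prime_iff_eq hM.1 Nat.prime_two).1 e)
  obtain ⟨θ₀, h0⟩ := isPBlock_nonempty hb
  obtain ⟨χ₀, o0⟩ := Blocks.Over.exists_over N θ₀
  have cl : ∀ χ : IrrCharacter G, ∀ θ ∈ b, TO.S1.Ov χ θ → ∀ χ' ∈ blockOf M (χ : G → ℂ), ∀ ψ, TO.S1.Ov χ' ψ → ψ ∈ b :=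
    fun χ θ hθ o χ' hχ' ψ o' => by
      obtain ⟨g, θ', h4, h5⟩ := S0964.result p M hM N _ (isPBlock_blockOf χ) b hb χ (mem_blockOf_self χ) θ hθ o χ' hχ' ψ o'
      exact (Subtype.ext (funext h5) : ψ = cj g θ') ▸ hcj g θ' h4
  have hU := Blocks.Fong.blockCoeff_lyingOver N b hcj
    (fun χ ⟨θ, hθ, o⟩ ψ o' => cl χ θ hθ o χ (mem_blockOf_self χ) ψ o') 1
  have hB := isPBlock_blockOf (M := M) χ₀
  have hχ₀ := mem_blockOf_self (M := M) χ₀
  have hBU : blockOf M (χ₀ : G → ℂ) ⊆ Blocks.Fong.lyingOver N b := fun χ hχ =>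
    let ⟨ψ, o⟩ := Blocks.Fong.exists_constituent N χ
    ⟨ψ, cl χ₀ θ₀ h0 o0 χ hχ ψ o, o⟩
  have hmem := Blocks.Fong.mem_lyingOver N b
  generalize blockOf M (χ₀ : G → ℂ) = B at hB hχ₀ hBU
  generalize Blocks.Fong.lyingOver N b = U at hU hBU hmem
  lift B to Finset (IrrCharacter G) using B.toFinite with F
  lift U to Finset (IrrCharacter G) using U.toFinite with U
  lift b to Finset (IrrCharacter N) using b.toFinite with b
  have hdv : ∀ χ ∈ U, 2 * n ∣ charDegree (χ : G → ℂ) := fun χ hχ => by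
    obtain ⟨θ, hθ, o⟩ := (hmem χ).1 hχ
    by_cases e : cj t θ = θ
    · rw [H41.McLTwo.Cliff.charDegree_of (res_of_inv hN o ((inv_iff hN ht θ).2 e) 1)]
      exact h2 θ hθ e
    · rw [deg_of_moved hN o (mt (inv_iff hN ht θ).1 e)]
      exact Nat.mul_dvd_mul_left 2 (h1 θ hθ)
  have hG : Nat.card G = Nat.card N * 2 := by rw [← hN, card_mul_index]
  have hS : ∑ χ ∈ U, charDegree (χ : G → ℂ) ^ 2 = 2 * n * (2 * n * Nat.card D) := by
    rw [dif_pos (one_mem N)] at hU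
    have h4 := sum_sq U
    have h5 := sum_sq b
    rw [finsum_mem_coe_finset] at h3
    rw [hU, hG, Nat.cast_mul, mul_right_comm, show (⟨1, one_mem N⟩ : N) = 1 from rfl, h5, h3, ← Nat.cast_mul] at h4
    rw [← Nat.cast_injective h4]
    ring
  obtain ⟨k, hk⟩ := IsPGroup.iff_card.1 (H592.Defect.isPGroup_of_isDefectGroup hD)
  obtain ⟨h4, h5⟩ := low hM hB (m := 2 * n) (k := Nat.card D) (fun χ hχ => hdv χ (hBU hχ)) fun c hc => by
    rcases eq_or_ne c 0 with rfl | hc0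
    · exact dvd_zero _
    rw [hM.1.pow_dvd_iff_le_factorization (by (clear * - hn hc0; positivity)), hG, Nat.factorization_mul (by positivity) hc0,
      Nat.factorization_mul two_ne_zero hn.ne', Nat.factorization_mul Nat.card_pos.ne' two_ne_zero] at hc
    rw [hk, hM.1.factorization_pow, Finsupp.single_eq_same] at hv
    simp only [Finsupp.add_apply] at hc
    rw [hk, hM.1.pow_dvd_iff_le_factorization hc0]
    omega
  have hpos : 0 < 2 * n * (2 * n * Nat.card D) := by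
    have := Nat.card_pos (α := D)
    (clear * - hn this; positivity)
  obtain rfl : F = U := Finset.Subset.antisymm hBU fun χ hχ => by
    by_contra h6
    exact (h4.trans_lt (Finset.sum_lt_sum_of_subset hBU hχ h6 (pow_pos (charDegree_pos χ.2) 2)
      fun _ _ _ => Nat.zero_le _)).ne' hS
  obtain ⟨P, h6, h7⟩ := S4438.result p M hM N _ hb (D.map N.subtype) (map_subtype_le D)
    (by rw [subgroupOf, comap_map_eq_self_of_injective N.subtype_injective]; exact hD) _ hB ⟨χ₀, hχ₀, θ₀, h0, o0⟩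
  have h8 : P ≤ N := fun x hx => by
    obtain ⟨j, hj⟩ := H592.Defect.isPGroup_of_isDefectGroup h6 ⟨x, hx⟩
    by_contra h9
    obtain ⟨i, hi⟩ := (hM.1.odd_of_ne_two hp).pow (n := j)
    have h10 : x ^ p ^ j = 1 := congrArg Subtype.val hj
    rw [hi, pow_succ, pow_mul] at h10
    exact h9 ((N.mul_mem_cancel_left (pow_mem (sq_mem_of_index_two hN x) i)).1 (h10 ▸ one_mem N))
  rw [inf_eq_left.2 h8] at h7
  refine ⟨_, hB, h7 ▸ h6, h5 (by omega), hmem, hdv, Nat.eq_of_mul_eq_mul_left (by positivity : 0 < (2 * n) ^ 2) ?_⟩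
  rw [finsum_mem_coe_finset, Finset.mul_sum, Finset.sum_congr rfl fun χ hχ => by
    rw [← mul_pow, Nat.mul_div_cancel' (hdv χ hχ)], hS]
  ring

end Cfsg.Agent.OM.Lo.Ovg
end

-- part: OM/Lo/Ov
section
/-!
# OM (S4894): the overgroup with a block of rank one (helper43)

* `Og`, `exists_og` : the overgroup;  `Dec.r1`, `Dec.og` : one or two Brauer characters;  `boxOv_of`, `boxOv`.
-/

set_option autoImplicit false
set_option linter.unusedSectionVars false
set_option maxHeartbeats 400000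

namespace Cfsg.Agent.OM.Lo

open Cfsg Subgroup Cfsg.Agent.Characters.Core Cfsg.Agent.Blocks.Basic Cfsg.Agent.H649 Cfsg.Agent.Blocks.ExtendedFMT
open Cfsg.Agent.TO.S1 (cj inv_iff res_of_inv eq_of_moved)

variable {p : ℕ} {M : Ideal AlgInt} {X : Type} [Group X] [Finite X] {Γ : Subgroup (MulAut X)}
  {b : Set (IrrCharacter X)} {D : Subgroup X}

namespace Ovg

/-- the overgroup -/
structure Og (p : ℕ) (M : Ideal AlgInt) (b : Set (IrrCharacter X)) (D : Subgroup X) (n : ℕ) (α : MulAut X) {G : Type}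
    [Group G] (ι : X →* G) (B : Set (IrrCharacter G)) (g : G) : Prop where
  inj : Function.Injective ι
  cnj : ∀ x, ι (α x) = g * ι x * g⁻¹
  gen : ∀ y, ∃ x, y = ι x ∨ y = ι x * g
  blk : IsPBlock M B
  dg : IsDefectGroup p M B (D.map ι)
  r1 : R1 p B
  low : ∀ χ ∈ B, ∃ θ ∈ b, (compIrr α θ = θ ∧ ∀ x, (χ : G → ℂ) (ι x) = (θ : X → ℂ) x) ∨
    (compIrr α θ ≠ θ ∧ ∀ x, (χ : G → ℂ) (ι x) = (θ : X → ℂ) x + (θ : X → ℂ) (α x))
  mov : ∀ θ ∈ b, compIrr α θ ≠ θ → ∃! χ, χ ∈ B ∧ ∀ x, (χ : G → ℂ) (ι x) = (θ : X → ℂ) x + (θ : X → ℂ) (α x)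
  fix : ∀ θ ∈ b, compIrr α θ = θ → {χ ∈ B | ∀ x, (χ : G → ℂ) (ι x) = (θ : X → ℂ) x}.ncard = 2
  dvd : ∀ χ ∈ B, 2 * n ∣ charDegree (χ : G → ℂ)
  sum : ∑ᶠ χ ∈ B, (charDegree (χ : G → ℂ) / (2 * n)) ^ 2 = Nat.card D

theorem exists_og (hM : IsPModular p M) (hp : p ≠ 2) (hb : IsPBlock M b) (hD : IsDefectGroup p M b D) {α : MulAut X} {y : X}
    (e1 : α * α = MulAut.conj y) (e2 : α y = y) (hst : Stb α b) {n : ℕ} (hn : 0 < n)
    (hv : n.factorization p + (Nat.card D).factorization p = (Nat.card X).factorization p)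
    (h1 : ∀ θ ∈ b, n ∣ charDegree (θ : X → ℂ)) (h2 : ∀ θ ∈ b, compIrr α θ = θ → 2 * n ∣ charDegree (θ : X → ℂ))
    (h3 : ∑ᶠ θ ∈ b, charDegree (θ : X → ℂ) ^ 2 = 2 * (n * (n * Nat.card D))) :
    ∃ (G : Type) (_ : Group G) (_ : Finite G) (ι : X →* G) (B : Set (IrrCharacter G)) (g : G), Og p M b D n α ι B g := by
  obtain ⟨G, _, _, ι, g, hι, hg, hc, hy⟩ := exists_two e1 e2
  have hN : ι.range.index = 2 := index_two hg fun z => let ⟨x, hx⟩ := hy z; ⟨ι x, ⟨x, rfl⟩, hx⟩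
  have := normal_of_index_eq_two hN
  have := Fintype.ofFinite G
  have := Fintype.ofFinite ι.range
  have := finite_irr (G := G)
  have := Fintype.ofFinite (IrrCharacter G)
  let e : X ≃* ι.range := MonoidHom.ofInjective hι
  have k1 : ∀ x, MulAut.conjNormal g (e x) = e (α x) := fun x => Subtype.ext (hc x).symm
  have k2 : ∀ θ, cj g (irrMap e θ) = irrMap e (compIrr α θ) := fun θ => Subtype.ext (funext fun z => by
    obtain ⟨x, rfl⟩ := e.surjective z
    change (irrMap e θ : ι.range → ℂ) (MulAut.conjNormal g (e x)) = _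
    rw [k1, irrMap_apply', irrMap_apply', compIrr_apply])
  have k3 : ∀ θ, cj g (irrMap e θ) = irrMap e θ ↔ compIrr α θ = θ := fun θ => by
    rw [k2, (irrMap_injective e).eq_iff]
  have k4 : Nat.card (D.map e.toMonoidHom) = Nat.card D := card_map_of_injective e.injective
  obtain ⟨B, h⟩ := exists_cv hM hp hN hg (isPBlock_blkMap (e := e) hb) (isDefectGroup_blkMap hD)
    (by
      rintro _ ⟨θ, hθ, rfl⟩
      exact ⟨_, hst θ hθ (compIrr α θ) fun _ => rfl, (k2 θ).symm⟩) hn (by rw [k4, hv, Nat.card_congr e.toEquiv])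
    (by
      rintro _ ⟨θ, hθ, rfl⟩
      exact charDegree_irrMap e θ ▸ h1 θ hθ)
    (by
      rintro _ ⟨θ, hθ, rfl⟩ h4
      exact charDegree_irrMap e θ ▸ h2 θ hθ ((k3 θ).1 h4))
    (by
      rw [k4, ← h3, blkMap, finsum_mem_image (irrMap_injective e).injOn]
      simp only [charDegree_irrMap])
  have k5 : ∀ (χ : IrrCharacter G) θ, TO.S1.Ov χ (irrMap e θ) → compIrr α θ ≠ θ →
      ∀ x, (χ : G → ℂ) (ι x) = (θ : X → ℂ) x + (θ : X → ℂ) (α x) := fun χ θ o h4 x => by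
    have h5 := res_of_moved hN hg o (mt (k3 θ).1 h4) (e x)
    rwa [k2, irrMap_apply', irrMap_apply'] at h5
  refine ⟨G, inferInstance, inferInstance, ι, B, g, hι, hc, hy, h.blk, ?_, h.r1, fun χ hχ => ?_, fun θ hθ h4 => ?_,
    fun θ hθ h4 => ?_, h.dvd, k4 ▸ h.sum⟩
  · have h4 := h.dg
    rwa [map_map] at h4
  · obtain ⟨_, ⟨θ, hθ, rfl⟩, o⟩ := (h.mem χ).1 hχ
    refine ⟨θ, hθ, (em _).imp (fun h4 => ⟨h4, fun x => ?_⟩) fun h4 => ⟨h4, k5 χ θ o h4⟩⟩
    exact (res_of_inv hN o ((inv_iff hN hg _).2 ((k3 θ).2 h4)) (e x)).trans (irrMap_apply' e θ x)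
  · obtain ⟨χ, o⟩ := Blocks.Over.exists_over ι.range (irrMap e θ)
    refine ⟨χ, ⟨(h.mem χ).2 ⟨_, ⟨θ, hθ, rfl⟩, o⟩, k5 χ θ o h4⟩, fun ψ hψ => eq_of_moved hN o ?_
      (mt (inv_iff hN hg _).1 (mt (k3 θ).1 h4))⟩
    have h5 : (fun z : ι.range => (ψ : G → ℂ) z) = fun z : ι.range => (χ : G → ℂ) z := funext fun z => by
      obtain ⟨x, rfl⟩ := e.surjective z
      exact (hψ.2 x).trans (k5 χ θ o h4 x).symm
    exact fun h6 => o (h5 ▸ h6)
  · obtain ⟨χ, χ', h5, -, -, h6⟩ := H41.McLTwo.Cliff.card_ext hN ((inv_iff hN hg _).2 ((k3 θ).2 h4))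
    rw [← Set.ncard_pair h5]
    congr 1
    ext ψ
    refine Iff.trans ⟨fun h7 z => ?_, fun h7 => ⟨(h.mem ψ).2 ⟨_, ⟨θ, hθ, rfl⟩, fun h8 => ?_⟩, fun x => ?_⟩⟩ (h6 ψ)
    · obtain ⟨x, rfl⟩ := e.surjective z
      exact (h7.2 x).trans (irrMap_apply' e θ x).symm
    · rw [funext h7, classInner_irr_self (irrMap e θ).2] at h8
      exact one_ne_zero h8
    · exact (h7 (e x)).trans (irrMap_apply' e θ x)

end Ovg

open Ovg

theorem Dec.r1 {d : IrrCharacter X → Fin 1 → ℕ} {φ : Fin 1 → X → ℂ} (h : Dec p Γ b D d φ) (hp : p.Prime) : R1 p b := by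
  have hr : IsPRegular p (1 : X) := by
    rw [IsPRegular, orderOf_one]
    exact hp.not_dvd_one
  intro χ hχ ψ hψ x hx
  rw [h.dec χ hχ x hx, h.dec ψ hψ x hx, h.dec χ hχ 1 hr, h.dec ψ hψ 1 hr]
  simp only [Fin.sum_univ_one]
  ring

/-- **two Brauer characters** -/
theorem Dec.og {d : IrrCharacter X → Fin 2 → ℕ} {φ : Fin 2 → X → ℂ} (h : Dec p Γ b D d φ) {S : Type} [Group S] {σ : X →* S}
    (H : Hyp p M Γ b D σ) (hp : p ≠ 2) (hi : (Inn X).relIndex Γ ∣ 2) (hz : Hz Γ) :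
    ∃ (n : ℕ) (α : MulAut X), 0 < n ∧ α ∈ Γ ∧ Stb α b ∧ (∀ θ ∈ b, charDegree (θ : X → ℂ) = n * (d θ 0 + d θ 1)) ∧
      (∀ θ ∈ b, d (compIrr α θ) 0 = d θ 1 ∧ d (compIrr α θ) 1 = d θ 0) ∧ (∀ θ, compIrr α (compIrr α θ) = θ) ∧
      ∃ (G : Type) (_ : Group G) (_ : Finite G) (ι : X →* G) (B : Set (IrrCharacter G)) (g : G), Og p M b D n α ι B g := by
  have := Fintype.ofFinite X
  have := finite_irr (G := X)
  obtain ⟨n, hn, hv, h1⟩ := h.degree H.hM.1
  simp only [Fin.sum_univ_two] at h1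
  obtain ⟨α, hα, hst, h2⟩ := h.tr 0 1
  obtain ⟨π, h3⟩ := h.perm α hst
  have h4 : π 0 = 1 := by
    by_contra h4
    have h5 : π 0 = 0 := by omega
    have h6 := congrFun (h.ind ![1, -1] fun x hx => by
      simp [Fin.sum_univ_two, h2 x hx, ← h3 0 x hx, h5]) 0
    simp at h6
  have h5 : π 1 = 0 := by
    have h5 : π 1 ≠ π 0 := π.injective.ne (by decide)
    omega
  have h6 : ∀ θ ∈ b, d (compIrr α θ) 0 = d θ 1 ∧ d (compIrr α θ) 1 = d θ 0 := fun θ hθ => by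
    have h6 := h.ind ![(d (compIrr α θ) 0 : ℂ) - d θ 1, (d (compIrr α θ) 1 : ℂ) - d θ 0] fun x hx => by
      have h7 := h.dec _ (hst θ hθ (compIrr α θ) fun _ => rfl) x hx
      rw [compIrr_apply, h.dec θ hθ _ ((DecP.reg_aut α).2 hx), Fin.sum_univ_two, Fin.sum_univ_two, ← h3 0 x hx, ← h3 1 x hx,
        h4, h5] at h7
      simp only [Fin.sum_univ_two, Matrix.cons_val_zero, Matrix.cons_val_one]
      linear_combination -h7
    exact ⟨by exact_mod_cast sub_eq_zero.1 (congrFun h6 0), by exact_mod_cast sub_eq_zero.1 (congrFun h6 1)⟩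
  obtain ⟨c, hc⟩ := hi
  obtain ⟨y, hy⟩ := pow_mem ((Inn X).pow_relIndex_mem hα) c
  rw [← pow_mul, ← hc, sq] at hy
  refine ⟨n, α, hn, hα, hst, h1, h6, fun θ => Subtype.ext (funext fun x => by
    rw [compIrr_apply, compIrr_apply, ← MulAut.mul_apply, ← hy, MulAut.conj_apply, isIrr_isClassFunction θ.2]),
    exists_og H.hM hp H.hb H.hD hy.symm (hz α hα y hy.symm) hst hn hv (fun θ hθ => h1 θ hθ ▸ Dvd.intro _ rfl)
      (fun θ hθ e => ⟨d θ 0, ?_⟩) ?_⟩
  · have h7 := (h6 θ hθ).1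
    rw [e] at h7
    rw [h1 θ hθ, ← h7]
    ring
  · have h7 := h.row 0
    have h8 := h.row 1
    simp only [finsum_mem_eq_finite_toFinset_sum _ b.toFinite, Fin.sum_univ_two] at h7 h8 ⊢
    rw [show 2 * (n * (n * Nat.card D)) = n ^ 2 * (Nat.card D + Nat.card D) by ring]
    nth_rw 1 [← h7]
    rw [← h8, ← Finset.sum_add_distrib, Finset.mul_sum]
    refine Finset.sum_congr rfl fun θ hθ => ?_
    rw [h1 θ (b.toFinite.mem_toFinset.1 hθ)]
    ring

/-- **the overgroup** -/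
theorem boxOv_of (hD : BoxDec) : BoxOv := by
  intro p M X _ _ Γ b D S _ σ H hp hi hz
  obtain ⟨l, d, φ, h⟩ := hD p M H.hM X Γ H.sit.inn b D H.hb H.hD H.one
  rcases (Nat.dvd_prime Nat.prime_two).1 (h.dvd.trans hi) with rfl | rfl
  · exact .inl (h.r1 H.hM.1)
  obtain ⟨n, α, -, h1, h2, -, -, -, G, _, _, ι, B, g, o⟩ := h.og H hp hi hz
  refine .inr ⟨G, inferInstance, inferInstance, ι, B, g, o.inj, ⟨α, h1, h2, o.cnj⟩,
    ⟨1, one_mem _, ⟨0, by rw [one_pow]; exact one_mem _⟩, fun y => ?_⟩, o.blk, o.dg, o.r1, h.rank, fun χ hχ => ?_,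
    fun θ hθ θ' h3 => ?_⟩
  · obtain ⟨x, hx⟩ := o.gen y
    exact ⟨x, 0, by simpa using hx⟩
  · obtain ⟨θ, hθ, h3⟩ := o.low χ hχ
    exact ⟨θ, hθ, h3.imp And.right fun h4 => ⟨compIrr α θ, h2 θ hθ _ fun _ => rfl, h4⟩⟩
  · obtain rfl : θ' = compIrr α θ := Subtype.ext (funext fun x => h3 x _ (o.cnj x))
    exact ⟨o.mov θ hθ, o.fix θ hθ⟩

theorem boxOv : BoxOv := boxOv_of boxDec

end Cfsg.Agent.OM.Lo
end

-- part: OM/Lo/DE1
section
/-!
# OM (S4894): defect groups of order `49`, two given elements of order three (helper35)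

* `boxDE`;  `DE.de1` : rank one;  `boxDE1`.
-/

set_option autoImplicit false
set_option linter.unusedSectionVars false

namespace Cfsg.Agent.OM.Lo

open Cfsg Subgroup Cfsg.Agent.Characters Cfsg.Agent.Characters.Core Cfsg.Agent.Blocks Cfsg.Agent.Blocks.Basic
  Cfsg.Agent.SmallSimple.ThetaSetup Cfsg.Agent.SmallSimple.ThetaOrtho Cfsg.Agent.H644.CentralQuot Cfsg.Agent.H658
  Cfsg.Agent.H649 Cfsg.Agent.OM.Lo.Desc

namespace DE

variable [Fact (Nat.Prime 7)] {M : Ideal AlgInt}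

/-- the inertial index is divisible by three -/
theorem rank3' (hM : IsPModular 7 M) {L : Type} [Group L] [Finite L] {P : Subgroup L} (hP : Nat.card P = 7)
    {t : L} (ht : t ∈ normalizer (P : Set L)) (t1 : t ∉ centralizer (P : Set L)) (t3 : t ^ 3 = 1)
    (hc : ∀ y ∈ centralizer (P : Set L), ¬ 7 ∣ orderOf y → t * y = y * t) {c : Set (IrrCharacter L)} (hb : IsPBlock M c)
    (hD : IsDefectGroup 7 M c P) : 2 < blockRank 7 c := by
  have : Fact (Nat.Prime 3) := ⟨Nat.prime_three⟩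
  have := Local.isPrime_of_isPModular hM
  have h1 : IsCyclic P := isCyclic_of_prime_card hP
  obtain ⟨b, h2⟩ := exists_root_centralizer hM inferInstance hD hb
  obtain ⟨T, hT⟩ := exists_stabilizer hM P h2.1
  have h3 : t ∈ T := (hT t).2 ⟨ht, fun θ hθ θ' h => by
    have h4 : ∀ x, IsPRegular 7 x → (θ' : _ → ℂ) x = (θ : _ → ℂ) x := fun x hx =>
      h x x (eq_mul_inv_iff_mul_eq.2 (hc x x.2 (by rwa [orderOf_coe])).symm)
    rw [isPBlock_eq_blockOf h2.1 hθ]
    exact mem_blockOf.2 (sameBlock_of_prop hM θ.2 θ'.2 fun x hx => by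
      rw [h4 x hx, h4 1 (by rw [IsPRegular, orderOf_one]; decide)])⟩
  rw [S4695.result 7 M hM P h1 1 le_rfl hP c hb hD b h2 T hT _ rfl]
  obtain ⟨φ, hφ⟩ := exists_phi P hP
  let f := φ.comp (inclusion (show T ≤ normalizer (P : Set L) from fun g h => ((hT g).1 h).1))
  have h4 : orderOf (f ⟨t, h3⟩) = 3 := orderOf_eq_prime
    (by rw [← map_pow, show (⟨t, h3⟩ : T) ^ 3 = 1 from Subtype.ext t3, map_one]) fun h => t1 ((hφ _).1 h)
  have h5 := h4 ▸ f.range.orderOf_dvd_natCard ⟨_, rfl⟩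
  rw [← index_ker, show f.ker = (centralizer (P : Set L)).subgroupOf T from Subgroup.ext fun g => hφ _] at h5
  exact Nat.le_of_dvd (Nat.pos_of_ne_zero index_ne_zero_of_finite) h5

attribute [local instance] Desc.ma

section

variable {G : Type} [Group G] [Fintype G] {u : G} [Fintype (Cu u)] [Fintype (Nu u)] [(Uu u).Normal]

/-- the passage to the normaliser -/
theorem loc1 (hu : orderOf u = 7) {P : Sylow 7 (Cu u ⧸ Uu u)} (hP : Nat.card P = 7) {Y : Subgroup (Cu u ⧸ Uu u)}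
    (hY : IsComp 7 (P : Subgroup _) Y) {t : Cu u}
    (ht : QuotientGroup.mk t ∈ normalizer ((P : Subgroup (Cu u ⧸ Uu u)) : Set (Cu u ⧸ Uu u)))
    (t1 : QuotientGroup.mk t ∉ centralizer ((P : Subgroup (Cu u ⧸ Uu u)) : Set (Cu u ⧸ Uu u))) (t3 : t ^ 3 = 1)
    {r : Nu u} (r1 : (r : G) ∉ Cu u) (r3 : r ^ 3 = 1) (rt : Commute (t : G) r) {v : Cu u} (rv : Commute (v : G) r)
    (hv : (P : Subgroup (Cu u ⧸ Uu u)) ≤ zpowers (QuotientGroup.mk v))
    (hc : ∀ y ∈ Y, ∃ x : Cu u, QuotientGroup.mk x = y ∧ Commute (t : G) x ∧ Commute (r : G) x)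
    {θ : IrrCharacter Y} {A : Set (IrrCharacter (Cu u))} (h1 : A ⊆ fl '' Over P (θ : Y → ℂ)) (h2 : 2 < A.ncard)
    (h3 : ∀ ψ ∈ A, ∀ ψ' ∈ A, ∃ g : Nu u, g • ψ = ψ') : False := by
  have := finite_irr (G := Cu u)
  obtain ⟨φ, hφ⟩ := exists_phi (zpowers u) ((Nat.card_zpowers u).trans hu)
  rw [show centralizer (zpowers u : Set G) = Cu u by rw [zpowers_eq_closure, centralizer_closure]] at hφ
  obtain ⟨ψ, h4, ψ', h5, h6, g, h7, h8⟩ : ∃ ψ ∈ A, ∃ ψ' ∈ A, ψ ≠ ψ' ∧ ∃ g : Nu u, g • ψ = ψ' ∧ φ g ^ 3 = 1 := by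
    obtain ⟨a, ha, b, hb, c, hc, ab, ac, bc⟩ := (Set.two_lt_ncard (s := A)).1 h2
    obtain ⟨g, rfl⟩ := h3 a ha b hb
    obtain ⟨g', rfl⟩ := h3 a ha c hc
    rcases z3 (φ g) (φ g') with h | h | h
    · exact ⟨_, ha, _, hb, ab, g, rfl, h⟩
    · exact ⟨_, ha, _, hc, ac, g', rfl, h⟩
    · exact ⟨_, hb, _, hc, bc, g' * g⁻¹, by rw [mul_smul, inv_smul_smul], by rwa [map_mul, map_inv]⟩
  obtain ⟨ψ, h9, rfl⟩ := h1 h4
  obtain ⟨ψ', -, rfl⟩ := h1 h5
  let Q := (zpowers u).subgroupOf (Nu u)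
  let j : Cu u ⧸ Uu u →* Nu u ⧸ Q := QuotientGroup.map _ Q (inclusion cu_le) fun _ h => h
  let μ : Nu u ⧸ Q →* (ZMod 7)ˣ := QuotientGroup.lift Q φ fun _ h => (hφ _).2 (zp_le h)
  have hj : Function.Injective j := (injective_iff_map_eq_one j).2 fun x h => by
    obtain ⟨x, rfl⟩ := QuotientGroup.mk_surjective x
    exact (QuotientGroup.eq_one_iff _).2 ((QuotientGroup.eq_one_iff (N := Q) _).1 h)
  have hμ : ∀ x, μ (j x) = 1 := fun x => by
    obtain ⟨x, rfl⟩ := QuotientGroup.mk_surjective x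
    exact (hφ _).2 x.2
  let K := ((powMonoidHom 3).comp μ).ker
  have := Fintype.ofFinite K
  have := Fintype.ofFinite (Cu u ⧸ Uu u)
  let ι : Cu u ⧸ Uu u →* K := j.codRestrict K fun x => (congrArg (· ^ 3) (hμ x)).trans (one_pow 3)
  have hι : Function.Injective ι := fun x y h => hj (congrArg Subtype.val h)
  let r' : K := ⟨QuotientGroup.mk r, show φ r ^ 3 = 1 by rw [← map_pow, r3, map_one]⟩
  have hr : ∀ x : Cu u, Commute (x : G) r → Commute (ι (QuotientGroup.mk x)) r' := fun x h =>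
    Subtype.ext (congrArg (QuotientGroup.mk (s := Q)) (Subtype.ext h : inclusion cu_le x * r = r * inclusion cu_le x))
  refine al1 hι (μ := μ.comp K.subtype) (fun k => ⟨fun h => ?_, ?_⟩) (fun k => k.2) hP hY ht t1
    (by rw [← QuotientGroup.mk_pow, t3, QuotientGroup.mk_one]) (fun y h => ?_) (r := r') (fun h => r1 ((hφ r).1 h))
    (Subtype.ext (by rw [coe_pow, ← QuotientGroup.mk_pow, r3]; rfl)) (fun x h => ?_) (fun y h => ?_) (hr t rt)
    θ.2 h9 (fun h => h6 (congrArg fl h)) (s := ⟨QuotientGroup.mk g, h8⟩) fun x x' h => ?_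
  · obtain ⟨k, hk⟩ := k
    obtain ⟨k, rfl⟩ := QuotientGroup.mk_surjective k
    exact ⟨QuotientGroup.mk ⟨k, (hφ k).1 h⟩, rfl⟩
  · rintro ⟨x, rfl⟩
    exact hμ x
  · obtain ⟨x, rfl, h10, -⟩ := hc y h
    exact congrArg QuotientGroup.mk (Subtype.ext h10 : t * x = x * t)
  · obtain ⟨k, rfl⟩ := hv h
    exact map_zpow ι _ k ▸ (hr v rv).zpow_left k
  · obtain ⟨x, rfl, -, h10⟩ := hc y h
    exact hr x h10.symm
  · obtain ⟨x, rfl⟩ := QuotientGroup.mk_surjective x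
    obtain rfl : x' = QuotientGroup.mk (ac u g x) := hι (h.trans rfl)
    exact (congrArg (fun χ : IrrCharacter (Cu u) => (χ : Cu u → ℂ) (ac u g x)) h7).symm.trans (irrMap_apply' _ _ _)

end

/-- **rank one, Sylow defect group, two elements of order three** -/
theorem de1 (hM : IsPModular 7 M) {G : Type} [Group G] [Finite G] {B : Set (IrrCharacter G)} {D : Subgroup G} (hB : IsPBlock M B)
    (hD : IsDefectGroup 7 M B D) (hR : R1 7 B) (hc : Nat.card D = 7 ^ 2) (hn : ¬ IsCyclic D) (hS : ¬ 7 ^ 3 ∣ Nat.card G)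
    {u v t t' : G} (hu : u ∈ D) (u1 : u ≠ 1) (hv : v ∈ D) (v1 : v ≠ 1) (ht : t ∈ normalizer (D : Set G)) (t3 : t ^ 3 = 1)
    (t3' : t' ^ 3 = 1) (tt : Commute t t') (tu : t * u * t⁻¹ = u) (tv : t * v * t⁻¹ = v ^ 2) (tu' : t' * u * t'⁻¹ = u ^ 2)
    (tv' : t' * v * t'⁻¹ = v) (hy : ∀ y ∈ centralizer (D : Set G), ¬ 7 ∣ orderOf y → Commute t y ∧ Commute t' y) : False := by
  have := Fintype.ofFinite G
  have := Fintype.ofFinite (Cu u)
  have := Fintype.ofFinite (Nu u)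
  have := Fintype.ofFinite (Uu u)
  have hab := IsPGroup.isMulCommutative_of_card_eq_prime_sq hc
  have ho : orderOf u = 7 := by
    obtain ⟨k, h1, h2⟩ := (Nat.dvd_prime_pow Fact.out).1 (hc ▸ D.orderOf_dvd_natCard hu)
    obtain rfl | rfl | rfl : k = 0 ∨ k = 1 ∨ k = 2 := by omega
    · exact absurd (orderOf_eq_one_iff.1 h2) u1
    · exact h2
    · exact absurd (isCyclic_of_orderOf_eq_card ⟨u, hu⟩ (by rw [hc, ← h2, ← orderOf_coe])) hn
  obtain ⟨β, U, _, h1, h2, h4, -, h5, -, -, h6⟩ := exists_major_defl hM hB hD hab hu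
  obtain rfl : Uu u = U := h4 ▸ Subgroup.ext fun x => by
    rw [mem_subgroupOf, ← mem_map_iff_mem (subtype_injective _), MonoidHom.map_zpowers]
    rfl
  have h7 := isPBlock_defl hM uu_le h5 h1.1
  have h8 := blockDefect_defl hM uu_le (card_uu.trans (ho.trans (pow_one 7).symm)) h1.1
  rw [h2, ← H592.Defect.factorization_card_defect 7 hM hB hD, hc, Nat.Prime.factorization_pow Fact.out, Finsupp.single_eq_same] at h8
  have h9 := S0908.result 7 M hM _ h7 _ h6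
  rw [show blockDefect 7 (defl (Uu u) β) = 1 by omega, pow_one] at h9
  obtain ⟨P, hP⟩ : ∃ P : Sylow 7 (Cu u ⧸ Uu u), map (QuotientGroup.mk' (Uu u)) (D.subgroupOf (Cu u)) = P :=
    ⟨(H592.Defect.isPGroup_of_isDefectGroup h6).toSylow fun ⟨k, hk⟩ => hS (Dvd.dvd.trans ⟨k, by
      rw [card_eq_card_quotient_mul_card_subgroup (Uu u), ← card_mul_index (map (QuotientGroup.mk' (Uu u)) (D.subgroupOf (Cu u))),
        hk, h9, card_uu, ho]
      ring⟩ (card_subgroup_dvd_card (Cu u))), rfl⟩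
  have hd : ∀ d ∈ D, d ∈ Cu u := fun d hd =>
    mem_centralizer_singleton_iff.2 (congrArg Subtype.val (hab.is_comm.comm ⟨d, hd⟩ ⟨u, hu⟩))
  have hd' : ∀ d (h : d ∈ D), QuotientGroup.mk ⟨d, hd d h⟩ ∈ (P : Subgroup (Cu u ⧸ Uu u)) := fun d h =>
    hP ▸ mem_map_of_mem (QuotientGroup.mk' (Uu u)) (mem_subgroupOf.2 h)
  have h10 : ∀ y ∈ centralizer ((P : Subgroup (Cu u ⧸ Uu u)) : Set (Cu u ⧸ Uu u)), ¬ 7 ∣ orderOf y →
      ∃ x : Cu u, QuotientGroup.mk x = y ∧ Commute t x ∧ Commute t' x := fun y h h' => by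
    obtain ⟨x, h11, rfl⟩ := PRegular.exists_isPRegular_lift _ 7 (Uu u) h'
    exact ⟨x, rfl, hy x (Subgroup.mem_centralizer_iff.2 fun d h0 => congrArg Subtype.val (mem_centralizer_singleton_iff.1
      ((H644.CentralQuot.mem_centralizer_iff uu_le h5 h11 ⟨d, hd d h0⟩).1
        (mem_centralizer_singleton_iff.2 (Subgroup.mem_centralizer_iff.1 h _ (hd' d h0)))))) (by rwa [orderOf_coe])⟩
  let t0 : Cu u := ⟨t, mem_centralizer_singleton_iff.2 (mul_inv_eq_iff_eq_mul.1 tu)⟩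
  let v0 : Cu u := ⟨v, hd v hv⟩
  have h11 : (QuotientGroup.mk v0 : Cu u ⧸ Uu u) ≠ 1 := fun h => by
    rw [_root_.Cfsg.Agent.OM.Lo.Desc.comm_of t0.2 (mem_subgroupOf.1 ((QuotientGroup.eq_one_iff _).1 h)), mul_inv_cancel_right, sq, left_eq_mul] at tv
    exact v1 tv
  have h12 : QuotientGroup.mk t0 ∈ normalizer ((P : Subgroup (Cu u ⧸ Uu u)) : Set (Cu u ⧸ Uu u)) :=
    hP ▸ le_normalizer_map (QuotientGroup.mk' (Uu u)) (mem_map_of_mem _ (le_normalizer_comap (Cu u).subtype ht))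
  have h13 : QuotientGroup.mk t0 ∉ centralizer ((P : Subgroup (Cu u ⧸ Uu u)) : Set (Cu u ⧸ Uu u)) := fun h => by
    have h14 := congrArg (QuotientGroup.mk (s := Uu u)) (Subtype.ext tv : t0 * v0 * t0⁻¹ = v0 ^ 2)
    rw [QuotientGroup.mk_mul, QuotientGroup.mk_mul, QuotientGroup.mk_inv, QuotientGroup.mk_pow,
      ← Subgroup.mem_centralizer_iff.1 h _ (hd' v hv), mul_inv_cancel_right, sq, left_eq_mul] at h14
    exact h11 h14
  rw [hP] at h6 h9
  obtain ⟨Y, hY⟩ := exists_isComp P h9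
  obtain ⟨θ, hθ⟩ := H608.CycOne.exists_eq_Over hY h9 hM h7 (by omega)
  obtain ⟨A, h15, h16, h17, h18⟩ := cc hM hD hR hc ho h1
  refine loc1 ho h9 hY h12 h13 (Subtype.ext t3) (r := ⟨t', mem_normalizer_fintype fun w hw => ?_⟩) (fun h => ?_) (Subtype.ext t3') tt
    (v := v0) (mul_inv_eq_iff_eq_mul.1 tv').symm ?_ (fun y h => h10 y (hY.le h) ((hY y).1 h).2) (θ := θ) (fun ψ hψ => ?_)
    (h16 ▸ blockRank_defl hM uu_le h5 h1.1 ▸ rank3' hM h9 h12 h13
      (by rw [← QuotientGroup.mk_pow, show t0 ^ 3 = 1 from Subtype.ext t3, QuotientGroup.mk_one]) (fun y h h' => ?_) h7 h6) h18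
  · obtain ⟨k, rfl⟩ := hw
    show t' * u ^ k * t'⁻¹ ∈ zpowers u
    rw [← conj_zpow, tu']
    exact zpow_mem (pow_mem (mem_zpowers u) 2) k
  · rw [mem_centralizer_singleton_iff.1 h, mul_inv_cancel_right, sq, left_eq_mul] at tu'
    exact u1 tu'
  · refine (Subgroup.eq_of_le_of_card_ge (zpowers_le.2 (hd' v hv)) (le_of_eq ?_)).ge
    rw [Nat.card_zpowers, h9]
    exact (((Fact.out : Nat.Prime 7).eq_one_or_self_of_dvd _ (h9 ▸ (P : Subgroup (Cu u ⧸ Uu u)).orderOf_dvd_natCard (hd' v hv))).resolve_left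
      (mt orderOf_eq_one_iff.1 h11)).symm
  · obtain ⟨η, hη⟩ := Deflate.exists_deflation (Uu u) (ψ : Cu u → ℂ) ψ.2 (by
      rw [Finset.sum_congr rfl fun (z : Uu u) _ => h17 ψ hψ z z.2, Finset.sum_const, Finset.card_univ, nsmul_eq_mul]
      exact mul_ne_zero (by exact_mod_cast Fintype.card_ne_zero) (isIrr_apply_one_ne_zero ψ.2))
    obtain rfl : fl η = ψ := Subtype.ext hη.symm
    exact ⟨η, hθ ▸ h15 hψ, rfl⟩
  · obtain ⟨x, rfl, h14, -⟩ := h10 y h h'
    exact congrArg QuotientGroup.mk (Subtype.ext h14 : t0 * x = x * t0)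

/-- the commutator with an element of order three -/
theorem cube {G : Type} [Group G] {t y : G} (t3 : t ^ 3 = 1) (h : Commute t (y⁻¹ * (t * y * t⁻¹))) :
    (y⁻¹ * (t * y * t⁻¹)) ^ 3 = 1 := by
  generalize hz : y⁻¹ * (t * y * t⁻¹) = z at h
  have h1 : t * y = y * z * t := by rw [← hz]; group
  have h2 : t ^ 3 * y = y * z ^ 3 * t ^ 3 := by
    calc t ^ 3 * y = t * (t * (t * y)) := by simp only [pow_succ, pow_zero, one_mul, mul_assoc]
      _ = y * (z * t) ^ 3 := by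
        simp only [h1, ← mul_assoc t, mul_assoc _ z t, mul_assoc y]
        simp only [pow_succ, pow_zero, one_mul, mul_assoc]
      _ = _ := by rw [h.symm.mul_pow, mul_assoc]
  rwa [t3, one_mul, mul_one, left_eq_mul] at h2

end DE

open DE in
/-- **defect groups of order `49`, two elements of order three** -/
theorem boxDE1 {M : Ideal AlgInt} {X : Type} [Group X] [Finite X] {Γ : Subgroup (MulAut X)} {b : Set (IrrCharacter X)}
    {D : Subgroup X} {S : Type} [Group S] {σ : X →* S} (H : Hyp 7 M Γ b D σ) (hi : (Inn X).relIndex Γ ∣ 2) (hz : Hz Γ)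
    (hc : Nat.card D = 49) (hS : ¬ 7 ^ 3 ∣ Nat.card X) (h3 : ∀ z ∈ centralizer (D : Set X), z ^ 3 = 1 → z ∈ center X)
    {u v t t' : X} (hu : u ∈ D) (u1 : u ≠ 1) (hv : v ∈ D) (v1 : v ≠ 1) (ht : t ∈ normalizer (D : Set X))
    (ht' : t' ∈ normalizer (D : Set X)) (t3 : t ^ 3 = 1)
    (t3' : t' ^ 3 = 1) (tt : Commute t t') (tu : t * u * t⁻¹ = u) (tv : t * v * t⁻¹ = v ^ 2) (tu' : t' * u * t'⁻¹ = u ^ 2)
    (tv' : t' * v * t'⁻¹ = v) (hy : ∀ y ∈ centralizer (D : Set X), ¬ 7 ∣ orderOf y → Commute t y ∧ Commute t' y) : False := by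
  have : Fact (Nat.Prime 7) := ⟨by norm_num⟩
  obtain hR | ⟨G, _, _, ι, B, g, hι, ⟨α, hΓ, -, hα⟩, ⟨c, hc1, ⟨k, z, -, hc3⟩, hG⟩, hB, hD, hR, -⟩ :=
    boxOv 7 M X Γ b D S σ H (by decide) hi hz
  · exact de1 H.hM H.hb H.hD hR hc H.nc hS hu u1 hv v1 ht t3 t3' tt tu tv tu' tv' hy
  have cc : ∀ (y : G) (n : ℕ), Commute y (c ^ n) := fun y n => Commute.pow_right (mem_center_iff.1 hc1 y) n
  have cd : ∀ (a y : G) (n : ℕ), a * c ^ n * y * (a * c ^ n)⁻¹ = a * y * a⁻¹ := fun a y n => by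
    rw [mul_assoc a, ← (cc y n).eq]
    group
  have hN : ι.range.Normal := ⟨by
    rintro _ ⟨y, rfl⟩ w
    obtain ⟨x, n, rfl | rfl⟩ := hG w
    · exact ⟨x * y * x⁻¹, by rw [map_mul, map_mul, map_inv, cd]⟩
    · exact ⟨x * α y * x⁻¹, by rw [map_mul, map_mul, map_inv, hα, mul_assoc (ι x) (c ^ n), ← (cc g n).eq, ← mul_assoc _ g, cd]; group⟩⟩
  let π := QuotientGroup.mk' ι.range
  have h4 : ∀ x, π (ι x) = 1 := fun x => (QuotientGroup.eq_one_iff _).2 ⟨x, rfl⟩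
  have h5 : π c ^ 2 ^ k = 1 := by rw [← map_pow, ← hc3, h4]
  have h6 : ∃ n, π g ^ 2 = π c ^ n := by
    obtain ⟨x, n, h | h⟩ := hG (g * g)
    · exact ⟨n, by rw [sq, ← map_mul, h, map_mul, h4, one_mul, map_pow]⟩
    · exact ⟨n * 2, by rw [mul_right_cancel h, map_mul, h4, one_mul, map_pow, pow_mul]⟩
  have h7 : ∀ y : G, ∃ n, π y ^ 2 = π c ^ n := fun y => by
    obtain ⟨m, hm⟩ := h6
    obtain ⟨x, n, rfl | rfl⟩ := hG y
    · exact ⟨n * 2, by rw [map_mul, h4, one_mul, map_pow, pow_mul]⟩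
    · exact ⟨n * 2 + m, by rw [map_mul, map_mul, h4, one_mul, ((cc g n).map π).symm.mul_pow, hm, map_pow, pow_add, pow_mul]⟩
  have h8 : IsPGroup 2 (G ⧸ ι.range) := fun y => by
    obtain ⟨y, rfl⟩ := QuotientGroup.mk'_surjective _ y
    obtain ⟨n, hn⟩ := h7 y
    exact ⟨k + 1, by rw [pow_succ', pow_mul, hn, ← pow_mul, mul_comm, pow_mul, h5, one_pow]⟩
  have h9 : ¬ 7 ^ 3 ∣ Nat.card G := fun h => by
    obtain ⟨m, hm⟩ := h8.exists_card_eq
    rw [card_eq_card_quotient_mul_card_subgroup ι.range, hm, ← Nat.card_congr (MonoidHom.ofInjective hι).toEquiv] at h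
    exact hS ((Nat.Coprime.pow _ _ (by decide)).dvd_of_dvd_mul_left h)
  have h10 : ∀ x, ι x ∈ centralizer (D.map ι : Set G) ↔ x ∈ centralizer (D : Set X) := fun x => by
    rw [Subgroup.mem_centralizer_iff, Subgroup.mem_centralizer_iff, coe_map, Set.forall_mem_image]
    simp only [← map_mul, hι.eq_iff]
  have h11 : ∀ x ∈ center X, ∀ y, Commute y (ι x) := fun x hx y => by
    have h12 : ∀ w n, Commute (ι w * c ^ n) (ι x) := fun w n =>
      (Commute.map (mem_center_iff.1 hx w) ι).mul_left (cc _ n).symm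
    obtain ⟨w, n, rfl | rfl⟩ := hG y
    · exact h12 w n
    · exact (h12 w n).mul_left (mul_inv_eq_iff_eq_mul.1 ((hα x).symm.trans (congrArg ι (H.sit.fix α hΓ x hx))))
  have h12 : Nat.card (D.map ι) = 7 ^ 2 := (card_map_of_injective hι).trans hc
  have h19 : ¬ 7 ∣ (center (centralizer (D.map ι : Set G))).index := fun e => h9 (by
    have hab := IsPGroup.isMulCommutative_of_card_eq_prime_sq h12
    have h20 := card_dvd_of_le (show (D.map ι).subgroupOf (centralizer (D.map ι : Set G)) ≤ center _ from fun d hd =>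
      mem_center_iff.2 fun w => Subtype.ext (Subgroup.mem_centralizer_iff.1 w.2 d hd).symm)
    rw [Nat.card_congr (subgroupOfEquivOfLe (Subgroup.le_centralizer _)).toEquiv, h12] at h20
    exact (mul_dvd_mul h20 e).trans ((card_mul_index _).dvd.trans (card_subgroup_dvd_card _)))
  have key : ∀ s ∈ normalizer (D : Set X), s ^ 3 = 1 → (∀ y ∈ centralizer (D : Set X), ¬ 7 ∣ orderOf y → Commute s y) →
      ∀ y ∈ centralizer (D.map ι : Set G), ¬ 7 ∣ orderOf y → Commute (ι s) y := fun s hs s3 hy y h h' => by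
    have h17 : ι s * y * (ι s)⁻¹ ∈ centralizer (D.map ι : Set G) :=
      (mem_normalizer_iff.1 (H649.mem_normalizer_centralizer (le_normalizer_map ι (mem_map_of_mem ι hs))) y).1 h
    have h18 := mul_mem (inv_mem h) h17
    obtain ⟨x, hx⟩ : y⁻¹ * (ι s * y * (ι s)⁻¹) ∈ ι.range := (QuotientGroup.eq_one_iff _).1 (by
      show π _ = 1
      rw [map_mul, map_mul, map_mul, map_inv, map_inv, h4, one_mul, inv_one, mul_one, inv_mul_cancel])
    have h20 := reg_mul h19 (a := ⟨y, h⟩⁻¹) (b := ⟨_, h17⟩) (by rwa [orderOf_inv, ← orderOf_coe])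
      (by rwa [← orderOf_coe, coe_mk, ← MulAut.conj_apply, MulEquiv.orderOf_eq])
    rw [← orderOf_coe, coe_mul, coe_inv, ← hx, orderOf_injective ι hι] at h20
    have h21 := (h10 x).1 (hx ▸ h18)
    have h22 := cube (by rw [← map_pow, s3, map_one]) (hx ▸ (hy x h21 h20).map ι : Commute (ι s) (y⁻¹ * (ι s * y * (ι s)⁻¹)))
    rw [← hx] at h22
    obtain ⟨m, hm⟩ := h8 (π y)
    obtain ⟨w, hw⟩ := (QuotientGroup.eq_one_iff _).1 ((map_pow π y _).trans hm)
    have h23 : Commute (ι s) (y ^ 2 ^ m) := hw ▸ (hy w ((h10 w).1 (hw ▸ pow_mem h _)) fun e =>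
      h' ((orderOf_injective ι hι w ▸ e).trans (hw ▸ orderOf_pow_dvd _))).map ι
    have h24 := congrArg (· ^ 2 ^ m) (eq_inv_mul_iff_mul_eq.1 hx)
    simp only [(h11 x (h3 x h21 (hι (by rw [map_pow, h22, map_one]))) y).mul_pow, conj_pow, h23.eq, mul_inv_cancel_right,
      mul_eq_left] at h24
    rw [orderOf_eq_one_iff.1 (Nat.eq_one_of_dvd_coprimes (Nat.Coprime.pow_right m (by decide : Nat.Coprime 3 2))
      (orderOf_dvd_of_pow_eq_one h22) (orderOf_dvd_of_pow_eq_one h24)), eq_inv_mul_iff_mul_eq, mul_one] at hx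
    exact (eq_mul_inv_iff_mul_eq.1 hx).symm
  exact de1 H.hM hB hD hR h12 (fun h => H.nc (isCyclic_of_surjective _ (D.equivMapOfInjective ι hι).symm.surjective)) h9
    (mem_map_of_mem ι hu) (fun h => u1 (hι (h.trans ι.map_one.symm))) (mem_map_of_mem ι hv) (fun h => v1 (hι (h.trans ι.map_one.symm)))
    (le_normalizer_map ι (mem_map_of_mem ι ht)) (by rw [← map_pow, t3, map_one]) (t' := ι t') (by rw [← map_pow, t3', map_one])
    (tt.map ι) (by rw [← map_inv, ← map_mul, ← map_mul, tu]) (by rw [← map_inv, ← map_mul, ← map_mul, tv, map_pow])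
    (by rw [← map_inv, ← map_mul, ← map_mul, tu', map_pow]) (by rw [← map_inv, ← map_mul, ← map_mul, tv']) fun y h h' =>
      ⟨key t ht t3 (fun y a b => (hy y a b).1) y h h', key t' ht' t3' (fun y a b => (hy y a b).2) y h h'⟩

end Cfsg.Agent.OM.Lo
end

-- part: OM/Xc/C/Sev
section
/-!
# OM (S4894): Sylow subgroups of order `49` inside `(7 : 3) × (7 : 3)` (helper29)

* `Q7` : the configuration; `no_seven` : there is no block with the hypothesis of the rows;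
* `rt_of_exp` : the count of the Sylow subgroups.
-/

set_option autoImplicit false

namespace Cfsg.Agent.OM.XcC

open Cfsg Subgroup Cfsg.Agent.BHZ.Spor Cfsg.Agent.OM.Lo Cfsg.Agent.BZ.T

section gen

variable {G : Type} [Group G] [Finite G] {p : ℕ} [hp : Fact p.Prime] {a b : G}

omit [Finite G] in
theorem pg_two (ha : a ^ p = 1) (hb : b ^ p = 1) (h : a * b = b * a) : IsPGroup p (closure ({a, b} : Set G)) := by
  have : IsMulCommutative (closure ({a, b} : Set G)) := isMulCommutative_closure (by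
    rintro _ (rfl | rfl) _ (rfl | rfl)
    exacts [rfl, h, h.symm, rfl])
  rintro ⟨x, hx⟩
  refine ⟨1, Subtype.ext ?_⟩
  rw [pow_one]
  change x ^ p = 1
  induction hx using closure_induction with
  | mem x hx => rcases hx with rfl | rfl <;> assumption
  | one => exact one_pow p
  | mul x y hx hy h1 h2 =>
    have h3 : Commute x y := congrArg Subtype.val (this.is_comm.comm ⟨x, hx⟩ ⟨y, hy⟩)
    exact (h3.mul_pow p).trans (by rw [h1, h2, mul_one])
  | inv x hx h1 => exact (inv_pow x p).trans (by rw [h1, inv_one])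

theorem sq_dvd (ha : a ^ p = 1) (hb : b ^ p = 1) (h : a * b = b * a) (h1 : a ≠ 1) (h2 : b ∉ zpowers a) :
    p ^ 2 ∣ Nat.card (closure ({a, b} : Set G)) := by
  obtain ⟨k, hk⟩ := (pg_two ha hb h).exists_card_eq
  have h3 : zpowers a ≤ _root_.Subgroup.closure ({a, b} : Set G) := zpowers_le.2 (_root_.Subgroup.subset_closure (.inl rfl))
  rw [hk]
  refine pow_dvd_pow p (not_lt.1 fun h4 => h2 ?_)
  rw [eq_of_le_of_card_ge h3 (by
    rw [hk, Nat.card_zpowers, orderOf_eq_prime ha h1]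
    exact (Nat.pow_le_pow_right hp.out.pos (by omega)).trans (pow_one p).le)]
  exact _root_.Subgroup.subset_closure (.inr rfl)

end gen

/-- the configuration -/
structure Q7 {S : Type} [Group S] (u v t t' s s' : S) : Prop where
  u7 : u ^ 7 = 1
  v7 : v ^ 7 = 1
  uv : u * v = v * u
  u1 : u ≠ 1
  v1 : v ≠ 1
  t3 : t ^ 3 = 1
  t3' : t' ^ 3 = 1
  tt : t * t' = t' * t
  tu : t * u * t⁻¹ = u
  tv : t * v * t⁻¹ = v ^ 2
  tu' : t' * u * t'⁻¹ = u ^ 2
  tv' : t' * v * t'⁻¹ = v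
  st : s * t * s⁻¹ = t⁻¹
  st' : s' * t' * s'⁻¹ = t'⁻¹
  ts : t * s' = s' * t

/-- the configuration exists -/
def HasQ (S : Type) [Group S] : Prop := ∃ u v t t' s s' : S, Q7 u v t t' s s'

variable {S T : Type} [Group S] [Group T] {u v t t' s s' : S}

theorem Q7.map (h : Q7 u v t t' s s') (f : S →* T) (hf : Function.Injective f) :
    Q7 (f u) (f v) (f t) (f t') (f s) (f s') := by
  refine ⟨?_, ?_, ?_, fun e => h.u1 (hf (e.trans f.map_one.symm)), fun e => h.v1 (hf (e.trans f.map_one.symm)), ?_, ?_, ?_, ?_,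
    ?_, ?_, ?_, ?_, ?_, ?_⟩ <;> simp only [← map_pow, ← map_inv, ← map_mul, h.u7, h.v7, h.uv, h.t3, h.t3', h.tt, h.tu, h.tv,
      h.tu', h.tv', h.st, h.st', h.ts, map_one]

theorem HasQ.map (h : HasQ S) (f : S →* T) (hf : Function.Injective f) : HasQ T :=
  let ⟨_, _, _, _, _, _, h⟩ := h
  ⟨_, _, _, _, _, _, h.map f hf⟩

theorem conj_fix {x y : S} (h : t * x * t⁻¹ = x) (hy : y ∈ zpowers x) : t * y * t⁻¹ = y := by
  obtain ⟨n, rfl⟩ := hy
  rw [← conj_zpow, h]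

variable [Finite S] {P : Subgroup S}

theorem Q7.eq (h : Q7 u v t t' s s') (hP : Nat.card P = 49) (hu : u ∈ P) (hv : v ∈ P) : _root_.Subgroup.closure {u, v} = P :=
  have : Fact (Nat.Prime 7) := ⟨by norm_num⟩
  eq_of_le_of_card_ge ((closure_le _).2 (by rintro _ (rfl | rfl) <;> assumption)) (hP ▸ Nat.le_of_dvd Nat.card_pos
    (sq_dvd h.u7 h.v7 h.uv h.u1 fun e => h.v1 (by simpa [sq] using h.tv.symm.trans (conj_fix h.tu e))))

theorem norm_of {x : S} (h1 : x * u * x⁻¹ ∈ _root_.Subgroup.closure ({u, v} : Set S)) (h2 : x * v * x⁻¹ ∈ closure ({u, v} : Set S)) :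
    x ∈ normalizer (closure ({u, v} : Set S) : Set S) := mem_normalizer_fintype fun y hy =>
  (show _root_.Subgroup.closure {u, v} ≤ (closure ({u, v} : Set S)).comap (MulAut.conj x).toMonoidHom from
    (closure_le _).2 (by rintro _ (rfl | rfl) <;> assumption)) hy

theorem Q7.norm (h : Q7 u v t t' s s') (hP : Nat.card P = 49) (hu : u ∈ P) (hv : v ∈ P) :
    t ∈ normalizer (P : Set S) ∧ t' ∈ normalizer (P : Set S) := by
  have h1 := h.eq hP hu hv
  subst h1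
  exact ⟨norm_of (h.tu.symm ▸ hu) (h.tv ▸ pow_mem hv 2), norm_of (h.tu' ▸ pow_mem hu 2) (h.tv'.symm ▸ hv)⟩

/-- a subgroup of order `49` is a Sylow subgroup -/
def syl (h7 : ¬ 7 ^ 3 ∣ Nat.card S) (hP : Nat.card P = 49) : Sylow 7 S :=
  have : Fact (Nat.Prime 7) := ⟨by norm_num⟩
  (IsPGroup.of_card (n := 2) hP).toSylow fun e => h7 (by
    rw [← P.card_mul_index, hP]
    exact mul_dvd_mul_left 49 e)

theorem HasQ.exists_mem (h : HasQ S) (h7 : ¬ 7 ^ 3 ∣ Nat.card S) (hP : Nat.card P = 49) :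
    ∃ u v t t' s s' : S, Q7 u v t t' s s' ∧ u ∈ P ∧ v ∈ P := by
  have : Fact (Nat.Prime 7) := ⟨by norm_num⟩
  obtain ⟨u, v, t, t', s, s', h⟩ := h
  obtain ⟨Q, hQ⟩ := (pg_two h.u7 h.v7 h.uv).exists_le_sylow
  obtain ⟨g, hg⟩ := MulAction.exists_smul_eq S Q (syl h7 hP)
  have h1 : ∀ x ∈ _root_.Subgroup.closure ({u, v} : Set S), MulAut.conj g x ∈ P := fun x hx => by
    rw [show P = (g • Q : Sylow 7 S) from (congrArg Sylow.toSubgroup hg).symm, Sylow.coe_subgroup_smul]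
    exact smul_mem_pointwise_smul x (MulAut.conj g) (Q : Subgroup S) (hQ hx)
  exact ⟨_, _, _, _, _, _, h.map (MulAut.conj g).toMonoidHom (MulAut.conj g).injective, h1 u (_root_.Subgroup.subset_closure (.inl rfl)),
    h1 v (_root_.Subgroup.subset_closure (.inr rfl))⟩

/-- **the count of the Sylow subgroups** -/
theorem rt_of_exp (h : HasQ S) {m : ℕ} (hN : Nat.card S = 49 * m) (hm : m % 7 = 2) (hP : Nat.card P = 49)
    (h1 : ∀ c ∈ centralizer (P : Set S), c ^ 21 = 1)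
    (h2 : ∀ r ∈ centralizer (P : Set S), r ^ 3 = 1 → r ≠ 1 → ∀ c ∈ centralizer (P : Set S), c ^ 3 = 1 → c ∈ zpowers r) :
    RegTriv 7 P := fun r hr h3 => by
  have : Fact (Nat.Prime 7) := ⟨by norm_num⟩
  have : Fact (Nat.Prime 3) := ⟨Nat.prime_three⟩
  by_contra r1
  have h7 : ¬ 7 ^ 3 ∣ Nat.card S := by omega
  obtain ⟨u, v, t, t', s, s', h, hu, hv⟩ := h.exists_mem h7 hP
  obtain ⟨ht, ht'⟩ := h.norm hP hu hv
  have rC : r ∈ centralizer (P : Set S) := mem_centralizer_iff.2 hr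
  have r3 : r ^ 3 = 1 := orderOf_dvd_iff_pow_eq_one.1 ((Nat.Coprime.symm ((Nat.Prime.coprime_iff_not_dvd Fact.out).2 h3)).dvd_of_dvd_mul_left
    (orderOf_dvd_of_pow_eq_one (h1 r rC) : _ ∣ 7 * 3))
  have h4 : Nat.card (centralizer (P : Set S)) = 147 := by
    obtain ⟨i, j, e⟩ := KM.Xc.exists_two (p := 3) (l := 7) (n := Nat.card (centralizer (P : Set S))) Nat.card_pos.ne'
      fun q hq hd => by
        have := Fact.mk hq
        obtain ⟨x, hx⟩ := exists_prime_orderOf_dvd_card' q hd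
        have a1 : q ∣ 3 * 7 := hx ▸ orderOf_dvd_of_pow_eq_one (Subtype.ext (h1 x x.2))
        exact (hq.dvd_mul.1 a1).imp (Nat.prime_dvd_prime_iff_eq hq Fact.out).1 (Nat.prime_dvd_prime_iff_eq hq Fact.out).1
    have a1 : 3 ∣ 3 ^ i * 7 ^ j := e ▸ orderOf_eq_prime r3 r1 ▸ orderOf_dvd_natCard _ rC
    have a2 : 7 ^ 2 ∣ 3 ^ i * 7 ^ j := by
      have := IsPGroup.isMulCommutative_of_card_eq_prime_sq (p := 7) hP
      exact e ▸ (hP.symm.dvd.trans (card_dvd_of_le (le_centralizer P)))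
    have a3 : ¬ 7 ^ 3 ∣ 3 ^ i * 7 ^ j := fun a => h7 ((e ▸ a).trans (card_subgroup_dvd_card _))
    have a4 : ¬ 3 ^ 2 ∣ 3 ^ i * 7 ^ j := fun a => by
      obtain ⟨R, hR⟩ := Sylow.exists_subgroup_card_pow_prime 3 (e ▸ a)
      have a5 := card_le_of_le (show R.map (centralizer (P : Set S)).subtype ≤ zpowers r by
        rintro _ ⟨x, hx, rfl⟩
        refine h2 r rC r3 r1 x x.2 (orderOf_dvd_iff_pow_eq_one.1 ?_)
        exact Nat.dvd_gcd (hR ▸ orderOf_coe x ▸ R.orderOf_dvd_natCard hx : _ ∣ 3 ^ 2) (orderOf_dvd_of_pow_eq_one (h1 x x.2)))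
      rw [card_map_of_injective (subtype_injective _), hR, Nat.card_zpowers, orderOf_eq_prime r3 r1] at a5
      omega
    have a5 : i = 1 := by
      rcases i with _ | _ | i
      · exact absurd (Nat.prime_three.dvd_of_dvd_pow (by simpa using a1 : 3 ∣ 7 ^ j)) (by decide)
      · rfl
      · exact absurd ((pow_dvd_pow 3 (by omega)).mul_right _) a4
    have a6 : j = 2 := by
      subst a5
      rcases j with _ | _ | _ | j
      · exact absurd a2 (by decide)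
      · exact absurd a2 (by decide)
      · rfl
      · exact absurd ((pow_dvd_pow 7 (by (clear * -; omega))).mul_left _) a3
    rw [e, a5, a6]
    rfl
  let f := P.normalizerMonoidHom
  have f1 : ∀ (x : normalizer (P : Set S)) (y : P), (f x y : S) = x * y * (x : S)⁻¹ := fun _ _ => rfl
  have h5 : 3 ^ 2 ∣ Nat.card f.range := (sq_dvd (a := f ⟨t, ht⟩) (b := f ⟨t', ht'⟩)
    (by rw [← map_pow, show (⟨t, ht⟩ : normalizer (P : Set S)) ^ 3 = 1 from Subtype.ext h.t3, map_one])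
    (by rw [← map_pow, show (⟨t', ht'⟩ : normalizer (P : Set S)) ^ 3 = 1 from Subtype.ext h.t3', map_one])
    (by rw [← map_mul, ← map_mul]; exact congrArg f (Subtype.ext h.tt))
    (fun e => h.v1 (by
      have a1 : v ^ 2 = v := h.tv.symm.trans ((f1 ⟨t, ht⟩ ⟨v, hv⟩).symm.trans (by rw [e]; rfl))
      simpa [sq] using a1)) (by
      rintro ⟨n, e⟩
      have a1 := (f1 ⟨t', ht'⟩ ⟨u, hu⟩).trans h.tu'
      rw [← show f ⟨t, ht⟩ ^ n = _ from e, ← map_zpow, f1, coe_zpow, (Commute.zpow_left (mul_inv_eq_iff_eq_mul.1 h.tu) n).eq, mul_inv_cancel_right] at a1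
      exact h.u1 (by simpa [sq] using a1))).trans (card_dvd_of_le ((closure_le _).2 (by
        rintro _ (rfl | rfl) <;> exact ⟨_, rfl⟩)))
  have h6 : Nat.card f.range ∣ 2016 :=
    (card_subgroup_dvd_card _).trans (SmallSimple.BurnsideNC.card_mulAut_dvd_of_card_eq_sq (p := 7) hP)
  have h8 := f.ker.card_mul_index
  rw [index_ker, normalizerMonoidHom_ker, Nat.card_congr (subgroupOfEquivOfLe (centralizer_le_normalizer _)).toEquiv, h4] at h8
  have h9 := (normalizer (P : Set S)).card_mul_index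
  have h10 : (normalizer (P : Set S)).index % 7 = 1 :=
    ((syl h7 hP).card_eq_index_normalizer ▸ card_sylow_modEq_one 7 S : (normalizer ((syl h7 hP : Subgroup S) : Set S)).index ≡ 1 [MOD 7])
  rw [← h8, hN] at h9
  have h11 : m = 3 * Nat.card f.range * (normalizer (P : Set S)).index := by linarith only [h9]
  rw [h11, Nat.mul_mod, h10, mul_one, Nat.mod_mod] at hm
  exact (by decide +kernel : ∀ e ∈ Nat.divisors 2016, 3 ^ 2 ∣ e → 3 * e % 7 ≠ 2) _ (Nat.mem_divisors.2 ⟨h6, by norm_num⟩) h5 hm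

section cover

variable {X : Type} [Group X] {σ : X →* S}

omit [Finite S]

theorem exists_cube (hs : Function.Surjective σ) (hk : σ.ker ≤ center X) (h3 : t ^ 3 = 1) (h : s * t * s⁻¹ = t⁻¹) :
    ∃ x, σ x = t ∧ x ^ 3 = 1 := by
  obtain ⟨x, rfl⟩ := hs t
  obtain ⟨y, rfl⟩ := hs s
  have h1 : x * (y * x * y⁻¹) ∈ center X := hk (by rw [MonoidHom.mem_ker, map_mul, map_mul, map_mul, map_inv, h, mul_inv_cancel])
  have h2 : x ^ 3 ∈ center X := hk (by rw [MonoidHom.mem_ker, map_pow, h3])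
  have h4 : Commute x⁻¹ (y * x * y⁻¹) := by
    have h5 : Commute x⁻¹ (x⁻¹ * (x * (y * x * y⁻¹))) := (Commute.refl _).mul_right (mem_center_iff.1 h1 _)
    rwa [inv_mul_cancel_left] at h5
  refine ⟨x⁻¹ * (y * x * y⁻¹), ?_, ?_⟩
  · rw [map_mul, map_mul, map_mul, map_inv, map_inv, h, ← mul_inv_rev, inv_eq_iff_mul_eq_one, ← h3, pow_three']
  · rw [h4.mul_pow, conj_pow, mem_center_iff.1 h2 y, mul_inv_cancel_right, inv_pow, inv_mul_cancel]

theorem comm_cube (hs : Function.Surjective σ) (hk : σ.ker ≤ center X) {x y : X} (hy : y ^ 3 = 1) (h1 : σ x * σ y = σ y * σ x)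
    (h2 : s * σ y * s⁻¹ = (σ y)⁻¹) (h3 : σ x * s = s * σ x) : Commute x y := by
  obtain ⟨w, rfl⟩ := hs s
  obtain ⟨z, hz, e1⟩ : ∃ z ∈ center X, x * y * x⁻¹ = y * z :=
    ⟨_, hk (by simp only [MonoidHom.mem_ker, h1, _root_.map_mul, _root_.map_inv, _root_.mul_inv_cancel_right, _root_.inv_mul_cancel]), (mul_inv_cancel_left y _).symm⟩
  obtain ⟨z', hz', e2⟩ : ∃ z ∈ center X, x * w * x⁻¹ = w * z :=
    ⟨_, hk (by simp only [MonoidHom.mem_ker, h3, _root_.map_mul, _root_.map_inv, _root_.mul_inv_cancel_right, _root_.inv_mul_cancel]), (mul_inv_cancel_left w _).symm⟩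
  obtain ⟨c, hc, e3⟩ : ∃ z ∈ center X, w * y * w⁻¹ = y⁻¹ * z :=
    ⟨_, hk (by simp [MonoidHom.mem_ker, h2]), (inv_mul_cancel_left y _).symm⟩
  have a1 : z ^ 3 = 1 := by
    have a2 := congrArg (· ^ 3) e1
    simpa only [conj_pow, hy, mul_one, mul_inv_cancel, Commute.mul_pow (mem_center_iff.1 hz y), one_mul, eq_comm] using a2
  have a2 : x * (w * y * w⁻¹) * x⁻¹ = y⁻¹ * c * z := by
    calc _ = x * w * x⁻¹ * (x * y * x⁻¹) * (x * w * x⁻¹)⁻¹ := by group
      _ = w * (z' * (y * z) * z'⁻¹) * w⁻¹ := by rw [e1, e2]; group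
      _ = w * y * w⁻¹ * z := by
        rw [← mem_center_iff.1 hz', mul_inv_cancel_right, mul_assoc _ w⁻¹, mem_center_iff.1 hz w⁻¹]; group
      _ = _ := by rw [e3]
  have a3 : x * (w * y * w⁻¹) * x⁻¹ = z⁻¹ * (y⁻¹ * c) := by
    calc _ = (x * y * x⁻¹)⁻¹ * (x * c * x⁻¹) := by rw [e3]; group
      _ = _ := by rw [e1, mem_center_iff.1 hc x]; group
  rw [a2, mem_center_iff.1 hz, mul_left_inj] at a3
  rw [pow_three, a3, ← a3, show z * z = 1 from by nth_rw 1 [a3]; exact inv_mul_cancel z, mul_one] at a1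
  rw [a1, mul_one] at e1
  exact mul_inv_eq_iff_eq_mul.1 e1

variable [Finite X] {M : Ideal AlgInt} {Γ : Subgroup (MulAut X)} {b : Set (IrrCharacter X)} {D : Subgroup X}

/-- **no block** -/
theorem no_seven (H : Hyp 7 M Γ b D σ) (hi : (Inn X).relIndex Γ ∣ 2) (hz : Hz Γ) (h7 : ¬ 7 ^ 3 ∣ Nat.card S) (h : HasQ S)
    (hR : ∀ P : Subgroup S, Nat.card P = 49 → RegTriv 7 P) : False := by
  have h7' : Fact (Nat.Prime 7) := ⟨by norm_num⟩
  have := Finite.of_surjective σ H.surj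
  obtain ⟨h1, h2⟩ := C5.card_sq H h7
  obtain ⟨_, _, t, t', s, s', h, ⟨u, hu, rfl⟩, ⟨v, hv, rfl⟩⟩ := h.exists_mem h7 h2
  obtain ⟨ht, ht'⟩ := h.norm h2 ⟨u, hu, rfl⟩ ⟨v, hv, rfl⟩
  obtain ⟨t, rfl, t3⟩ := exists_cube H.surj H.ker.le h.t3 h.st
  obtain ⟨t', rfl, t3'⟩ := exists_cube H.surj H.ker.le h.t3' h.st'
  have h3 : ∀ d ∈ D, d ^ 7 ^ 2 = 1 := fun d hd => congrArg Subtype.val (h1 ▸ pow_card_eq_one' (x := (⟨d, hd⟩ : D)))
  have h4 : ∀ x : X, ∀ d ∈ D, ∀ d' ∈ D, σ x * σ d * (σ x)⁻¹ = σ d' → x * d * x⁻¹ = d' := fun x d hd d' hd' e => by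
    have h8 : d'⁻¹ * (x * d * x⁻¹) ∈ σ.ker := by
      rw [MonoidHom.mem_ker, map_mul, map_inv, ← e, map_mul, map_mul, map_inv, inv_mul_cancel]
    have h10 := Commute.mul_pow (mem_center_iff.1 (H.ker.le h8) d') (7 ^ 2)
    rw [mul_inv_cancel_left, conj_pow, h3 d hd, h3 d' hd', mul_one, mul_inv_cancel, one_mul] at h10
    exact (inv_mul_eq_one.1 (eq_one_of_reg ((C5.cex H).reg h8) h10.symm)).symm
  have h5 : ∀ x : X, σ x ∈ normalizer (D.map σ : Set S) → x ∈ normalizer (D : Set X) := fun x hx =>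
    mem_normalizer_fintype fun d hd => by
      obtain ⟨d', hd', e⟩ := (mem_normalizer_iff.1 hx (σ d)).1 ⟨d, hd, rfl⟩
      rwa [h4 x d hd d' hd' e.symm]
  have h6 : ∀ y ∈ centralizer (D : Set X), ¬ 7 ∣ orderOf y → y ∈ center X := fun y hy e =>
    H.ker.le (mem_ker_of_rt (hR _ h2) (mem_centralizer_iff.1 hy) e)
  refine boxDE1 H hi hz h1 (fun e => h7 ?_) (fun z hz e => h6 z hz fun a => absurd (a.trans (orderOf_dvd_of_pow_eq_one e)) (by decide))
    hu (fun e => h.u1 (by rw [e, map_one])) hv (fun e => h.v1 (by rw [e, map_one])) (h5 t ht) (h5 t' ht') t3 t3'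
    (comm_cube H.surj H.ker.le t3' h.tt h.st' h.ts) (h4 t u hu u hu h.tu) (h4 t v hv _ (pow_mem hv 2) (h.tv.trans (map_pow σ v 2).symm))
    (h4 t' u hu _ (pow_mem hu 2) (h.tu'.trans (map_pow σ u 2).symm)) (h4 t' v hv v hv h.tv') fun y hy e =>
      ⟨mem_center_iff.1 (h6 y hy e) t, mem_center_iff.1 (h6 y hy e) t'⟩
  rw [H.card_eq] at e
  exact (Nat.Coprime.pow_left _ (h7'.out.coprime_iff_not_dvd.2 H.sit.ndvd)).dvd_of_dvd_mul_right e

end cover

end Cfsg.Agent.OM.XcC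
end

-- part: OM/Xc/C/SevE
section
/-!
# OM (S4894): the Sylow `7`-subgroups of `F₄(2)` and `²E₆(2)` (helper29)
-/

set_option autoImplicit false
set_option linter.unusedSectionVars false
set_option maxRecDepth 100000

namespace Cfsg.Agent.OM.XcC

open Cfsg Cfsg.Lie Subgroup Cfsg.Agent.BHZ.Spor

section f4

open Cfsg.Agent.H81.FFourCode Cfsg.Agent.ChevalleyStructure.TwF4.Bits Cfsg.Agent.ChevalleyStructure.TwF4.Tables

variable (F : Type) [Field F] [CharP F 2]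

/-- a word -/
def wd (w : List ℕ) : ↥(chevF4.group F) := ⟨wG F w, wG_mem w⟩

/-- two words have the same code -/
def ck (a b : List ℕ) : Bool := okW a && okW b && Nat.beq (wc a idN) (wc b idN)

variable {F}

theorem wd_mul (a b : List ℕ) : wd F a * wd F b = wd F (a ++ b) := Subtype.ext (wG_append a b).symm

theorem wd_inv (a : List ℕ) : (wd F a)⁻¹ = wd F a.reverse := Subtype.ext (wG_inv a)

theorem wd_nil : (1 : ↥(chevF4.group F)) = wd F [] := rfl

theorem wd_eq {a b : List ℕ} (h : ck a b = true) : wd F a = wd F b := by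
  simp only [ck, Bool.and_eq_true] at h
  exact Subtype.ext (eq_of_code h.1.1 h.1.2 h.2)

theorem wd_ne {a : List ℕ} (h : okW a = true) (i j : chevF4.Idx) (h1 : (wc a idN).testBit (52 * pos i + pos j) = true)
    (h2 : (wc [] idN).testBit (52 * pos i + pos j) = false) : wd F a ≠ 1 := fun e => by
  have h3 := congrFun (congrFun ((coe_wG (K := F) h).symm.trans ((congrArg (fun x : ↥(chevF4.group F) =>
    ((x : GL chevF4.Idx F) : Matrix chevF4.Idx chevF4.Idx F)) e).trans (coe_wG (w := []) rfl))) i) j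
  rw [sem_apply, sem_apply, h1, h2] at h3
  simp at h3

variable (F) in
theorem hasQ_f4 : HasQ ↥(chevF4.group F) := by
  refine ⟨wd F [33, 27, 20, 14], wd F [0, 24, 23, 47], wd F [0, 23, 24], wd F [33, 20, 27], wd F [24], wd F [27], ?_, ?_, ?_,
    wd_ne rfl (.inl (0 : Fin 4)) (.inr (33 : Fin 48)) (by decide +kernel) (by decide +kernel),
    wd_ne rfl (.inl (3 : Fin 4)) (.inr (0 : Fin 48)) (by decide +kernel) (by decide +kernel),
    ?_, ?_, ?_, ?_, ?_, ?_, ?_, ?_, ?_, ?_⟩ <;>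
  simp only [pow_succ, pow_zero, wd_nil, wd_inv, wd_mul] <;> exact wd_eq (by decide +kernel)

end f4

section e6

open CoxeterSystem Cfsg.Agent.ChevalleyStructure Cfsg.Agent.ChevalleyStructure.Elts
  Cfsg.Agent.ChevalleyStructure.CoxeterGeom Cfsg.Agent.ChevalleyStructure.CoxeterGeomTypes
  Cfsg.Agent.Tits.Roots Cfsg.Agent.Tits.Core Cfsg.Agent.Nodes.Reps
  Cfsg.Agent.Nodes.BNOf Cfsg.Agent.Nodes.RGDChev Cfsg.Agent.KFacts.RgdField Cfsg.Agent.KFacts.RgdChevCoord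
  Cfsg.Agent.BpExc.Tow Cfsg.Agent.BpExc.TowChev Cfsg.Agent.BpExc.LangFr Cfsg.Agent.BpExc.Fr
  Cfsg.Agent.BpExc.TorCent Cfsg.Agent.H897.Lat Cfsg.Agent.H897.Sg Cfsg.Agent.H897.Tor Cfsg.Agent.H897.Cen
  Cfsg.Agent.H897.Emb Cfsg.Agent.H897.Frm Cfsg.Agent.H897.Cas Cfsg.Agent.H897.Syl Cfsg.Agent.H897.Data
open Cfsg.Agent.BpExc.FamTw.Six (em em_injective)

variable {K : Type} [Field K] [Fintype K] (hK : Fintype.card K = 4) {k : Type} [Field k] [CharP k 2]
  [IsAlgClosed k] (hk : LocFin k) (f : K →+* k)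

/-- the twist -/
def g49 (a : V) : V := actR ws49 (pm a)

theorem g49_eq : ∀ i : Fin 6, g49 (g49 (g49 (g49 (sr i)))) + g49 (g49 (sr i)) + sr i = 0 := by decide +kernel

include hk in
theorem exp21 {τ : MulAut ↥(chevE6.group k)} {g : V ≃+ V} (F : SFr cs0 τ g) (hg : ∀ a, g a = actR ws49 (pm a))
    {s : ↥(chevE6.group k)} (hs : s ∈ TT chevE6 k) (h : τ s = s) : s ^ 21 = 1 := by
  obtain ⟨φ, h0, h1, h2⟩ := chAddL hp cs0 hk 2 s hs
  have h3 : ∀ a, φ (g a) = φ a ^ 2 := phi_ext (φ := fun a => φ (g a)) (ψ := fun a => φ a ^ 2) (by rw [map_zero, h0])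
    (fun x y => by rw [map_add, h1]) (by rw [h0, one_pow]) (fun x y => by rw [h1, mul_pow]) fun i => by
      have h4 := (root0 _).2 (isRoot_sr' i)
      rw [← h2 _ h4, ← h2 _ ((F.fr.root _).2 h4), ← ch_tau hk F hs (isRoot_sr' i), h]
  refine eq_of_ch (pow_mem hs 21) (one_mem _) fun i => ?_
  have h4 := congrArg φ (g49_eq i)
  simp only [g49, ← hg, h1, h3, h0] at h4
  rw [ch_pow hk hs (isRoot_sr' i), ch_one hk (isRoot_sr' i), h2 _ ((root0 _).2 (isRoot_sr' i)), ← h4]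
  ring

include hK hk f in
theorem cent49 {P : Subgroup ↥(twistedE6 K 2)} (hP : Nat.card P = 49) : (∀ c ∈ centralizer (P : Set ↥(twistedE6 K 2)), c ^ 21 = 1) ∧
    ∃ a : ↥(chevE6.group k), a ^ 3 = 1 ∧ ∀ c ∈ centralizer (P : Set ↥(twistedE6 K 2)), c ^ 3 = 1 → ∃ m : ℕ, em 2 f c = a ^ m := by
  have h7 : Nat.Prime 7 := by norm_num
  have := Fact.mk h7
  obtain ⟨ζ, hζ⟩ := exists_prim (k := k) (l := 7) (by norm_num)
  obtain ⟨ω, hω⟩ := exists_prim (k := k) (l := 3) (by norm_num)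
  have hζ0 : ζ ≠ 0 := hζ.ne_zero (by norm_num)
  have hω0 : ω ≠ 0 := hω.ne_zero (by norm_num)
  obtain ⟨z, hz, ⟨-, -, hex⟩ | ⟨i, j, -, hPm⟩⟩ := exists_frame_seven hK hk f ws49_mem hζ (c₁ := c49a) (c₂ := c49b)
    (by decide +kernel) (by decide +kernel) (by decide +kernel) (by decide +kernel) c49a_fix c49b_fix
    (IsPGroup.of_card (n := 2) hP) (by rintro rfl; simp at hP)
  swap
  · have h1 := congrArg (fun U : Subgroup ↥(chevE6.group k) => Nat.card U) hPm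
    simp only [card_map_of_injective (em_injective f), card_map_of_injective (f := (MulAut.conj z).toMonoidHom)
      (MulAut.conj z).injective, hP, Nat.card_zpowers] at h1
    exact absurd (h1 ▸ orderOf_dvd_of_pow_eq_one (tz_pow_eq_one hk h7.pos hζ _)) (by decide)
  obtain ⟨τ, g, F, hg, hτ⟩ := hz.spec
  have h1 : ∀ c ∈ centralizer (P : Set ↥(twistedE6 K 2)), ∃ s ∈ TT chevE6 k, τ s = s ∧ em 2 f c = z * s * z⁻¹ := fun c hc => by
    have h2 : em 2 f c = z * (z⁻¹ * em 2 f c * z) * z⁻¹ := by group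
    refine ⟨_, cent_reg hk h7 (by norm_num) (S := {tz ζ c49a, tz ζ c49b}) (Set.toFinite _) ?_ ?_ (fun a ha => ?_) fun s hs => ?_,
      conj_inj (z := z) (by rw [← hτ, ← h2, sg_em hK f]), h2⟩
    · rintro s (rfl | rfl) <;> exact (tz_spec hζ0 _).1
    · rintro s (rfl | rfl) <;> exact tz_pow_eq_one hk h7.pos hζ _
    · by_cases h5 : (7 : ℤ) ∣ dot c49a a
      · exact ⟨_, .inr rfl, by rw [ch_tz hk hζ0 _ ha, Ne, hζ.zpow_eq_one_iff_dvd]; exact c49_reg a ha h5⟩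
      · exact ⟨_, .inl rfl, by rwa [ch_tz hk hζ0 _ ha, Ne, hζ.zpow_eq_one_iff_dvd]⟩
    · obtain ⟨x, hx, e⟩ : ∃ x ∈ P, em 2 f x = z * s * z⁻¹ := by
        rcases hs with rfl | rfl
        · simpa only [_root_.Subtype.exists, _root_.one_smul, _root_.zero_smul, _root_.add_zero] using hex 1 0
        · simpa only [_root_.Subtype.exists, _root_.zero_smul, _root_.one_smul, _root_.zero_add] using hex 0 1
      have h3 := congrArg (em 2 f) (mem_centralizer_iff.1 hc x hx)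
      rw [map_mul, map_mul, e] at h3
      calc _ = z⁻¹ * (em 2 f c * (z * s * z⁻¹)) * z := by group
        _ = _ := by rw [← h3]; group
  refine ⟨fun c hc => ?_, z * tz ω ![2, 0, 0, 0, 2, 1] * z⁻¹, ?_, fun c hc h3 => ?_⟩
  · obtain ⟨s, h2, h3, h4⟩ := h1 c hc
    refine em_injective f ?_
    rw [map_pow, h4, conj_pow, exp21 hk F hg h2 h3, mul_one, mul_inv_cancel, map_one]
  · rw [conj_pow, tz_pow_eq_one hk (by norm_num) hω, mul_one, mul_inv_cancel]
  · obtain ⟨s, h2, h4, h5⟩ := h1 c hc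
    obtain ⟨d, hd, rfl⟩ := exists_tz hk (by norm_num) hω h2 (conj_inj (z := z) (by
      rw [← conj_pow, ← h5, ← map_pow, h3, map_one, mul_one, mul_inv_cancel]))
    obtain ⟨m, hm⟩ := ok49.one d hd fun i => hg (sr i) ▸ of_tau_tz hk F (by norm_num) hω _ h4 i
    exact ⟨m, by rw [h5, conj_pow, tz_pow hk hω0, (tz_eq_iff hk (by norm_num) hω _ _).2 hm]; rfl⟩

end e6

theorem exists_te6 (F K : Type) [Field F] [Fintype F] [Field K] [Fintype K] (hF : Fintype.card F = 2) (hK : Fintype.card K = 4) :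
    ∃ ι : ↥(chevF4.group F) →* ↥(twistedE6 K 2), Function.Injective ι := by
  have : Fact (Nat.Prime 2) := ⟨Nat.prime_two⟩
  have : CharP K 2 := charP_of_card_eq_prime_pow (f := 2) hK
  exact ⟨_, H129.FE.toTE6_injective ((ZMod.castHom dvd_rfl K).comp
    (FiniteField.ringEquivOfCardEq (hF.trans (ZMod.card 2).symm)).toRingHom) fun t => by
      rw [← map_pow, show t ^ 2 = t from hF ▸ FiniteField.pow_card t]⟩

variable {K : Type} [Field K] [Fintype K] (hK : Fintype.card K = 4)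

include hK

theorem hasQ_e6 : HasQ ↥(twistedE6 K 2) :=
  have : Fact (Nat.Prime 2) := ⟨Nat.prime_two⟩
  let ⟨ι, h⟩ := exists_te6 (ZMod 2) K (ZMod.card 2) hK
  (hasQ_f4 (ZMod 2)).map ι h

theorem rt_e6 (P : Subgroup ↥(twistedE6 K 2)) (hP : Nat.card P = 49) : RegTriv 7 P := by
  have : Fact (Nat.Prime 2) := ⟨Nat.prime_two⟩
  have : Fact (Nat.Prime 3) := ⟨Nat.prime_three⟩
  have : CharP K 2 := charP_of_card_eq_prime_pow (f := 2) hK
  let _ : Algebra (ZMod 2) K := ZMod.algebra K 2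
  have : Algebra.IsAlgebraic (ZMod 2) K := Algebra.IsAlgebraic.of_finite (ZMod 2) K
  let f : K →ₐ[ZMod 2] AlgebraicClosure (ZMod 2) := IsAlgClosed.lift
  have hN := H897.Syl.card_G hK
  have : Finite ↥(twistedE6 K 2) := Nat.finite_of_card_ne_zero (by rw [hN]; norm_num)
  obtain ⟨h1, a, h2, h3⟩ := cent49 hK (BpExc.TowChev.locFin_of_isAlgebraic 2 _) (f : K →+* AlgebraicClosure (ZMod 2)) hP
  refine rt_of_exp (hasQ_e6 hK) (m := 1561887340485201100800) hN (by norm_num) hP h1 fun r hr r3 r1 c hc c3 => ?_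
  obtain ⟨m, hm⟩ := h3 r hr r3
  obtain ⟨n, hn⟩ := h3 c hc c3
  have h4 : ¬ 3 ∣ m := by
    rintro ⟨j, rfl⟩
    exact r1 (BpExc.FamTw.Six.em_injective _ (by rw [hm, pow_mul, h2, one_pow, map_one]))
  refine ⟨(m * n : ℕ), BpExc.FamTw.Six.em_injective (f : K →+* AlgebraicClosure (ZMod 2)) ?_⟩
  obtain ⟨j, hj⟩ : ∃ j, m * m = 3 * j + 1 := by
    obtain ⟨j, rfl | rfl | rfl⟩ : ∃ j, m = 3 * j ∨ m = 3 * j + 1 ∨ m = 3 * j + 2 := ⟨m / 3, by omega⟩
    exacts [absurd (dvd_mul_right 3 j) h4, ⟨3 * j * j + 2 * j, by ring⟩, ⟨3 * j * j + 4 * j + 1, by ring⟩]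
  simp only [zpow_natCast, map_pow]
  rw [hm, hn, ← pow_mul, ← mul_assoc, hj, pow_mul, pow_succ, pow_mul, h2, one_pow, one_mul]

end Cfsg.Agent.OM.XcC
end

-- part: OM/Xc/C/Thirteen
section
/-!
# OM (S4894), exceptional covers: the elements of order `13` of `F₄(2)` and `²E₆(2)` (helper72)

* `od_f42`, `od_e62` : one class of elements of order `13`, with centralisers of odd order;
* `idx_e62` : the covers of `²E₆(2)` with a cyclic centre of even order have at most two classes of outer automorphisms.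
-/

set_option autoImplicit false
set_option linter.unusedSectionVars false

namespace Cfsg.Agent.OM.X13

open Cfsg Cfsg.Lie Subgroup Cfsg.Agent.OM.Lo Cfsg.Agent.OM.Alt Cfsg.Agent.BH.RO.XCp

section gen

variable {G : Type} [Group G] [Finite G]

/-- Sylow subgroups of prime order -/
theorem exists_pow {p : ℕ} (hp : p.Prime) (h : ¬ p ^ 2 ∣ Nat.card G) {x y : G} (hx : orderOf x = p) (hy : orderOf y = p) :
    ∃ (g : G) (n : ℕ), g * y * g⁻¹ = x ^ n := by
  have := Fact.mk hp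
  have k : ∀ z : G, orderOf z = p → Nat.card (zpowers z) = p ^ (Nat.card G).factorization p := fun z hz => by
    have h1 := (hp.pow_dvd_iff_le_factorization (k := 1) Nat.card_pos.ne').1 (by
      rw [pow_one, ← hz]
      exact _root_.orderOf_dvd_natCard z)
    have h2 := mt (hp.pow_dvd_iff_le_factorization Nat.card_pos.ne').2 h
    rw [Nat.card_zpowers, hz, show (Nat.card G).factorization p = 1 by omega, pow_one]
  obtain ⟨g, hg⟩ := MulAction.exists_smul_eq G (Sylow.ofCard _ (k y hy)) (Sylow.ofCard _ (k x hx))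
  have h3 : g * y * g⁻¹ ∈ zpowers x := by
    rw [← Sylow.coe_ofCard _ (k x hx), ← hg, Sylow.coe_subgroup_smul]
    exact smul_mem_pointwise_smul y (MulAut.conj g) _ (mem_zpowers y)
  obtain ⟨n, hn⟩ := (mem_powers_iff_mem_zpowers (x := x)).2 h3
  exact ⟨g, n, hn.symm⟩

/-- `2` generates the units modulo `13` -/
theorem conj13 (h : ¬ 13 ^ 2 ∣ Nat.card G) {x : G} (hx : orderOf x = 13) (h2 : IsConj x (x ^ 2)) (y : G)
    (hy : orderOf y = orderOf x) : IsConj x y := by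
  obtain ⟨g, n, hg⟩ := exists_pow (by norm_num) h hx (hy.trans hx)
  have h1 : ∀ k : ℕ, IsConj x (x ^ 2 ^ k) := fun k => by
    induction k with
    | zero => exact (pow_one x).symm ▸ IsConj.refl _
    | succ k ih =>
      refine ih.trans ?_
      rw [pow_succ', pow_mul]
      exact h2.pow _
  have h3 : n % 13 ≠ 0 := fun e => by
    rw [← pow_mod_orderOf, hx, e, pow_zero, mul_inv_eq_one, mul_eq_left] at hg
    rw [hg, orderOf_one, hx] at hy
    omega
  obtain ⟨k, hk⟩ : ∃ k : Fin 12, 2 ^ k.1 % 13 = n % 13 :=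
    (by decide : ∀ m : Fin 13, m.1 ≠ 0 → ∃ k : Fin 12, 2 ^ k.1 % 13 = m.1) ⟨_, Nat.mod_lt n (by norm_num)⟩ h3
  refine (h1 k).trans (IsConj.symm (isConj_iff.2 ⟨g, ?_⟩))
  rw [hg, ← pow_mod_orderOf, hx, ← hk, ← hx, pow_mod_orderOf]

end gen

/-- an element of order `13` of `F₄(2)` -/
theorem ex13 (F : Type) [Field F] [Fintype F] (hF : Fintype.card F = 2) : ∃ x : ↥(chevF4.group F), orderOf x = 13 ∧
    Odd (Nat.card (centralizer ({x} : Set ↥(chevF4.group F)))) ∧ IsConj x (x ^ 2) := by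
  have : Finite ↥(chevF4.group F) := Nat.finite_of_card_ne_zero (by rw [S1062.result hF]; norm_num)
  obtain ⟨r, T, h1, -, h2, -, h3, h4, h5, ⟨g, hg⟩, -⟩ := H101.RO.f4_torus hF
  obtain rfl : r = 13 := (Nat.prime_dvd_prime_iff_eq h1 (by norm_num)).1 h2
  have := Fact.mk h1
  obtain ⟨x, hx⟩ := exists_prime_orderOf_dvd_card' 13 h3
  have hx' := (orderOf_coe x).trans hx
  exact ⟨x, hx', h4.of_dvd_nat (card_dvd_of_le (h5 _ x.2 hx')), IsConj.symm (isConj_iff.2 ⟨g, hg _ x.2⟩)⟩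

/-- **`F₄(2)`** -/
theorem od_f42 (F : Type) [Field F] [Fintype F] (hF : Fintype.card F = 2) : ∃ x : ↥(chevF4.group F), orderOf x = 13 ∧
    Odd (Nat.card (centralizer ({x} : Set ↥(chevF4.group F)))) ∧ ∀ y, orderOf y = orderOf x → IsConj x y := by
  have : Finite ↥(chevF4.group F) := Nat.finite_of_card_ne_zero (by rw [S1062.result hF]; norm_num)
  obtain ⟨x, h1, h2, h3⟩ := ex13 F hF
  exact ⟨x, h1, h2, conj13 (by rw [S1062.result hF]; norm_num) h1 h3⟩

/-- **`²E₆(2)`** -/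
theorem od_e62 (K : Type) [Field K] [Fintype K] (hK : Fintype.card K = 4) : ∃ x : ↥(twistedE6 K 2), orderOf x = 13 ∧
    Odd (Nat.card (centralizer ({x} : Set ↥(twistedE6 K 2)))) ∧ ∀ y, orderOf y = orderOf x → IsConj x y := by
  have : Fact (Nat.Prime 2) := ⟨Nat.prime_two⟩
  have : CharP K 2 := charP_of_card_eq_prime_pow (f := 2) hK
  have : Finite ↥(twistedE6 K 2) := Nat.finite_of_card_ne_zero (by rw [BM.HBFinal.card_E K hK]; norm_num)
  obtain ⟨x, h1, -, h3⟩ := ex13 (ZMod 2) (ZMod.card 2)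
  have hf : ∀ t : ZMod 2, ZMod.castHom (dvd_refl 2) K t ^ 2 = ZMod.castHom (dvd_refl 2) K t := fun t => by
    rw [← map_pow, ZMod.pow_card]
  obtain ⟨f, hi⟩ : ∃ f : ↥(chevF4.group (ZMod 2)) →* ↥(twistedE6 K 2), Function.Injective f :=
    ⟨_, H129.FE.toTE6_injective _ hf⟩
  have h4 : orderOf (f x) = 13 := (orderOf_injective f hi x).trans h1
  refine ⟨f x, h4, Nat.not_even_iff_odd.1 fun h => ?_, conj13 (by rw [BM.HBFinal.card_E K hK]; norm_num) h4
    (map_pow f x 2 ▸ f.map_isConj h3)⟩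
  obtain ⟨t, ht⟩ := exists_prime_orderOf_dvd_card' 2 h.two_dvd
  have h5 : orderOf (t * f x) = 2 * 13 := by
    rw [Commute.orderOf_mul_eq_mul_orderOf_of_coprime (mem_centralizer_singleton_iff.1 t.2), orderOf_coe, ht, h4]
    rw [orderOf_coe, ht, h4]
    norm_num
  have h6 := H129.ExactZ.Z12_tE6 (q := 2) Nat.prime_two.isPrimePow (Nat.card_eq_fintype_card.trans hK) (t * f x) (r := 13)
    (by norm_num) (by norm_num) (by rw [h5]; norm_num)
  rw [h5] at h6
  norm_num at h6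

section idx

open Cfsg.Agent.TO Cfsg.Agent.KFacts.MulDef Cfsg.Agent.KFacts.MulTwo

variable {K S : Type} [Group K] [Group S]

theorem descend2 [Finite K] {σ : K →* S} (hK : commutator K = ⊤) (hs : Function.Surjective σ) (hk : σ.ker = center K)
    (hc : IsCyclic (center K)) (h2 : 2 ∣ Nat.card (center K)) {δ : MulAut S} (h : NL δ)
    (α : MulAut K) : ¬ ∀ x, σ (α x) = δ (σ x) := fun hα => by
  have hle : Sq K ≤ center K := fun _ ⟨a, ha, e⟩ => e ▸ mul_mem ha ha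
  have hN : (Sq K).Normal := ⟨fun n hn g => by
    rw [mem_center_iff.1 (hle hn) g, mul_inv_cancel_right]
    exact hn⟩
  have hm : ∀ (β : MulAut K), ∀ x ∈ Sq K, β x ∈ Sq K := fun β _ ⟨a, ha, e⟩ =>
    ⟨β a, map_center β ha, by rw [← map_mul, e]⟩
  obtain ⟨z, hz⟩ := hc.exists_generator
  have hz2 : z.1 ∉ Sq K := fun ⟨a, ha, e⟩ => by
    obtain ⟨n, hn⟩ := hz ⟨a, ha⟩
    have h3 : z ^ (2 * n - 1) = 1 := by
      rw [zpow_sub_one, two_mul, zpow_add, mul_inv_eq_one]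
      exact Subtype.ext ((congrArg (fun x : center K => x.1 * x.1) hn).trans e)
    have h4 := (Int.natCast_dvd_natCast.2 (orderOf_eq_card_of_forall_mem_zpowers hz ▸ h2)).trans
      (orderOf_dvd_iff_zpow_eq_one.2 h3)
    omega
  have hzz : (z.1 : K ⧸ Sq K) * (z.1 : K ⧸ Sq K) = 1 := (QuotientGroup.eq_one_iff (z.1 * z.1)).2 ⟨z.1, z.2, rfl⟩
  refine h (K ⧸ Sq K) (QuotientGroup.lift (Sq K) σ (hle.trans hk.ge)) (z.1 : K ⧸ Sq K)
    ⟨⟨fun e => hz2 ((QuotientGroup.eq_one_iff _).1 e), hzz, fun x => ?_, ?_⟩, fun y => ?_, fun x => ?_⟩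
    (QuotientGroup.congr (Sq K) (Sq K) α (le_antisymm (map_le_iff_le_comap.2 (hm α)) fun x hx =>
      ⟨α⁻¹ x, hm _ x hx, α.apply_symm_apply x⟩)) fun x => ?_
  · obtain ⟨x, rfl⟩ := QuotientGroup.mk_surjective x
    rw [← QuotientGroup.mk_mul, ← QuotientGroup.mk_mul, mem_center_iff.1 z.2 x]
  · have h3 := map_commutator (⊤ : Subgroup K) ⊤ (QuotientGroup.mk' (Sq K))
    rw [← commutator_def, hK, map_top_of_surjective _ (QuotientGroup.mk'_surjective _)] at h3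
    exact h3.symm
  · obtain ⟨x, rfl⟩ := hs y
    exact ⟨x, rfl⟩
  · obtain ⟨x, rfl⟩ := QuotientGroup.mk_surjective x
    refine ⟨fun e => ?_, ?_⟩
    · obtain ⟨n, hn⟩ := hz ⟨x, hk.le e⟩
      have h3 : (x : K ⧸ Sq K) = (z.1 : K ⧸ Sq K) ^ n := by
        rw [← QuotientGroup.mk_zpow]
        exact congrArg _ (congrArg Subtype.val hn).symm
      rw [h3]
      rcases Int.even_or_odd' n with ⟨m, rfl | rfl⟩
      · exact .inl (by rw [zpow_mul, zpow_two, hzz, one_zpow])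
      · exact .inr (by rw [zpow_add_one, zpow_mul, zpow_two, hzz, one_zpow, one_mul])
    · rintro (e | e)
      · rw [e, map_one]
      · rw [e]
        exact hk.ge z.2
  · obtain ⟨x, rfl⟩ := QuotientGroup.mk_surjective x
    exact hα x

/-- no outer automorphism of order three -/
theorem not_three [Finite K] [Finite S] {σ : K →* S} (hK : commutator K = ⊤) (hs : Function.Surjective σ)
    (hk : σ.ker = center K) (hc : IsCyclic (center K)) (h2 : 2 ∣ Nat.card (center K)) (h9 : ¬ 9 ∣ (Inn S).index)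
    {δ : MulAut S} (h3 : δ ^ 3 = 1) (h : NL δ) : ¬ 3 ∣ (Inn K).index := fun hd => by
  have : Fact (Nat.Prime 3) := ⟨Nat.prime_three⟩
  have : Finite (MulAut K) := Finite.of_injective (fun α : MulAut K => (α : K → K)) DFunLike.coe_injective
  have : Finite (MulAut S) := Finite.of_injective (fun α : MulAut S => (α : S → S)) DFunLike.coe_injective
  obtain ⟨a, ha⟩ := exists_prime_orderOf_dvd_card' (G := MulAut K ⧸ Inn K) 3 hd
  obtain ⟨α, rfl⟩ := QuotientGroup.mk_surjective a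
  obtain ⟨φ, hφ⟩ := Idx.exists_bar hs hk
  obtain ⟨y, hy⟩ : α ^ 3 ∈ Inn K := (QuotientGroup.eq_one_iff _).1 (by
    rw [QuotientGroup.mk_pow, ← ha, pow_orderOf_eq_one])
  obtain ⟨g, n, hg⟩ := sylow_three (O := MulAut S ⧸ Inn S) h9 (b := φ α) (d := δ) (k := 1) (by
      rw [pow_one, ← QuotientGroup.mk_pow, ← map_pow, QuotientGroup.eq_one_iff]
      exact ⟨σ y, MulEquiv.ext fun s => by obtain ⟨x, rfl⟩ := hs s; simp only [hφ, ← hy, _root_.MulAut.conj_apply, _root_.map_mul, _root_.map_inv]⟩) (fun e => by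
      obtain ⟨s, e⟩ := (QuotientGroup.eq_one_iff _).1 e
      obtain ⟨x, rfl⟩ := hs s
      have h1 : α ∈ Inn K := ⟨x, inv_mul_eq_one.1 (eq_one_of hK hk fun g => by simp only [← hφ, ← e, mul_assoc, _root_.MulAut.mul_apply, _root_.MulAut.inv_apply, _root_.MulAut.conj_symm_apply, _root_.map_mul, _root_.map_inv, _root_.MulAut.conj_apply, _root_.inv_mul_cancel, _root_.mul_one, _root_.inv_mul_cancel_left])⟩
      rw [(QuotientGroup.eq_one_iff _).2 h1, orderOf_one] at ha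
      omega) (by rw [← QuotientGroup.mk_pow, h3]; rfl)
  obtain ⟨γ, rfl⟩ := QuotientGroup.mk_surjective g
  rw [← QuotientGroup.mk_zpow, ← QuotientGroup.mk_mul, ← QuotientGroup.mk_inv, ← QuotientGroup.mk_mul, eq_comm,
    QuotientGroup.eq] at hg
  obtain ⟨s, hy⟩ := hg
  obtain ⟨x, rfl⟩ := hs s
  refine descend2 hK hs hk hc h2 (h.conj γ) (α ^ n * MulAut.conj x) fun g => ?_
  rw [← inv_mul_eq_iff_eq_mul.1 hy.symm |>.symm, MulAut.mul_apply, MulAut.mul_apply, ← hφ, map_zpow]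
  simp only [_root_.MulAut.conj_apply, _root_.map_mul, _root_.map_inv]

end idx

/-- **the outer automorphisms of the covers of `²E₆(2)`** -/
theorem idx_e62 {K : Type} [Field K] [Fintype K] (hK : Fintype.card K = 4) {p : ℕ} {M : Ideal AlgInt} {X : Type} [Group X]
    [Finite X] {Γ : Subgroup (MulAut X)} {b : Set (IrrCharacter X)} {D : Subgroup X} {σ : X →* ↥(twistedE6 K 2)}
    (H : Hyp p M Γ b D σ) (hz : 2 ∣ Nat.card (center X)) : (Inn X).relIndex Γ ∣ 2 := by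
  have := BM.HBFinal.finite_HB
  have : Finite ↥(twistedE6 K 2) := Finite.of_surjective σ H.surj
  obtain ⟨e, r, he, hgen, -⟩ := TwoESix.GoodInst.exists_good K hK
  obtain ⟨δ, h1, h2⟩ := exists_rot he hgen (BM.HBFinal.hcard K hK)
  have h3 := TwoESix.SheetMain.index_of_equiv hK (MulEquiv.refl _)
  have hX := H.sit.qs.1.commutator_eq_top
  have h4 := not_three hX H.surj H.ker H.sit.cyc hz (fun h => absurd (h.trans h3) (by decide)) h1 h2
  exact (relIndex_dvd_index_of_normal _ _).trans (Nat.Coprime.dvd_of_dvd_mul_right (n := 3) (m := 2)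
    ((Nat.prime_three.coprime_iff_not_dvd.2 h4).symm) ((Idx.index_dvd hX H.surj H.ker).trans h3))

end Cfsg.Agent.OM.X13
end

-- part: OM/Xc/A/St
section
/-!
# OM (S4894), the exceptional covers: the companion of the Steinberg character (helper80)

* `Av Γ x t` : `t` times the mean value on the orbit of `x` is an algebraic integer;
* `no_st` : the degrees in the block are too large.
-/

set_option autoImplicit false
set_option linter.unusedSectionVars false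

namespace Cfsg.Agent.OM.XA

open Cfsg Subgroup Cfsg.Agent.BHZ.Spor Cfsg.Agent.BZ Cfsg.Agent.BZ.T Cfsg.Agent.BZ.X Cfsg.Agent.Blocks
open Cfsg.Agent.Characters.Core
open scoped ComplexConjugate

section av

variable {X : Type} [Group X] [Finite X] {Γ : Subgroup (MulAut X)} {x : X}

/-- `t` times the mean value on the orbit is an algebraic integer -/
def Av (Γ : Subgroup (MulAut X)) (x : X) (t : ℕ) : Prop := ∀ θ : IrrCharacter X, ∃ A : ℂ, IsIntegral ℤ A ∧
  (t : ℂ) * ∑ᶠ α : Γ, (θ : X → ℂ) (α.1 x) = Nat.card Γ * A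

theorem fin_aut : Finite (MulAut X) := Finite.of_injective (fun α : MulAut X => (α : X → X)) DFunLike.coe_injective

theorem Av.mono {s t : ℕ} (h : Av Γ x s) (hd : s ∣ t) : Av Γ x t := fun θ => by
  obtain ⟨A, h1, h2⟩ := h θ
  obtain ⟨c, rfl⟩ := hd
  exact ⟨c * A, (isIntegral_natCast c).mul h1, by rw [Nat.cast_mul, mul_right_comm, h2]; ring⟩

theorem sum_const {f : X → ℂ} {c : ℂ} (h : ∀ α ∈ Γ, f (α x) = c) : ∑ᶠ α : Γ, f (α.1 x) = Nat.card Γ * c := by
  have := fin_aut (X := X)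
  have := Fintype.ofFinite Γ
  rw [finsum_eq_sum_of_fintype, Finset.sum_congr rfl fun α _ => h α.1 α.2, Finset.sum_const, Finset.card_univ, nsmul_eq_mul,
    Nat.card_eq_fintype_card]

theorem av_one (h : ∀ α ∈ Γ, IsConj x (α x)) : Av Γ x 1 := fun θ =>
  ⟨_, CharactersDeep.ModCongr.isIntegral_irr θ.2 x, by
    rw [Nat.cast_one, one_mul, sum_const fun α hα => ?_]
    obtain ⟨c, hc⟩ := isConj_iff.1 (h α hα)
    rw [← hc]
    exact (isCharacter_isClassFunction (isIrr_isCharacter θ.2)) x c⟩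

theorem av_idx (x : X) : Av Γ x ((Inn X).relIndex Γ) := fun θ => by
  classical
  have := fin_aut (X := X)
  have := Fintype.ofFinite Γ
  have := Fintype.ofFinite (Γ ⧸ (Inn X).subgroupOf Γ)
  refine ⟨∑ q : Γ ⧸ (Inn X).subgroupOf Γ, (θ : X → ℂ) (q.out.1 x),
    IsIntegral.sum _ fun q _ => CharactersDeep.ModCongr.isIntegral_irr θ.2 _, ?_⟩
  have h0 : Function.Bijective fun z : (Γ ⧸ (Inn X).subgroupOf Γ) × (Inn X).subgroupOf Γ => z.1.out * z.2.1 :=
    (Nat.bijective_iff_surjective_and_card _).2 ⟨fun g =>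
      let ⟨n, hn⟩ := QuotientGroup.mk_out_eq_mul ((Inn X).subgroupOf Γ) g
      ⟨(g, n⁻¹), by simp only [hn, coe_inv, mul_inv_cancel_right]⟩, by
        rw [Nat.card_prod, card_eq_card_quotient_mul_card_subgroup ((Inn X).subgroupOf Γ)]⟩
  rw [finsum_eq_sum_of_fintype, ← h0.sum_comp,
    Fintype.sum_prod_type, ← card_mul_index ((Inn X).subgroupOf Γ), Nat.cast_mul, mul_comm (Nat.card _ : ℂ), mul_assoc,
    Finset.mul_sum _ _ (Nat.card _ : ℂ)]
  refine congrArg _ (Finset.sum_congr rfl fun q _ => ?_)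
  rw [Finset.sum_congr rfl (g := fun _ => (θ : X → ℂ) (q.out.1 x)), Finset.sum_const, Finset.card_univ, nsmul_eq_mul,
    Nat.card_eq_fintype_card]
  rintro ⟨n, y, hy⟩ -
  change (θ : X → ℂ) (q.out.1 (n.1 x)) = _
  rw [← show MulAut.conj y = n.1 from hy, MulAut.conj_apply, map_mul, map_mul, map_inv]
  exact (isCharacter_isClassFunction (isIrr_isCharacter θ.2)) _ _

end av

variable {p r : ℕ} [hp : Fact p.Prime] [hr : Fact r.Prime] {M : Ideal AlgInt} {X : Type} [Group X] [Finite X]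
  {Γ : Subgroup (MulAut X)} {b : Set (IrrCharacter X)} {D : Subgroup X} {S : Type} [Group S] {σ : X →* S}

/-- the members of maximal defect -/
theorem mem_of (H : Hyp p M Γ b D σ) (h : RegTriv p (D.map σ)) {χ ψ : IrrCharacter X} (hψ : ψ ∈ b)
    (ho : T.Ov σ χ ψ) (hT : _root_.Cfsg.Agent.BZ.T.Top p M (χ : X → ℂ)) : χ ∈ b := by
  have := H.hM.2.1.isPrime
  obtain ⟨φ, h1, h2⟩ := (C5.cex H).max_of_rt H.hM H.hb H.hD h
  exact Basic.isPBlock_mem_of_sameBlock H.hb hψ ((C5.cex H).same H.hM ⟨_, H.pg.map σ, h⟩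
    ⟨φ, Basic.isPBlock_sameBlock H.hb hψ h1, h2⟩ hT ho.symm)

/-- the sum of the squares of the degrees -/
theorem sum_sq (hs : Function.Surjective σ) (hc : σ.ker ≤ center X) (ψ : IrrCharacter X) :
    ∑ χ ∈ Ir σ ψ.1, charDegree χ.1 ^ 2 = Nat.card S := by
  have hg : T.Gd σ (σ 1) := T.gd_of_coprime hc (n := 1) (by rw [map_one, one_pow]) (Nat.coprime_one_left _)
  have h3 := col_gd hc ψ hg
  rw [hg.card hs, map_one, (centralizer_eq_top_iff_subset (s := {1})).2 (Set.singleton_subset_iff.2 (one_mem _)),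
    card_top, Nat.cast_mul, mul_right_inj' (Nat.cast_ne_zero.2 Nat.card_pos.ne')] at h3
  exact Nat.cast_injective (R := ℂ) (by
    rw [← h3, Nat.cast_sum]
    exact Finset.sum_congr rfl fun χ _ => by rw [Basic.irr_one_eq_charDegree χ.2, map_natCast, Nat.cast_pow, sq])

/-- the central character -/
theorem exists_nu (hc : σ.ker ≤ center X) (ψ : IrrCharacter X) : ∃ ν : σ.ker →* ℂˣ, Comp.Ov σ ν (ψ : X → ℂ) := by
  have h0 := isIrr_apply_one_ne_zero ψ.2
  refine ⟨MonoidHom.toHomUnits ⟨⟨fun z => (ψ : X → ℂ) z / (ψ : X → ℂ) 1, div_self h0⟩, fun y z => ?_⟩, fun z => ?_⟩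
  · change (ψ : X → ℂ) (y * z) / _ = (ψ : X → ℂ) y / _ * ((ψ : X → ℂ) z / _)
    rw [cen_mul ψ.2 (hc z.2)]
    ring
  · exact (div_mul_cancel₀ _ h0).symm

/-- **the companion of the Steinberg character** -/
theorem exists_st (H : Hyp p M Γ b D σ) (hZ : IsPGroup r (center X)) (hS : IsLieTypeChar r S) (hpr : p ≠ r)
    (h : RegTriv p (D.map σ)) : ∃ θ ∈ b, charDegree (θ : X → ℂ) = r ^ (Nat.card S).factorization r ∧
      (∀ α ∈ Γ, ∀ x, (θ : X → ℂ) (α x) = (θ : X → ℂ) x) ∧ ∀ x, ¬ r ∣ orderOf x →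
        ∃ ε : ℤ, (θ : X → ℂ) x = (ε * r ^ (Nat.card (centralizer ({σ x} : Set S))).factorization r : ℤ) ∧ ε ∣ 1 := by
  have := Finite.of_surjective σ H.surj
  have hE : Comp.Ext r σ := ⟨H.surj, H.ker.le, H.ker ▸ hZ⟩
  obtain ⟨ψ, h1, -⟩ := (C5.cex H).max_of_rt H.hM H.hb H.hD h
  obtain ⟨ν, o⟩ := exists_nu H.ker.le ψ
  obtain ⟨θ, o', h2⟩ := T2.st hE hS ν
  have := H400.LieSimple.isSimple_of_lie hS
  obtain ⟨φ, hφ, h3, h4⟩ := H330.GowSt.exists_st_of_hasSplit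
    (H330.Gow.hasSplit_of_ab (H716.SplitAb.hasSplitAb_of_lie hr.out hS))
  have h5 := (T2.reg_eq hE hS (φ := ⟨φ, hφ⟩) (Basic.charDegree_of_eq h3) h2).1
  refine ⟨θ, mem_of H h h1 (fun z hz => ?_) (top_of_not_dvd H.hM fun e => hpr
    ((Nat.prime_dvd_prime_iff_eq hp.out hr.out).1 (hp.out.dvd_of_dvd_pow (h2 ▸ e)))), h2, fun α hα x => ?_, fun x hx => ?_⟩
  · rw [o ⟨z, hz⟩, o' ⟨z, hz⟩, mul_div_cancel_right₀ _ (isIrr_apply_one_ne_zero ψ.2),
      mul_div_cancel_right₀ _ (isIrr_apply_one_ne_zero θ.2)]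
  · exact congrArg (fun χ : IrrCharacter X => (χ : X → ℂ) x) (T2.eq_of_deg hE hS
      (χ := ⟨_, isIrr_comp α.toMonoidHom α.surjective θ.2⟩) (fun z => by
        change (θ : X → ℂ) (α z) = _ * (θ : X → ℂ) (α 1)
        rw [H.sit.fix α hα z (H.ker.le z.2), map_one, o' z]) o' (Basic.charDegree_of_eq (by
        change (θ : X → ℂ) (α 1) = _
        rw [map_one, Basic.irr_one_eq_charDegree θ.2, h2])) h2)
  · rcases h4 (σ x) (Comp.reg_map hx) with e | e
    · exact ⟨1, by rw [h5 x hx]; exact e.trans (by push_cast; ring), dvd_rfl⟩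
    · exact ⟨-1, by rw [h5 x hx]; exact e.trans (by push_cast; ring), by decide⟩

/-- all degrees in the block are divisible by a large power of `r` -/
theorem dvd_deg (H : Hyp p M Γ b D σ) (hZ : IsPGroup r (center X)) (hS : IsLieTypeChar r S) (hpr : p ≠ r)
    (h : RegTriv p (D.map σ)) {x : X} (h1 : ¬ p ∣ orderOf x) (h2 : ¬ r ∣ orderOf x) {t c n : ℕ} (hA : Av Γ x t)
    (hc : ¬ r ^ (c + 1) ∣ t * Nat.card (centralizer ({σ x} : Set S))) (hn : r ^ (n + c) ∣ Nat.card S) {χ : IrrCharacter X}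
    (hχ : χ ∈ b) : r ^ n ∣ charDegree (χ : X → ℂ) := by
  have := Finite.of_surjective σ H.surj
  have := fin_aut (X := X)
  obtain ⟨θ, a1, a2, a3, a4⟩ := exists_st H hZ hS hpr h
  obtain ⟨ε, a5, a6⟩ := a4 x h2
  obtain ⟨A, a7, a8⟩ := hA χ
  have h3 := congrArg (HMul.hMul (t : ℂ)) (H.one χ hχ θ a1 x h1)
  rw [← mul_assoc, a8, sum_const fun α hα => a3 α hα x, a5, Basic.irr_one_eq_charDegree θ.2, a2,
    Basic.irr_one_eq_charDegree χ.2] at h3
  have h4 := CharactersDeep.RChar.dvd_of_isIntegral (p := r ^ (Nat.card S).factorization r) (pow_ne_zero _ hr.out.ne_zero)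
    (m := ε * (t * r ^ (Nat.card (centralizer ({σ x} : Set S))).factorization r * charDegree (χ : X → ℂ) : ℕ)) a7
    (mul_left_cancel₀ (a := (Nat.card Γ : ℂ)) (Nat.cast_ne_zero.2 Nat.card_pos.ne') (by
      push_cast at h3 ⊢
      linear_combination -h3))
  rw [(isUnit_of_dvd_one a6).dvd_mul_left, Int.natCast_dvd_natCast] at h4
  have h5 : t ≠ 0 := by
    rintro rfl
    exact hc (by rw [zero_mul]; exact dvd_zero _)
  have h6 := (hr.out.pow_dvd_iff_le_factorization Nat.card_pos.ne').1 hn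
  have h7 := mt (hr.out.pow_dvd_iff_le_factorization (mul_ne_zero h5 Nat.card_pos.ne')).2 hc
  have h8 := (Basic.charDegree_pos χ.2).ne'
  have h9 := pow_ne_zero ((Nat.card (centralizer ({σ x} : Set S))).factorization r) hr.out.ne_zero
  have h10 := (hr.out.pow_dvd_iff_le_factorization (mul_ne_zero (mul_ne_zero h5 h9) h8)).1 h4
  rw [Nat.factorization_mul h5 Nat.card_pos.ne', Finsupp.add_apply] at h7
  rw [Nat.factorization_mul (mul_ne_zero h5 h9) h8, Nat.factorization_mul h5 h9, Finsupp.add_apply, Finsupp.add_apply,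
    Nat.factorization_pow_self hr.out] at h10
  exact (hr.out.pow_dvd_iff_le_factorization h8).2 (by omega)

/-- the count -/
theorem count (H : Hyp p M Γ b D σ) {d : ℕ} (hR : RB p d S) (hd : p ^ d ∣ Nat.card D) {m f e : ℕ} (hm : ¬ p ∣ m)
    (h1 : ∀ χ ∈ b, m ∣ charDegree (χ : X → ℂ)) (hf : p ^ (f + d) ∣ Nat.card S) (he : p ^ e ∣ Nat.card S)
    (hef : e ≤ 2 * (f + 1)) : p ^ e * m ^ 2 ≤ Nat.card S := by
  classical
  have := Finite.of_surjective σ H.surj
  have := H.hM.2.1.isPrime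
  have h := hR _ (C5.locB H) ((C5.cex H).dvd_map hd)
  obtain ⟨ψ, h2, -⟩ := (C5.cex H).max_of_rt H.hM H.hb H.hD h
  have h3 := sum_sq H.surj H.ker.le ψ
  rw [← Finset.sum_filter_add_sum_filter_not _ (· ∈ b)] at h3
  have h4 : p ^ e ∣ ∑ χ ∈ (Ir σ ψ.1).filter (· ∉ b), charDegree χ.1 ^ 2 := Finset.dvd_sum fun χ hχ => by
    obtain ⟨a1, a2⟩ := Finset.mem_filter.1 hχ
    have a3 := mt (fun e => mem_of H h h2 (mem_Ir.1 a1) (hR.top (C5.cex H) H.hM χ e)) a2
    have a4 := (hp.out.pow_dvd_iff_le_factorization Nat.card_pos.ne').1 hf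
    refine (pow_dvd_pow p hef).trans ?_
    rw [mul_comm, pow_mul]
    exact pow_dvd_pow_of_dvd ((hp.out.pow_dvd_iff_le_factorization (Basic.charDegree_pos χ.2).ne').2 (by omega)) 2
  have h5 : m ^ 2 ∣ ∑ χ ∈ (Ir σ ψ.1).filter (· ∈ b), charDegree χ.1 ^ 2 := Finset.dvd_sum fun χ hχ =>
    pow_dvd_pow_of_dvd (h1 χ (Finset.mem_filter.1 hχ).2) 2
  have h6 := (Nat.dvd_add_left h4).1 (h3 ▸ he)
  have h7 : 0 < ∑ χ ∈ (Ir σ ψ.1).filter (· ∈ b), charDegree χ.1 ^ 2 := Finset.sum_pos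
    (fun χ _ => pow_pos (Basic.charDegree_pos χ.2) 2) ⟨ψ, Finset.mem_filter.2 ⟨mem_Ir.2 fun _ _ => rfl, h2⟩⟩
  exact (Nat.le_of_dvd h7 (Nat.Coprime.mul_dvd_of_dvd_of_dvd
    (Nat.Coprime.pow _ _ (hp.out.coprime_iff_not_dvd.2 hm)) h6 h5)).trans (h3 ▸ Nat.le_add_right _ _)

/-- a lift of the same order -/
theorem exists_lift (H : Hyp p M Γ b D σ) (hZ : IsPGroup r (center X)) {w : S} (h : ¬ r ∣ orderOf w) :
    ∃ x, σ x = w ∧ orderOf x = orderOf w := by
  obtain ⟨k, rfl⟩ := H.surj w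
  obtain ⟨z, s, hs, rfl⟩ := Comp.dec h
  refine ⟨s, (Comp.map_mul_ker z s).symm, ?_⟩
  rw [Comp.map_mul_ker]
  refine Nat.dvd_antisymm (orderOf_dvd_of_pow_eq_one ?_) (orderOf_map_dvd σ s)
  have h1 : s ^ orderOf (σ s) ∈ center X := by
    rw [← H.ker, MonoidHom.mem_ker, map_pow, pow_orderOf_eq_one]
  obtain ⟨j, hj⟩ := hZ ⟨_, h1⟩
  exact orderOf_eq_one_iff.1 (Nat.eq_one_of_dvd_coprimes (Nat.Coprime.pow_left j (hr.out.coprime_iff_not_dvd.2 hs))
    (orderOf_dvd_of_pow_eq_one (congrArg Subtype.val hj)) (orderOf_pow_dvd _))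

/-- the class is determined by the order -/
theorem av_od (H : Hyp p M Γ b D σ) (hZ : IsPGroup r (center X)) {x : X} (h : ¬ r ∣ orderOf x)
    (hw : ∀ y, orderOf y = orderOf (σ x) → IsConj (σ x) y) : Av Γ x 1 :=
  av_one fun α _ => by
    obtain ⟨φ, hφ⟩ := Lo.Idx.exists_bar H.surj H.ker
    obtain ⟨c, hc⟩ := isConj_iff.1 (hw _ ((φ α).orderOf_eq (σ x)))
    obtain ⟨c, rfl⟩ := H.surj c
    have h1 : (c * x * c⁻¹)⁻¹ * α x ∈ center X := by
      rw [← H.ker, MonoidHom.mem_ker, map_mul, map_inv, map_mul, map_mul, map_inv, hc, hφ, inv_mul_cancel]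
    obtain ⟨j, hj⟩ := hZ ⟨_, h1⟩
    have h2 : (c * x * c⁻¹ * ((c * x * c⁻¹)⁻¹ * α x)) ^ orderOf x = 1 := by
      rw [mul_inv_cancel_left, ← map_pow, pow_orderOf_eq_one, map_one]
    rw [Commute.mul_pow (mem_center_iff.1 h1 _), conj_pow, pow_orderOf_eq_one, mul_one, mul_inv_cancel, one_mul] at h2
    exact isConj_iff.2 ⟨c, inv_mul_eq_one.1 (orderOf_eq_one_iff.1 (Nat.eq_one_of_dvd_coprimes
      (Nat.Coprime.pow_left j (hr.out.coprime_iff_not_dvd.2 h)) (orderOf_dvd_of_pow_eq_one (congrArg Subtype.val hj))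
      (orderOf_dvd_of_pow_eq_one h2)))⟩

/-- **the degrees are too large** -/
theorem no_st (H : Hyp p M Γ b D σ) (hZ : IsPGroup r (center X)) (hS : IsLieTypeChar r S) (hpr : p ≠ r) {d : ℕ}
    (hR : RB p d S) (hd : p ^ d ∣ Nat.card D) {w : S} (h1 : ¬ p ∣ orderOf w) (h2 : ¬ r ∣ orderOf w) {t : ℕ}
    (ht : (Inn X).relIndex Γ ∣ t ∨ ∀ y, orderOf y = orderOf w → IsConj w y) (c n f e : ℕ) {N : ℕ} (hN : Nat.card S = N)
    (hc : ¬ r ^ (c + 1) ∣ t * Nat.card (centralizer ({w} : Set S))) (hn : r ^ (n + c) ∣ N) (hf : p ^ (f + d) ∣ N)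
    (he : p ^ e ∣ N) (hef : e ≤ 2 * (f + 1)) (hlt : N < p ^ e * (r ^ n) ^ 2) : False := by
  subst hN
  obtain ⟨x, rfl, hx⟩ := exists_lift H hZ h2
  exact (count H hR hd (fun e => hpr ((Nat.prime_dvd_prime_iff_eq hp.out hr.out).1 (hp.out.dvd_of_dvd_pow e)))
    (fun χ => dvd_deg H hZ hS hpr (hR _ (C5.locB H) ((C5.cex H).dvd_map hd)) (hx ▸ h1) (hx ▸ h2)
      (ht.elim (av_idx x).mono fun e => (av_od H hZ (hx ▸ h2) e).mono (one_dvd t)) hc hn) hf he hef).not_gt hlt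

end Cfsg.Agent.OM.XA
end

-- part: OM/Xc/B/Tool
section
/-!
# OM (S4894), exceptional covers: tools (helper74)

* `card_cen`, `rt`, `mem` : the centre, the local data, the members of `b`;
* `sq`, `no_small`, `col` : the sum of the squares of the degrees;
* `rb_of_cp` : Sylow subgroups; `idx_three` : three covers which are permuted by the automorphisms.
-/

set_option autoImplicit false
set_option linter.unusedSectionVars false

namespace Cfsg.Agent.OM.XB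

open Cfsg Subgroup Cfsg.Agent.OM.Lo Cfsg.Agent.BZ.T Cfsg.Agent.BHZ.Spor Cfsg.Agent.Characters.Core Cfsg.Agent.Blocks
open Cfsg.Agent.BZ.X (RB)
open Cfsg.Agent.BZ.C2 (Fd)
open Cfsg.Agent.OM.C2 (ce Dg mem_of_top)

variable {p : ℕ} [hp : Fact p.Prime] {M : Ideal AlgInt} {X : Type} [Group X] [Finite X] {Γ : Subgroup (MulAut X)}
  {b : Set (IrrCharacter X)} {D : Subgroup X} {S : Type} [Group S] {σ : X →* S} {d : ℕ}

/-- the order of the centre divides the exponent of the multiplier -/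
theorem card_cen (H : Hyp p M Γ b D σ) {A : Type} [CommGroup A] (hA : HasSchurMultiplier S A) {m : ℕ}
    (hm : ∀ a : A, a ^ m = 1) : Nat.card (center X) ∣ m := by
  obtain ⟨f, hf⟩ := H95.StemCover.exists_surj_ker hA H.sit.qs.1.commutator_eq_top σ H.surj H.ker.le
  have hc : IsCyclic σ.ker := H.ker ▸ H.sit.cyc
  rw [← H.ker, ← IsCyclic.exponent_eq_card]
  refine Monoid.exponent_dvd_of_forall_pow_eq_one fun g => ?_
  obtain ⟨a, rfl⟩ := hf g
  rw [← map_pow, hm, map_one]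

theorem rt (H : Hyp p M Γ b D σ) (h : RB p d S) (hd : p ^ d ∣ Nat.card D) : RegTriv p (D.map σ) :=
  h _ ((locB_of_block H.hM H.hb H.hD).quot σ H.surj H.ker.le) ((ce H).dvd_map hd)

theorem mem (H : Hyp p M Γ b D σ) (h : RB p d S) (hd : p ^ d ∣ Nat.card D) {n : ℕ} (hn : Fd X n) (a : ℕ)
    (h2 : ¬ p ^ (a + 1) ∣ n) (h4 : p ^ (a + d) ∣ Nat.card S) : Dg b n := by
  have := Finite.of_surjective σ H.surj
  obtain ⟨χ, hf, rfl⟩ := hn
  obtain ⟨m, hm, h3⟩ := mem_of_top H (rt H h hd) χ hf (h.top (ce H) H.hM χ (by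
    have h5 := (hp.out.pow_dvd_iff_le_factorization Nat.card_pos.ne').1 h4
    have h6 := mt (hp.out.pow_dvd_iff_le_factorization (Basic.charDegree_pos χ.2).ne').2 h2
    omega))
  exact ⟨_, h3, gal_deg hm χ⟩

/-- the companion of the Steinberg character -/
theorem mem_st (H : Hyp p M Γ b D σ) (h : RB p d S) (hd : p ^ d ∣ Nat.card D) {r : ℕ} [hr : Fact r.Prime]
    (hS : IsLieTypeChar r S) (hc : Nat.card (center X) = r) {a : ℕ} (ha : (Nat.card S).factorization r = a) :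
    Dg b (r ^ a) := by
  obtain ⟨_, rfl, h1⟩ := BZ.X.T2.dg_st hS X σ H.sit.qs H.surj H.ker hc
  exact ha ▸ C2.mem0 H (rt H h hd) h1 fun e => H.sit.ndvd (hc ▸ hp.out.dvd_of_dvd_pow e)

/-- the sum of the squares of the degrees in `b` -/
theorem sq (H : Hyp p M Γ b D σ) {F : Finset (IrrCharacter X)} (hF : ∀ χ, χ ∈ F ↔ χ ∈ b) : ∃ n l : ℕ,
    l ∣ (Inn X).relIndex Γ ∧ ¬ p ∣ l ∧ (∀ χ ∈ b, n ∣ charDegree (χ : X → ℂ)) ∧
      ∑ χ ∈ F, charDegree (χ : X → ℂ) ^ 2 = n ^ 2 * (l * Nat.card D) := by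
  obtain ⟨l, d, φ, h⟩ := boxDec p M H.hM X Γ H.sit.inn b D H.hb H.hD H.one
  obtain ⟨n, -, -, h1⟩ := h.degree H.hM.1
  refine ⟨n, l, h.dvd, h.ndvd, fun χ hχ => h1 χ hχ ▸ dvd_mul_right _ _, ?_⟩
  have h2 : ∀ i, ∑ χ ∈ F, d χ i * ∑ j, d χ j = Nat.card D := fun i => by
    rw [← h.row i, show b = (F : Set (IrrCharacter X)) from Set.ext fun χ => (hF χ).symm, finsum_mem_coe_finset]
  rw [show l * Nat.card D = ∑ i : Fin l, ∑ χ ∈ F, d χ i * ∑ j, d χ j by simp only [h2, _root_.Finset.sum_const, _root_.Finset.card_univ, _root_.Fintype.card_fin, _root_.smul_eq_mul], Finset.sum_comm, Finset.mul_sum]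
  exact Finset.sum_congr rfl fun χ hχ => by rw [h1 χ ((hF χ).1 hχ), ← Finset.sum_mul, mul_pow, pow_two (∑ j, _)]

/-- a large and a small degree -/
theorem no_small (H : Hyp p M Γ b D σ) {m n t N : ℕ} (h1 : Dg b m) (h2 : Dg b n) (ht : (Inn X).relIndex Γ ∣ t)
    (h0 : 0 < t) (hN : Nat.card D ≤ N) (h : n ^ 2 * (t * N) < m ^ 2) : False := by
  have := finite_irr (G := X)
  obtain ⟨k, l, h3, -, h4, h5⟩ := sq H (F := b.toFinite.toFinset) fun _ => b.toFinite.mem_toFinset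
  obtain ⟨χ, h6, rfl⟩ := h1
  obtain ⟨ψ, h7, rfl⟩ := h2
  refine h.not_ge ((Finset.single_le_sum (f := fun χ : IrrCharacter X => charDegree (χ : X → ℂ) ^ 2)
    (fun _ _ => Nat.zero_le _) (b.toFinite.mem_toFinset.2 h6)).trans (h5.le.trans ?_))
  exact Nat.mul_le_mul (Nat.pow_le_pow_left (Nat.le_of_dvd (Basic.charDegree_pos ψ.2) (h4 ψ h7)) 2)
    (Nat.mul_le_mul (Nat.le_of_dvd h0 (h3.trans ht)) hN)

theorem sum_Ir (hs : Function.Surjective σ) (hc : σ.ker ≤ center X) (ψ : IrrCharacter X) :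
    ∑ χ ∈ Ir σ ψ.1, charDegree χ.1 ^ 2 = Nat.card S := by
  have hg : BZ.T.Gd σ (σ 1) := BZ.T.gd_of_coprime hc (n := 1) (by rw [map_one, one_pow]) (Nat.coprime_one_left _)
  have h3 := col_gd hc ψ hg
  rw [hg.card hs, map_one, (centralizer_eq_top_iff_subset (s := {1})).2 (Set.singleton_subset_iff.2 (one_mem _)),
    card_top, Nat.cast_mul, mul_right_inj' (Nat.cast_ne_zero.2 Nat.card_pos.ne')] at h3
  exact Nat.cast_injective (R := ℂ) (by
    rw [← h3, Nat.cast_sum]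
    exact Finset.sum_congr rfl fun χ _ => by rw [Basic.irr_one_eq_charDegree χ.2, map_natCast, Nat.cast_pow, pow_two])

/-- **the sum over all characters with the central character of `b`** -/
theorem col (H : Hyp p M Γ b D σ) (h : RB p d S) (hd : p ^ d ∣ Nat.card D) {a e N : ℕ} (hS : Nat.card S = p ^ a * N)
    (hN : ¬ p ∣ N) (he : e + d ≤ a + 1) :
    ∃ n l c : ℕ, l ∣ (Inn X).relIndex Γ ∧ ¬ p ∣ l ∧ p ^ a * N = n ^ 2 * (l * p ^ a) + p ^ (2 * e) * c := by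
  classical
  have := finite_irr (G := X)
  have := Local.isPrime_of_isPModular H.hM
  have hr := rt H h hd
  obtain ⟨n, l, h3, h4, -, h5⟩ := sq H (F := b.toFinite.toFinset) fun _ => b.toFinite.mem_toFinset
  obtain ⟨ψ, h6, h7⟩ := (ce H).max_of_rt H.hM H.hb H.hD hr
  have h8 : (Nat.card S).factorization p = a := by
    rw [hS, Nat.factorization_mul (pow_pos hp.out.pos a).ne' (fun e : N = 0 => hN (e ▸ dvd_zero p)), Finsupp.add_apply,
      Nat.factorization_eq_zero_of_not_dvd hN, hp.out.factorization_pow, Finsupp.single_eq_same, add_zero]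
  have h9 : Nat.card D = p ^ a := by
    obtain ⟨P, rfl⟩ := (ce H).syl_of_rt H.hM H.hb H.hD hr
    have := Finite.of_surjective σ H.surj
    rw [P.card_eq_multiplicity, H.card_eq, Nat.factorization_mul Nat.card_pos.ne' Nat.card_pos.ne', Finsupp.add_apply,
      Nat.factorization_eq_zero_of_not_dvd H.sit.ndvd, h8, add_zero]
  have h10 : b.toFinite.toFinset ⊆ Ir σ ψ.1 := fun χ hχ =>
    mem_Ir.2 ((ce H).ov H.hM χ.2 ψ.2 (Basic.isPBlock_sameBlock H.hb (b.toFinite.mem_toFinset.1 hχ) h6))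
  obtain ⟨c, hc⟩ : p ^ (2 * e) ∣ ∑ χ ∈ Ir σ ψ.1 \ b.toFinite.toFinset, charDegree χ.1 ^ 2 := Finset.dvd_sum fun χ hχ => by
    obtain ⟨h1, h2⟩ := Finset.mem_sdiff.1 hχ
    rw [mul_comm, pow_mul]
    refine pow_dvd_pow_of_dvd ((hp.out.pow_dvd_iff_le_factorization (Basic.charDegree_pos χ.2).ne').2 ?_) 2
    have h11 := mt (fun e => b.toFinite.mem_toFinset.2 (Basic.isPBlock_mem_of_sameBlock H.hb h6 ((ce H).same H.hM
      ⟨_, H.pg.map σ, hr⟩ (top_of_not_dvd H.hM h7) (h.top (ce H) H.hM χ e) (mem_Ir.1 h1).symm))) h2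
    omega
  exact ⟨n, l, c, h3, h4, by rw [← hS, ← sum_Ir H.surj H.ker.le ψ, ← Finset.sum_sdiff h10, hc, h5, h9, add_comm]⟩

/-- Sylow subgroups -/
theorem rb_of_cp [Finite S] (h : CP p S) (hS : ¬ p ^ (d + 1) ∣ Nat.card S) : RB p d S := fun D hD h1 r h2 h3 => by
  obtain ⟨U, h4, h5⟩ := h
  obtain ⟨P, hP⟩ := hD.pg.exists_le_sylow
  obtain ⟨Q, hQ⟩ := h4.exists_le_sylow
  obtain ⟨g, rfl⟩ := MulAction.exists_smul_eq S Q P
  have h6 : D = (g • Q : Sylow p S) := eq_of_le_of_card_ge hP (Nat.le_of_dvd Nat.card_pos (dvd_trans (by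
    rw [Sylow.card_eq_multiplicity]
    exact pow_dvd_pow p (not_lt.1 (mt (hp.out.pow_dvd_iff_le_factorization Nat.card_pos.ne').2 hS))) h1))
  have h7 := h5 (g⁻¹ * r * g) (fun u hu => by
    have h7 := h2 (g * u * g⁻¹) (h6 ▸ ⟨u, hQ hu, rfl⟩)
    calc u * (g⁻¹ * r * g) = g⁻¹ * (g * u * g⁻¹ * r) * g := by group
      _ = _ := by rw [h7.eq]; group) (by
    rwa [show g⁻¹ * r * g = MulAut.conj g⁻¹ r by simp only [_root_.map_inv, _root_.MulAut.inv_apply, _root_.MulAut.conj_symm_apply], MulEquiv.orderOf_eq])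
  calc r = g * (g⁻¹ * r * g) * g⁻¹ := by group
    _ = 1 := by rw [h7]; group

/-- **three covers** which are permuted by the automorphisms of `S` -/
theorem idx_three [Finite S] (hX : commutator X = ⊤) (hs : Function.Surjective σ) (hk : σ.ker = center X) {U : Type}
    [Group U] (hU : commutator U = ⊤) {θ : U →* S} (hθ : Function.Surjective θ) {m : ℕ} (f : Fin m → U →* X)
    (h1 : ∀ i, Function.Surjective (f i)) (h2 : ∀ i, θ.ker ≤ (σ.comp (f i)).ker)
    (h3 : ∀ i j, (f i).ker = (f j).ker → i = j) : (Inn X).index * m ≤ Nat.card (Out S) := by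
  obtain ⟨φ, hφ⟩ := Idx.exists_bar hs hk
  have h4 : Inn X = ((QuotientGroup.mk' (Inn S)).comp φ).ker := by
    ext α
    rw [MonoidHom.mem_ker, MonoidHom.comp_apply, QuotientGroup.mk'_apply, QuotientGroup.eq_one_iff]
    refine ⟨?_, ?_⟩
    · rintro ⟨y, rfl⟩
      exact ⟨σ y, MulEquiv.ext fun s => by obtain ⟨x, rfl⟩ := hs s; simp only [hφ, _root_.MulAut.conj_apply, _root_.map_mul, _root_.map_inv]⟩
    · rintro ⟨s, h⟩
      obtain ⟨y, rfl⟩ := hs s
      refine ⟨y, inv_mul_eq_one.1 (Idx.eq_one hX fun x => ?_)⟩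
      have h2 := hφ α x
      rw [← hk, MonoidHom.mem_ker]
      simp only [← h2, ← h, mul_assoc, _root_.MulAut.mul_apply, _root_.MulAut.inv_apply, _root_.MulAut.conj_symm_apply, _root_.map_mul, _root_.map_inv, _root_.MulAut.conj_apply, _root_.inv_mul_cancel, _root_.mul_one, _root_.inv_mul_cancel_left]
  have h5 : ∀ i, ∃ β : MulAut S, ∀ u, β (θ u) = σ (f i u) := fun i => by
    have h5 := θ.liftOfRightInverse_comp_apply _ (Function.rightInverse_surjInv hθ) ⟨σ.comp (f i), h2 i⟩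
    exact ⟨MulEquiv.ofBijective _ (Finite.surjective_iff_bijective.1 fun s =>
      let ⟨u, hu⟩ := hs.comp (h1 i) s; ⟨θ u, (h5 u).trans hu⟩), h5⟩
  choose β hβ using h5
  rw [h4, index_ker, ← card_mul_index ((QuotientGroup.mk' (Inn S)).comp φ).range]
  refine Nat.mul_le_mul_left _ ((Nat.card_fin m).ge.trans (Nat.card_le_card_of_injective
    (fun i => (((QuotientGroup.mk' (Inn S) (β i))⁻¹ : Out S) : Out S ⧸ ((QuotientGroup.mk' (Inn S)).comp φ).range))
    fun i j e => h3 _ _ ?_))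
  obtain ⟨α, hα⟩ := QuotientGroup.eq.1 e
  rw [inv_inv, ← map_inv, ← map_mul, MonoidHom.comp_apply, QuotientGroup.mk'_apply, QuotientGroup.mk'_apply] at hα
  obtain ⟨s, h6⟩ := QuotientGroup.eq.1 hα
  obtain ⟨y, rfl⟩ := hs s
  have h7 : ∀ u, (f i u)⁻¹ * α (y * f j u * y⁻¹) ∈ center X := fun u => by
    have h7 := congrArg (fun γ : MulAut S => φ α (γ (β j (θ u)))) h6
    simp only [MulAut.mul_apply, MulAut.inv_apply, MulEquiv.apply_symm_apply, MulEquiv.symm_apply_apply,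
      MulAut.conj_apply] at h7
    rw [hβ, hβ] at h7
    rw [← hk, MonoidHom.mem_ker, map_mul, map_inv, ← hφ, map_mul σ, map_mul σ, map_inv σ, h7, inv_mul_cancel]
  have h8 : commutator U ≤ (f i).eqLocus ((α * MulAut.conj y).toMonoidHom.comp (f j)) := commutator_le.2 fun a _ c _ => by
    obtain ⟨z, hz, e1⟩ : ∃ z ∈ center X, (α * MulAut.conj y) (f j a) = f i a * z := ⟨_, h7 a, (mul_inv_cancel_left _ _).symm⟩
    obtain ⟨w, hw, e2⟩ : ∃ w ∈ center X, (α * MulAut.conj y) (f j c) = f i c * w := ⟨_, h7 c, (mul_inv_cancel_left _ _).symm⟩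
    change f i (a * c * a⁻¹ * c⁻¹) = (α * MulAut.conj y) (f j (a * c * a⁻¹ * c⁻¹))
    simp only [map_mul, map_inv, e1, e2]
    generalize f i a = a, f i c = c
    calc _ = a * (c * w * z⁻¹ * z) * (w⁻¹ * a⁻¹) * c⁻¹ := by group
      _ = a * (z * (c * w * z⁻¹)) * (a⁻¹ * w⁻¹) * c⁻¹ := by rw [mem_center_iff.1 hz, mem_center_iff.1 (inv_mem hw)]
      _ = _ := by group
  ext u
  have h9 : f i u = (α * MulAut.conj y) (f j u) := h8 (hU ▸ mem_top u)
  rw [MonoidHom.mem_ker, MonoidHom.mem_ker, h9, map_eq_one_iff _ (α * MulAut.conj y).injective]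

end Cfsg.Agent.OM.XB
end

-- part: OM/Lo/N5a
section
/-!
# OM (S4894): blocks of rank one with a non-cyclic defect group of order `25` (helper57)

* `N5a.rank_st`, `N5a.count` : the ranks of the subsections and the number of characters, defect groups of order `p ^ 2`;
* `N5a.sq_dvd` : the consequence of the descent;  `boxN5a`.
-/

set_option autoImplicit false
set_option linter.unusedSectionVars false

namespace Cfsg.Agent.OM.Lo

open Cfsg Subgroup MulAction Cfsg.Agent.TO Cfsg.Agent.TO.Cn Cfsg.Agent.KM.Tor Cfsg.Agent.H649 Cfsg.Agent.Blocks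
  Cfsg.Agent.Characters.Core Cfsg.Agent.H644.CentralQuot Cfsg.Agent.H652.DoubleCount

namespace N5a

variable {p : ℕ} [hp : Fact p.Prime] {M : Ideal AlgInt} {G : Type} [Group G] [Fintype G] {b : Set (IrrCharacter G)}
  {D : Subgroup G} {θ : G → ℂ} {z : G}

theorem rank_of (hb : b.Nonempty) (h : R1 p b) : blockRank p b = 1 := by
  obtain ⟨χ, hχ⟩ := hb
  have h1 : IsPRegular p (1 : G) := by rw [IsPRegular, orderOf_one]; exact hp.out.not_dvd_one
  rw [blockRank, show Submodule.span ℂ (_ '' b) = Submodule.span ℂ {pRegularPart p (χ : G → ℂ)} from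
    le_antisymm (Submodule.span_le.2 ?_) (Submodule.span_mono (Set.singleton_subset_iff.2 ⟨χ, hχ, rfl⟩))]
  · exact finrank_span_singleton fun e => isIrr_apply_one_ne_zero χ.2 ((if_pos h1).symm.trans (congrFun e 1))
  rintro _ ⟨ψ, hψ, rfl⟩
  refine Submodule.mem_span_singleton.2 ⟨(ψ : G → ℂ) 1 / (χ : G → ℂ) 1, funext fun x => ?_⟩
  by_cases hx : IsPRegular p x
  · refine (congrArg (_ * ·) (if_pos hx)).trans (Eq.trans ?_ (if_pos hx).symm)
    rw [div_mul_eq_mul_div, mul_comm, h χ hχ ψ hψ x hx, mul_div_cancel_right₀ _ (isIrr_apply_one_ne_zero χ.2)]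
  · exact (congrArg (_ * ·) (if_neg hx)).trans ((mul_zero _).trans (if_neg hx).symm)

theorem loc (h : Can p M b D θ) (hz : z ∈ D) {H : Subgroup G} (hH : H = Ce (zpowers z)) :
    ∃ c : Set (IrrCharacter H), IsInducedBlock M H c b ∧ Can p M c (D.subgroupOf H) (fun x => θ x) ∧
      blockRank p (bP p M ⟨D, Can.root M D θ⟩ z).2 = blockRank p c := by
  subst hH
  have := h.prime
  have hQ := zpowers_le.2 hz
  have hDQ : D ≤ Ce (zpowers z) := fun d hd => mem_centralizer_iff.2 fun q hq => h.comm q (hQ hq) d hd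
  obtain ⟨f, ⟨f1, f2⟩, -⟩ := S4655.result p M h.hM D _ _ h.hmax.1.1 hQ
  have f3 := (S4658.result p M h.hM D _ _ f h.hmax.1.1 ⟨h.pg.to_le hQ, f1⟩ f2 b h.hb).1 h.hmax.1
  obtain ⟨k, k1, k2⟩ := exists_locIdx_eq h.hM h.hmax.1.1 hDQ f2
  refine ⟨f, (isBrauerPairOf_iff_isInducedBlock h.hM h.hb f3.1.1 f1).1 f3, (Can.of_tst h.hM k1
    (H644.isDefectGroup_of_isMaximalBrauerPair h.hM (isMaximal_local h.hM h.hmax hDQ f2 k1))
    (fun d hd => (mem_Ce_sub hDQ d).2 (h.ab hd)) ?_ (fun d hd => h.triv d hd) fun g hg => ?_).1, ?_⟩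
  · rw [← locIdx_test, k2]
    exact h.tst
  · exact h.zero _ fun h1 => hg ((mem_Ce_sub hDQ g).2 h1)
  · rw [bP_eq h.hM (a := ⟨D, Can.root M D θ⟩) h.hmax.1.1 hz (b := ⟨zpowers z, f⟩) rfl f2]

theorem in_sub {H : Subgroup G} (hD : D ≤ H) (h0 : ∀ g, g ∉ H → θ g = 0) (t : H) :
    t ∈ In (D.subgroupOf H) (fun y => θ y) ↔ (t : G) ∈ In D θ := by
  have h1 : ∀ y : G, t * y * (t : G)⁻¹ ∈ H → y ∈ H := fun y hy => by
    simpa only [mul_assoc, _root_.inv_mul_cancel_left, _root_.inv_mul_cancel, _root_.mul_one] using mul_mem (mul_mem (inv_mem t.2) hy) t.2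
  refine ⟨fun h => mem_In.2 ⟨fun y => ⟨fun hy => ((mem_In.1 h).1 ⟨y, h1 y (hD hy)⟩).1 hy, fun hy => ((mem_In.1 h).1 ⟨y, hD hy⟩).2 hy⟩,
    fun g => ?_⟩, fun h => mem_In.2 ⟨fun y => (mem_In.1 h).1 y, fun g => (mem_In.1 h).2 g⟩⟩
  by_cases hg : g ∈ H
  · exact (mem_In.1 h).2 ⟨g, hg⟩
  · rw [h0 g hg, h0 _ fun e => hg (h1 g e)]

variable {c : Set (IrrCharacter (Cu z))}

/-- the rank of a subsection -/
theorem rank_st (h : Can p M b D θ) (hc : Nat.card D = p ^ 2) (hz : z ∈ D) (ho : orderOf z = p)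
    (k : Can p M c (D.subgroupOf (Cu z)) fun y => θ y) : blockRank p c = st D θ z ∧ st D θ z ∣ p - 1 := by
  have := Desc.uu_normal (u := z)
  have := Fintype.ofFinite (Cu z)
  have h1 : D ≤ Cu z := h.ab.trans (Ce_le_Cu hz)
  have h2 : IsPGroup p (Desc.Uu z) := IsPGroup.of_card (Desc.card_uu.trans (ho.trans (pow_one p).symm))
  obtain ⟨θ', k', e⟩ := Cy.quot_can k (boxCAN1 _ p M c _ _ k) Desc.uu_le h2
  have h3 : Nat.card ((D.subgroupOf (Cu z)).map (QuotientGroup.mk' (Desc.Uu z))) = p ^ 1 := by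
    have h4 := relIndex_mul_relIndex ⊥ (Desc.Uu z) (D.subgroupOf (Cu z)) bot_le fun y hy => zpowers_le.2 hz hy
    rw [relIndex_bot_left, relIndex_bot_left, Desc.card_uu, ho, Nat.card_congr (subgroupOfEquivOfLe h1).toEquiv, hc,
      ← QuotientGroup.ker_mk' (Desc.Uu z), relIndex_ker, sq] at h4
    rw [pow_one]
    exact Nat.eq_of_mul_eq_mul_left hp.out.pos h4
  have h4 : (Ce (D.subgroupOf (Cu z))).relIndex (In (D.subgroupOf (Cu z)) fun y => θ y) = st D θ z := by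
    rw [show Ce (D.subgroupOf (Cu z)) = (Ce D).subgroupOf (Cu z) from Subgroup.ext (mem_Ce_sub h1),
      show (In (D.subgroupOf (Cu z)) fun y => θ y) = (In D θ ⊓ Cu z).subgroupOf (Cu z) from Subgroup.ext fun t =>
        (in_sub h1 (fun g hg => h.zero g fun e => hg (Ce_le_Cu hz e)) t).trans (and_iff_left t.2).symm,
      relIndex_subgroupOf inf_le_right]
    rfl
  have h5 : IsCyclic ((D.subgroupOf (Cu z)).map (QuotientGroup.mk' (Desc.Uu z))) := isCyclic_of_prime_card (h3.trans (pow_one p))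
  exact ⟨(blockRank_defl h.hM Desc.uu_le h2 k.hb).symm.trans
      (S4695.result p M h.hM _ h5 1 le_rfl h3 _ k'.hb k'.hD _ k'.ind _ (Cy.mem_In_iff k') _ (e.trans h4)),
    (S4696.result p M h.hM _ h5 1 le_rfl h3 _ k'.hb k'.hD _ k'.ind _ (Cy.mem_In_iff k') _ (e.trans h4)).1⟩

/-- the stabiliser of the local block -/
theorem fus (h : Can p M b D θ) (hz : z ∈ D) (k : Can p M c (D.subgroupOf (Cu z)) fun y => θ y) (g : Desc.Nu z)
    (e : blkMap (Desc.ac z g) c = c) : ∃ s ∈ Cu z, s * g ∈ In D θ := by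
  obtain ⟨s, h1, h2⟩ := k.conj (e ▸ k.map (Desc.ac z g))
  have h3 : ∀ y : Cu z, ((s * Desc.ac z g y * s⁻¹ : Cu z) : G) = s * g * y * ((s : G) * g)⁻¹ := fun y => by
    rw [coe_mul, coe_mul, Desc.ac_coe, coe_inv]; group
  have h4 : D ≤ Cu z := h.ab.trans (Ce_le_Cu hz)
  have h5 := mem_normalizer_iff.1 (Desc.nu_le (mul_mem (Desc.cu_le s.2) g.2))
  have h6 : ∀ y : Cu z, (s : G) * g * y * ((s : G) * g)⁻¹ ∈ D ↔ (y : G) ∈ D := fun y => by
    rw [← h3, ← mem_subgroupOf, h1, mem_map_equiv, MulEquiv.symm_apply_apply, mem_subgroupOf]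
  refine ⟨s, s.2, mem_In.2 ⟨fun y => ⟨fun hy => (h6 ⟨y, (h5 y).2 (h4 hy)⟩).1 hy, fun hy => (h6 ⟨y, h4 hy⟩).2 hy⟩, fun y => ?_⟩⟩
  by_cases hy : y ∈ Cu z
  · have h8 := h2 (Desc.ac z g ⟨y, hy⟩)
    rwa [h3, MulEquiv.symm_apply_apply] at h8
  · rw [h.zero _ fun e => hy (Ce_le_Cu hz e), h.zero _ fun e => hy ((h5 y).2 (Ce_le_Cu hz e))]

attribute [local instance] Desc.ma

/-- **the consequence of the descent** -/
theorem sq_dvd (h : Can p M b D θ) (hR : R1 p b) (hc : Nat.card D = p ^ 2) (hz : z ∈ D) (ho : orderOf z = p) :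
    st D θ z ∣ p - 1 ∧ ∃ n, st D θ z ≤ n ∧ n ∣ p - 1 ∧ st D θ z * n ∣ (Ce D).relIndex (In D θ) := by
  have := h.prime
  have := Fintype.ofFinite (Cu z)
  have := Fintype.ofFinite (Desc.Nu z)
  have := Desc.uu_normal (u := z)
  have := finite_irr (G := Cu z)
  obtain ⟨c, hi, k⟩ := h.loc hz
  obtain ⟨h1, h2⟩ := rank_st h hc hz ho k
  obtain ⟨A, h3, h4, -, h5⟩ := Desc.cc h.hM h.hD hR hc ho hi
  rw [h1] at h4
  obtain ⟨ψ, hψ⟩ := Set.nonempty_of_ncard_ne_zero (h4.trans_ne (st_pos D θ z).ne')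
  have h6 : ∀ g : Desc.Nu z, (g : G) ∈ Cu z → ∀ ξ : IrrCharacter (Cu z), g • ξ = ξ := fun g hg ξ =>
    inv_smul_eq_iff.1 (Subtype.ext ((Desc.ma_inv g ξ).symm.trans (funext fun y => Basic.irr_conj ξ.2 y ⟨g, hg⟩))) |>.symm
  set N := (In D θ ⊓ Desc.Nu z).subgroupOf (Desc.Nu z)
  have h7 : ((Cu z).subgroupOf (Desc.Nu z)).relIndex N = (Cu z).relIndex (In D θ ⊓ Desc.Nu z) := relIndex_subgroupOf inf_le_right
  refine ⟨h2, (Cu z).relIndex (In D θ ⊓ Desc.Nu z), ?_, ?_, ?_⟩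
  · rw [← h4, ← h7]
    refine (Set.ncard_le_ncard (t := orbit N ψ) fun ψ' hψ' => ?_).trans ?_
    · obtain ⟨g, rfl⟩ := h5 ψ hψ ψ' hψ'
      obtain ⟨s, h8, h9⟩ := fus h hz k g (Basic.isPBlock_eq_of_mem (isPBlock_blkMap k.hb) k.hb ⟨ψ, h3 hψ, rfl⟩ (h3 hψ'))
      exact ⟨⟨(⟨s, Desc.cu_le h8⟩ * g :), h9, mul_mem (Desc.cu_le h8) g.2⟩, (mul_smul _ g ψ).trans (h6 _ h8 _)⟩
    · rw [← index_stabilizer]
      exact Nat.le_of_dvd (Nat.pos_of_ne_zero index_ne_zero_of_finite) (index_dvd_of_le fun g hg => h6 g hg ψ)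
  · have := normal_subgroupOf_of_le_normalizer (Desc.nu_le (u := z))
    obtain ⟨e, h8, h9⟩ := H904.SylOne.card_nc (P := zpowers z) ((Nat.card_zpowers z).trans ho)
    rw [show centralizer (zpowers z : Set G) = Cu z from (Cu_eq z).symm, ← card_mul_relIndex (Desc.cu_le (u := z))] at h9
    rw [← h7]
    exact (relIndex_dvd_index_of_normal _ _).trans (Nat.eq_of_mul_eq_mul_left Nat.card_pos h9 ▸ h8 :)
  · rw [← inf_relIndex_right (Cu z), inf_left_comm, inf_of_le_left (Desc.cu_le (u := z)), st,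
      relIndex_mul_relIndex _ _ _ (le_inf (Ce_le_In h) (Ce_le_Cu hz)) (inf_le_inf_left _ Desc.cu_le)]
    exact Dvd.intro _ (relIndex_mul_relIndex _ _ _ (le_inf (Ce_le_In h) ((Ce_le_Cu hz).trans Desc.cu_le)) inf_le_left)

variable [Fintype D] [DecidableEq D]

/-- **the number of characters** -/
theorem count (h : Can p M b D θ) (hc : Nat.card D = p ^ 2) (ho : ∀ z ∈ D, z ≠ 1 → orderOf z = p) :
    (Ce D).relIndex (In D θ) * Nat.card b =
      (Ce D).relIndex (In D θ) * blockRank p b + ∑ z ∈ Finset.univ.erase (1 : D), st D θ z * st D θ z := by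
  have := h.prime
  have h1 := H645.TraceForm.card_eq h.hM (a := ⟨D, Can.root M D θ⟩) h.hmax
    (H645.FusCount.ctrl_of_abelian h.hM (a := ⟨D, Can.root M D θ⟩) h.hmax h.comm)
  rw [show H645.FusCount.stab ⟨D, Can.root M D θ⟩ = In D θ from
      Subgroup.ext fun x => (conjIdx_eq_iff h.he x).trans (h.mem_In_iff x).symm,
    eq_inv_mul_iff_mul_eq₀ card_ne_zero_complex, ← Finset.add_sum_erase _ _ (Finset.mem_univ (1 : D)),
    H645.Watanabe.rank_eq h.hM (a := ⟨D, Can.root M D θ⟩) h.hmax h.comm (1 : D).2 fun t _ => by simp,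
    Finset.sum_congr rfl fun (z : D) hz => by
      obtain ⟨c, -, k, e⟩ := loc h z.2 (Cu_eq (z : G))
      rw [e, (rank_st h hc z.2 (ho z z.2 fun e => Finset.ne_of_mem_erase hz (Subtype.ext e)) k).1, ← st_mul h z.2,
        Nat.cast_mul, mul_assoc], ← Finset.mul_sum,
    show In D θ ⊓ centralizer {((1 : D) : G)} = In D θ from
      inf_of_le_left fun x _ => mem_centralizer_singleton_iff.2 (by simp), ← card_mul_relIndex (Ce_le_In h), Nat.cast_mul,
    mul_assoc, mul_assoc, ← mul_add] at h1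
  exact_mod_cast mul_left_cancel₀ card_ne_zero_complex h1

/-- sums over the orbits -/
theorem dvd_sum (h : Can p M b D θ) (F : ℕ → ℕ) :
    (Ce D).relIndex (In D θ) ∣ ∑ z ∈ Finset.univ.erase (1 : D), st D θ z * F (st D θ z) := by
  classical
  let := act D θ
  have := Fintype.ofFinite (orbitRel.Quotient (In D θ) D)
  rw [← Finset.sum_fiberwise (g := fun z : D => (Quotient.mk'' z : orbitRel.Quotient (In D θ) D))]
  refine Finset.dvd_sum fun ω _ => ?_
  induction ω using Quotient.inductionOn' with | h x => ?_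
  have h1 : ∀ z : D, (Quotient.mk'' z : orbitRel.Quotient (In D θ) D) = Quotient.mk'' x ↔ z ∈ orbit (In D θ) x := fun z =>
    Quotient.eq''.trans orbitRel_apply
  have h2 := orb_st h x
  have h3 : 0 < Nat.card (orbit (In D θ) x) := Nat.card_pos_iff.2 ⟨⟨⟨x, mem_orbit_self x⟩⟩, inferInstance⟩
  have h4 : ∀ z ∈ orbit (In D θ) x, z = 1 ↔ x = 1 := by
    rintro _ ⟨t, rfl⟩
    exact EmbeddingLike.map_eq_one_iff (f := D.normalizerMonoidHom _)
  by_cases hx : x = 1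
  · rw [Finset.sum_eq_zero fun z hz => (Finset.ne_of_mem_erase (Finset.mem_filter.1 hz).1
      ((h4 z ((h1 z).1 (Finset.mem_filter.1 hz).2)).2 hx)).elim]
    exact dvd_zero _
  rw [Finset.sum_congr (s₂ := Finset.univ.filter (· ∈ orbit (In D θ) x)) (g := fun _ => st D θ x * F (st D θ x))
    (Finset.ext fun z => by
      rw [Finset.mem_filter, Finset.mem_filter, h1, Finset.mem_erase]
      exact and_congr_left fun hz => and_iff_right (mt (h4 z hz).1 hx))
    fun z hz => by rw [Nat.eq_of_mul_eq_mul_left h3 (show _ * st D θ z = _ * st D θ x by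
      rw [h2, ← orb_st h z, (orbit_eq_iff.2 (Finset.mem_filter.1 hz).2 :)])],
    Finset.sum_const, smul_eq_mul, ← h2, ← Fintype.card_subtype, ← Nat.card_eq_fintype_card, ← mul_assoc]
  exact dvd_mul_right _ _

theorem arith {ι : Type} (T : Finset ι) (e : ι → ℕ) {m k : ℕ} (hT : T.card = 24) (hk : k % 3 = 2)
    (h1 : ∀ i ∈ T, e i ∣ 4 ∧ ∃ n, e i ≤ n ∧ n ∣ 4 ∧ e i * n ∣ m) (h2 : m * k = m * 1 + ∑ i ∈ T, e i * e i)
    (h3 : ∀ F : ℕ → ℕ, m ∣ ∑ i ∈ T, e i * F (e i)) : k ≤ 5 := by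
  have h4 : ∀ x : ℕ, x ∣ 4 → x = 1 ∨ x = 2 ∨ x = 4 := fun x hx => by
    have := Nat.le_of_dvd (by norm_num) hx
    interval_cases x <;> omega
  obtain ⟨W, hW⟩ := h3 fun x => 4 / x
  obtain ⟨V, hV⟩ := h3 fun x => (x + 2 * (4 / x)) / 3
  rw [Finset.sum_congr rfl fun i hi => Nat.mul_div_cancel' (h1 i hi).1, Finset.sum_const, hT, smul_eq_mul] at hW
  have h5 : 3 * ∑ i ∈ T, e i * ((e i + 2 * (4 / e i)) / 3) = ∑ i ∈ T, e i * e i + ∑ _i ∈ T, 8 := by
    rw [Finset.mul_sum, ← Finset.sum_add_distrib]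
    exact Finset.sum_congr rfl fun i hi => by rcases h4 _ (h1 i hi).1 with h | h | h <;> rw [h] <;> rfl
  rw [hV, Finset.sum_const, hT, smul_eq_mul] at h5
  have h6 : 0 < m := Nat.pos_of_ne_zero (by rintro rfl; omega)
  have h7 : 3 * V + 1 = k + 2 * W := Nat.eq_of_mul_eq_mul_left h6 (by
    rw [mul_add, mul_add, mul_left_comm, h5, mul_left_comm, ← hW, h2]; ring)
  have h8 : m = 96 ∨ m = 24 ∨ m = 6 := by
    have h9 : W ≤ 96 := Nat.le_of_dvd (by norm_num) (Dvd.intro_left m hW.symm)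
    have h10 : W % 3 = 1 := by omega
    interval_cases W <;> (clear * - hW hk h7; omega)
  have h9 : 6 * ∑ i ∈ T, e i * e i ≤ ∑ _i ∈ T, m := by
    rw [Finset.mul_sum]
    refine Finset.sum_le_sum fun i hi => ?_
    obtain ⟨h9, n, h10, h11, h12⟩ := h1 i hi
    rcases h4 _ h9 with h | h | h <;> rcases h4 _ h11 with rfl | rfl | rfl <;> rw [h] at h10 h12 ⊢ <;> (clear * - h6 h8 h12 h10; omega)
  rw [Finset.sum_const, hT, smul_eq_mul] at h9
  rcases h8 with rfl | rfl | rfl <;> (clear * - h2 h9; omega)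

end N5a

open N5a

/-- **rank one, defect groups of order `25`** -/
theorem boxN5a : BoxN5a := fun M hM G _ _ B D hB hD hR hc hn n h1 h2 h3 => by
  classical
  have : Fact (Nat.Prime 5) := ⟨hM.1⟩
  have := hM.2.1.isPrime
  have := Fintype.ofFinite G
  have := Fintype.ofFinite D
  have := finite_irr (G := G)
  replace hc : Nat.card D = 5 ^ 2 := hc
  obtain ⟨θ, h⟩ := boxCAN0 G 5 M B D hM hB hD fun x hx y hy =>
    congrArg Subtype.val ((IsPGroup.isMulCommutative_of_card_eq_prime_sq hc).is_comm.comm ⟨y, hy⟩ ⟨x, hx⟩)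
  have ho : ∀ z ∈ D, z ≠ 1 → orderOf z = 5 := fun z hz e => by
    obtain ⟨i, h4, h5⟩ := (Nat.dvd_prime_pow hM.1).1 (hc ▸ _root_.orderOf_dvd_natCard (⟨z, hz⟩ : D))
    interval_cases i
    · exact (e (congrArg Subtype.val (orderOf_eq_one_iff.1 h5))).elim
    · exact (orderOf_coe (⟨z, hz⟩ : D)).trans h5
    · exact (hn (isCyclic_of_orderOf_eq_card _ (h5.trans hc.symm))).elim
  have hr := rank_of (Basic.isPBlock_nonempty hB) hR
  have h4 : Nat.card B % 3 = 2 := by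
    rw [finsum_mem_eq_finite_toFinset_sum _ B.toFinite] at h2
    have h5 : ∑ χ ∈ B.toFinite.toFinset, ((charDegree (χ : G → ℂ) / n) ^ 2 + if charDegree (χ : G → ℂ) = 3 * n then 1 else 0) ≡
        ∑ _χ ∈ B.toFinite.toFinset, 1 [MOD 3] := Nat.ModEq.sum fun χ hχ => by
      have h6 := h2 ▸ Finset.single_le_sum (f := fun χ : IrrCharacter G => (charDegree (χ : G → ℂ) / n) ^ 2)
        (fun _ _ => Nat.zero_le _) hχ
      have h7 := Basic.charDegree_pos χ.2
      obtain ⟨d, hd⟩ := h1 χ (B.toFinite.mem_toFinset.1 hχ)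
      have h8 : 0 < n := Nat.pos_of_ne_zero (by rintro rfl; omega)
      beta_reduce at h6
      rw [hd, Nat.mul_div_cancel_left _ h8] at h6 ⊢
      have h9 : d ≤ 5 := by nlinarith only [h6]
      rw [hd] at h7
      interval_cases d <;> split_ifs <;> first | decide | omega
    rw [Finset.sum_add_distrib, h2, ← Finset.card_filter, ← Finset.card_eq_sum_ones, ← Set.ncard_eq_toFinset_card,
      ← Set.ncard_coe_finset, Finset.coe_filter] at h5
    simp only [Set.Finite.mem_toFinset, h3] at h5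
    exact (Nat.card_coe_set_eq B).symm ▸ h5.symm
  have h5 := arith (Finset.univ.erase (1 : D)) (fun z => st D θ z)
    (by rw [Finset.card_erase_of_mem (Finset.mem_univ _), Finset.card_univ, ← Nat.card_eq_fintype_card, hc]; rfl) h4
    (fun z hz => sq_dvd h hR hc z.2 (ho z z.2 fun e => Finset.ne_of_mem_erase hz (Subtype.ext e))) (hr ▸ count h hc ho) (dvd_sum h)
  rcases h5.lt_or_eq with h6 | h6
  · have h7 := (S4648.result 5 M hM B hB D hD (by rintro rfl; simp at hc) hr (by omega)).2.2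
    omega
  · have h7 := S4608.result 5 M hM B hB D hD hr h6
    omega

end Cfsg.Agent.OM.Lo
end

-- part: OM/Lo/N5
section
/-!
# OM (S4894): defect groups of order `25` (helper43)
-/

set_option autoImplicit false
set_option linter.unusedSectionVars false
set_option maxHeartbeats 400000

namespace Cfsg.Agent.OM.Lo

open Cfsg Subgroup Cfsg.Agent.Characters.Core Cfsg.Agent.Blocks.Basic Cfsg.Agent.Blocks.ExtendedFMT

variable {M : Ideal AlgInt} {X : Type} [Group X] [Finite X] {Γ : Subgroup (MulAut X)} {b : Set (IrrCharacter X)}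
  {D : Subgroup X}

namespace N5

theorem three (hA : BoxN5a) (hM : IsPModular 5 M) (hb : IsPBlock M b) (hD : IsDefectGroup 5 M b D) (h1 : R1 5 b)
    (h2 : Nat.card D = 25) (h3 : ¬ IsCyclic D) {n : ℕ} (hn : 0 < n) (h4 : ∀ χ ∈ b, n ∣ charDegree (χ : X → ℂ))
    (h5 : ∑ᶠ χ ∈ b, (charDegree (χ : X → ℂ) / n) ^ 2 = 25) :
    {χ ∈ b | charDegree (χ : X → ℂ) = 3 * n}.ncard = 0 ∨ {χ ∈ b | charDegree (χ : X → ℂ) = 3 * n}.ncard = 2 := by
  classical
  have := finite_irr (G := X)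
  have h6 := hA M hM X b D hb hD h1 h2 h3 n h4 h5
  lift b to Finset (IrrCharacter X) using b.toFinite with F
  have h7 := (Finset.card_nsmul_le_sum (F.filter fun χ : IrrCharacter X => charDegree (χ : X → ℂ) = 3 * n)
    (fun χ => (charDegree (χ : X → ℂ) / n) ^ 2) 9 fun χ hχ => by
      rw [(Finset.mem_filter.1 hχ).2, Nat.mul_div_cancel _ hn]
      decide).trans
    (Finset.sum_le_sum_of_subset (Finset.filter_subset _ F))
  rw [← finsum_mem_coe_finset, h5, smul_eq_mul, ← Set.ncard_coe_finset, Finset.coe_filter] at h7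
  change {χ ∈ (F : Set (IrrCharacter X)) | charDegree (χ : X → ℂ) = 3 * n}.ncard * 9 ≤ 25 at h7
  omega

theorem lift5 {l : ℕ} {d : IrrCharacter X → Fin l → ℕ} {φ : Fin l → X → ℂ} (h : Dec 5 Γ b D d φ) {S : Type} [Group S]
    {σ : X →* S} (H : Hyp 5 M Γ b D σ) (hi : (Inn X).relIndex Γ ∣ 2) (h2 : Nat.card D = 25) (i : Fin l)
    (he : Even {χ ∈ b | Odd (d χ i) ∧ ∑ j, d χ j = 3}.ncard) : ∃ θ, Lift 5 Γ b θ := by
  have := finite_irr (G := X)
  have h1 := Nat.le_of_dvd two_pos (h.dvd.trans hi)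
  have h3 := h.odd_of (by rw [h2]; decide) i
  refine h.lift H (.inr rfl) h2 (r := 1) hi i ?_
  have h4 : {χ ∈ b | Odd (d χ i * ∑ j, d χ j)} =
      {χ ∈ b | d χ = Pi.single i 1} ∪ {χ ∈ b | Odd (d χ i) ∧ ∑ j, d χ j = 3} := by
    ext χ
    refine ⟨fun ⟨hχ, ho⟩ => ?_, ?_⟩
    · obtain ⟨h5, h6⟩ := Nat.odd_mul.1 ho
      have h7 := h.ndvd_sum H.hM H.hb H.hD h2 hχ
      have h8 := fun j => (h.term_le hχ j).trans h2.le
      have h9 : ∑ j, d χ j < 7 := by
        by_contra h9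
        have h12 := Finset.sum_le_card_nsmul Finset.univ (fun j => d χ j) 3 fun j _ => by nlinarith only [h9, h8 j]
        rw [Finset.card_univ, Fintype.card_fin, smul_eq_mul] at h12
        omega
      have h10 := Nat.odd_iff.1 h6
      rcases (by omega : ∑ j, d χ j = 1 ∨ ∑ j, d χ j = 3) with h11 | h11
      · exact .inl ⟨hχ, single_of_sum h11 h5.pos.ne'⟩
      · exact .inr ⟨hχ, h5, h11⟩
    · rintro (⟨hχ, e⟩ | ⟨hχ, h5, e⟩)
      · exact ⟨hχ, by simp only [e, _root_.Pi.single_eq_same, _root_.Finset.sum_pi_single', _root_.Finset.mem_univ, ↓ _root_.reduceIte, _root_.mul_one, _root_.odd_one]⟩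
      · exact ⟨hχ, h5.mul (e ▸ by decide)⟩
  rw [h4, Set.ncard_union_eq (Set.disjoint_left.2 fun χ h5 h6 => by
    have h7 := h6.2.2
    rw [h5.2] at h7
    simp only [_root_.Finset.sum_pi_single', _root_.Finset.mem_univ, ↓ _root_.reduceIte, _root_.OfNat.one_ne_ofNat] at h7)] at h3
  exact (Nat.odd_add.1 h3).2 he

theorem eq_or {θ θ' ψ ψ' : IrrCharacter X} (h : ∀ x, (θ : X → ℂ) x + (θ' : X → ℂ) x = (ψ : X → ℂ) x + (ψ' : X → ℂ) x)
    (h1 : θ' ≠ θ) : ψ = θ ∨ ψ' = θ := by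
  have := Fintype.ofFinite X
  by_contra h2
  push Not at h2
  have h3 := congrArg (classInner · (θ : X → ℂ)) (show (θ : X → ℂ) + θ' = ψ + ψ' from funext h)
  simp only [classInner_add_left, classInner_irr_self θ.2, classInner_irr_ne θ'.2 θ.2 fun e => h1 (Subtype.ext e),
    classInner_irr_ne ψ.2 θ.2 fun e => h2.1 (Subtype.ext e), classInner_irr_ne ψ'.2 θ.2 fun e => h2.2 (Subtype.ext e),
    add_zero] at h3
  exact one_ne_zero h3

end N5

open N5

/-- **defect groups of order `25`** -/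
theorem boxN5_of (hD : BoxDec) (hA : BoxN5a) : BoxN5 := by
  intro M X _ _ Γ b D S _ σ H hi hz h2
  have := finite_irr (G := X)
  obtain ⟨l, d, φ, h⟩ := hD 5 M H.hM X Γ H.sit.inn b D H.hb H.hD H.one
  rcases (Nat.dvd_prime Nat.prime_two).1 (h.dvd.trans hi) with rfl | rfl
  · obtain ⟨n, hn, -, h1⟩ := h.degree H.hM.1
    have h3 := h.row 0
    simp only [Fin.sum_univ_one] at h1 h3
    refine lift5 h H hi h2 0 ?_
    have h4 := three hA H.hM H.hb H.hD (h.r1 H.hM.1) h2 H.nc hn (fun χ hχ => h1 χ hχ ▸ Dvd.intro _ rfl)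
      ((finsum_mem_congr rfl fun χ hχ => by rw [h1 χ hχ, Nat.mul_div_cancel_left _ hn, sq]).trans (h3.trans h2))
    have h5 : {χ ∈ b | Odd (d χ 0) ∧ ∑ j, d χ j = 3} = {χ ∈ b | charDegree (χ : X → ℂ) = 3 * n} :=
      Set.ext fun χ => and_congr_right fun hχ => by
        rw [Fin.sum_univ_one, h1 χ hχ, mul_comm 3, Nat.mul_right_inj hn.ne']
        exact ⟨And.right, fun e => ⟨e ▸ by decide, e⟩⟩
    rw [h5]
    rcases h4 with e | e <;> rw [e] <;> decide
  obtain ⟨n, α, hn, -, h1, h3, h4, h5, G, _, _, ι, B, g, o⟩ := h.og H (by decide) hi hz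
  have := finite_irr (G := G)
  have := Fintype.ofFinite X
  have h6 : Nat.card (D.map ι) = 25 := (card_map_of_injective o.inj).trans h2
  have h7 := three hA H.hM o.blk o.dg o.r1 h6 (fun e => H.nc ((D.equivMapOfInjective ι o.inj).isCyclic.2 e))
    (by positivity) o.dvd (o.sum.trans h2)
  refine lift5 h H hi h2 0 ?_
  simp only [Fin.sum_univ_two]
  generalize hT : {χ ∈ B | charDegree (χ : G → ℂ) = 3 * (2 * n)} = T at h7
  generalize hE : {χ ∈ b | Odd (d χ 0) ∧ d χ 0 + d χ 1 = 3} = E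
  have mT : ∀ χ, χ ∈ T ↔ χ ∈ B ∧ charDegree (χ : G → ℂ) = 3 * (2 * n) := fun χ => hT ▸ Iff.rfl
  have mE : ∀ χ, χ ∈ E ↔ χ ∈ b ∧ Odd (d χ 0) ∧ d χ 0 + d χ 1 = 3 := fun χ => hE ▸ Iff.rfl
  have k0 : ∀ θ ∈ E, compIrr α θ ∉ E := fun θ hθ e => by
    obtain ⟨h8, h9, h10⟩ := (mE θ).1 hθ
    have h11 := ((mE _).1 e).2.1
    rw [(h4 θ h8).1, Nat.odd_iff] at h11
    rw [Nat.odd_iff] at h9
    omega
  have k1 : ∀ θ ∈ E, compIrr α θ ≠ θ := fun θ hθ e => k0 θ hθ (e.symm ▸ hθ)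
  have k2 : ∀ (χ : IrrCharacter G) (θ : IrrCharacter X),
      (∀ x, (χ : G → ℂ) (ι x) = (θ : X → ℂ) x + (θ : X → ℂ) (α x)) →
      charDegree (χ : G → ℂ) = 2 * charDegree (θ : X → ℂ) := fun χ θ e => by
    have h8 := e 1
    rw [map_one, map_one, irr_one_eq_charDegree χ.2, irr_one_eq_charDegree θ.2, ← two_mul] at h8
    exact_mod_cast h8
  have := Blocks.Local.isPrime_of_isPModular H.hM
  have : Nonempty (IrrCharacter G) := ⟨(isPBlock_nonempty o.blk).some⟩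
  choose! f f1 f2 using o.mov
  have k3 : ∀ θ ∈ E, f θ ∈ T := fun θ hθ => by
    obtain ⟨h8, -, h10⟩ := (mE θ).1 hθ
    refine (mT _).2 ⟨(f1 θ h8 (k1 θ hθ)).1, ?_⟩
    rw [k2 _ θ (f1 θ h8 (k1 θ hθ)).2, h3 θ h8, h10]
    ring
  have k4 := Set.ncard_le_ncard_of_injOn f k3 fun θ hθ ψ hψ e => by
    refine ((eq_or (θ' := compIrr α θ) (ψ := ψ) (ψ' := compIrr α ψ) (fun x => ?_) (k1 θ hθ)).resolve_right
      fun e' => k0 ψ hψ (e' ▸ hθ)).symm
    exact ((f1 θ ((mE θ).1 hθ).1 (k1 θ hθ)).2 x).symm.trans (e ▸ (f1 ψ ((mE ψ).1 hψ).1 (k1 ψ hψ)).2 x)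
  by_contra h8
  rw [Nat.not_even_iff_odd, Nat.odd_iff] at h8
  obtain ⟨θ, rfl⟩ := Set.ncard_eq_one.1 (by omega : E.ncard = 1)
  have hθ := Set.mem_singleton θ
  have h9 : T.ncard = 2 := by omega
  obtain ⟨χ, hχ, h10⟩ := Set.exists_ne_of_one_lt_ncard (h9 ▸ one_lt_two) (f θ)
  obtain ⟨h11, h12⟩ := (mT χ).1 hχ
  have h13 := ((mE θ).1 hθ).1
  obtain ⟨ψ, hψ, ⟨e, h14⟩ | ⟨e, h14⟩⟩ := o.low χ h11
  · have h15 : {χ ∈ B | ∀ x, (χ : G → ℂ) (ι x) = (ψ : X → ℂ) x} = T :=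
      Set.eq_of_subset_of_ncard_le (fun η hη => (mT η).2 ⟨hη.1, by
        rw [← h12, charDegree, charDegree, ← map_one ι, hη.2, h14]⟩) ((o.fix ψ hψ e).trans h9.symm).ge
    have h16 := (h15 ▸ k3 θ hθ : f θ ∈ {χ ∈ B | ∀ x, (χ : G → ℂ) (ι x) = (ψ : X → ℂ) x}).2
    have h17 : (ψ : X → ℂ) = θ + compIrr α θ := funext fun x => (h16 x).symm.trans ((f1 θ h13 (k1 θ hθ)).2 x)
    have h18 : ψ ≠ θ := fun e' => k1 θ hθ (e' ▸ e)
    have h19 := classInner_irr_ne ψ.2 θ.2 fun e' => h18 (Subtype.ext e')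
    rw [h17, classInner_add_left, classInner_irr_self θ.2,
      classInner_irr_ne (compIrr α θ).2 θ.2 fun e' => k1 θ hθ (Subtype.ext e'), add_zero] at h19
    exact one_ne_zero h19
  · have h15 := k2 χ ψ h14
    rw [h12, h3 ψ hψ] at h15
    have h16 : d ψ 0 + d ψ 1 = 3 := Nat.eq_of_mul_eq_mul_left (by positivity : 0 < 2 * n) (by linarith only [h15])
    refine h10 (f2 θ h13 (k1 θ hθ) χ ⟨h11, fun x => ?_⟩)
    by_cases h17 : Odd (d ψ 0)
    · rw [← show ψ = θ from (mE ψ).2 ⟨hψ, h17, h16⟩]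
      exact h14 x
    · rw [← show compIrr α ψ = θ from (mE _).2 ⟨h1 ψ hψ _ fun _ => rfl, by
        rw [(h4 ψ hψ).1, Nat.odd_iff]
        rw [Nat.odd_iff] at h17
        omega, by rw [(h4 ψ hψ).1, (h4 ψ hψ).2, add_comm, h16]⟩, h14, add_comm]
      exact congrArg (_ + ·) (congrFun (congrArg Subtype.val (h5 ψ)) x).symm

theorem boxN5 : BoxN5 := boxN5_of boxDec boxN5a

end Cfsg.Agent.OM.Lo
end

private theorem dce_0ee6b8812171 : _root_.True := by
  try have : _root_.True := by simp only [_root_.Cfsg.Agent.OM.XcC.ck.eq_1]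
  try have : _root_.True := by simp only [_root_.Cfsg.Agent.OM.XcC.g49.eq_1]
  exact _root_.True.intro
end

-- part: OM/Xc/B/U43
section
set_option linter.all false
open scoped Cfsg.Agent.FastGrp

/-!
# OM (S4894), exceptional covers: `3.U₄(3)` (helper74)
-/

set_option autoImplicit false

namespace Cfsg.Agent.OM.XB

open Cfsg Subgroup Cfsg.Agent.OM.Lo Cfsg.Agent.BZ.T Cfsg.Agent.BZ.X

theorem out_u {K : Type} [Field K] [Fintype K] {q n : ℕ} [Fact q.Prime] (hK : Fintype.card K = q ^ 2) (hn : 4 ≤ n) :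
    Nat.card (Out (PSU n K q)) = 2 * Nat.gcd n (q + 1) := by
  obtain ⟨φ, h1, -, h2⟩ := S2603.result (p := q) (f := 1) (n := n) le_rfl (pow_one q).symm hK (by omega) (by omega)
  rw [← φ.ker.index_mul_card, h2, index_ker, φ.range_eq_top_of_surjective h1, card_top]
  simp

/-- **`3.U₄(3)`** -/
theorem u43 (F : Type) [Field F] [Fintype F] (hF : Fintype.card F = 9) : CovX 3 2 (PSU 4 F 3) :=
  fun X _ _ σ M Γ b D H _ => by
    obtain ⟨e⟩ := TwoF.XL.U43.iso (F := F) hF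
    have hS : Nat.card (PSU 4 F 3) = 2 ^ 7 * 25515 := (Nat.card_congr e.toEquiv).trans TwoF.XL.U43.card_M
    have := Finite.of_surjective σ H.surj
    have := Finite.of_equiv _ e.toEquiv
    obtain ⟨k, hk⟩ := H.exists_card
    obtain ⟨n, l, c, h4, h5, h6⟩ := col (e := 7) H ((T2.rb_of_r0 U4.r0).congr e.symm) (hk ▸ pow_dvd_pow 2 (by omega)) hS
      (by decide) le_rfl
    have h1 : l ∣ 2 ^ 3 := h4.trans ((out_u (q := 3) hF le_rfl).symm ▸ boxIdx 2 M X Γ b D _ σ H :)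
    obtain rfl : l = 1 := Nat.eq_one_of_dvd_coprimes (((Nat.Prime.coprime_iff_not_dvd Nat.prime_two).2 h5).pow_left 3) h1 dvd_rfl
    have h7 : n ^ 2 % 8 = 0 ∨ n ^ 2 % 8 = 1 ∨ n ^ 2 % 8 = 4 := by
      rw [Nat.pow_mod]
      have := Nat.mod_lt n (by norm_num : 0 < 8)
      generalize n % 8 = k at *
      interval_cases k <;> decide
    omega

end Cfsg.Agent.OM.XB
end

-- part: OM/Tf/Abs
section
set_option linter.all false
open scoped Cfsg.Agent.FastGrp

/-!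
# OM / Tf (S4894) : blocks which see a Sylow `r`-subgroup (helper35)
-/

set_option autoImplicit false
set_option linter.unusedSectionVars false

namespace Cfsg.Agent.OM.Tf

open Cfsg Subgroup Cfsg.Agent.HZ.Gen Cfsg.Agent.Characters Cfsg.Agent.Characters.Core Cfsg.Agent.Blocks Cfsg.Agent.Blocks.Basic
  Cfsg.Agent.BZ Cfsg.Agent.BZ.Lab Cfsg.Agent.BZ.L
open scoped Pointwise

variable {l r m n N : ℕ} {K L : Type} [Group K] [Fintype K] [Group L] [Fintype L] {M : Ideal AlgInt}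
  {α : MulAut K} {β : MulAut L} {ι : L →* K} {P A Q : Subgroup K} {B : Set (IrrCharacter K)}
  (h : Fr l r m n N K α) (hM : IsPModular l M) (hP : IsPGroup r P) (hs : StS α P)
  (hS : ∀ R : Subgroup K, IsPGroup r R → P ≤ R → R ≤ P) (hA : IsPGroup l A) (h1 : A ≤ centralizer (P : Set K))
  (h2 : centralizer (P : Set K) ≤ centralizer (A : Set K)) (h3 : centralizer (A : Set K) ≤ centralizer (P : Set K))
  (hB : IsPBlock M B) (sB : StB α B)
include h hM hP hs hS hA h1 h2 h3 hB sB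

/-- some member sees `P` -/
theorem abs_start (hQ : IsDefectGroup l M B Q) (hf : ∀ x ∈ Q, α x = x) (hAQ : A ≤ Q) : ∃ ξ ∈ B, Sees r P (ξ : K → ℂ) := by
  have : Fact r.Prime := ⟨h.rp⟩
  obtain ⟨P₀, _, _, b, T⟩ := boxOs.ex h hM B hB sB
  have e1 := boxSub.mx h hM hB sB T.mx hQ hf hAQ (h1.trans h2) hP ((h.bg.ab' hP).trans h2) fun y hy _ => h3 hy
  rw [← H592.Defect.card_eq_pow_factorization r T.rp] at e1
  obtain ⟨R, hR⟩ := hP.exists_le_sylow
  obtain ⟨R₀, hR₀⟩ := T.rp.exists_le_sylow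
  have e2 : P = R := le_antisymm hR (hS R R.isPGroup' hR)
  have e3 : P₀ = R₀ := eq_of_le_of_card_ge hR₀ (by rwa [Sylow.card_eq_multiplicity, ← R.card_eq_multiplicity, ← e2])
  obtain ⟨x, hx⟩ := MulAction.exists_smul_eq K R₀ R
  have e4 : ∀ a, a ∈ P₀ ↔ x * a * x⁻¹ ∈ P := fun a => by
    rw [e2, e3, ← hx, Sylow.coe_subgroup_smul]
    exact (smul_mem_pointwise_smul_iff (a := MulAut.conj x) (x := a)).symm
  obtain ⟨ξ, hξ, ψ, -, e5⟩ := T.lnk
  obtain ⟨g, hg⟩ : ∃ g : centralizer (P₀ : Set K), rs r P₀ ξ g ≠ 0 := by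
    by_contra e
    push Not at e
    exact e5 (by rw [show rs r P₀ ξ ∘ (centralizer (P₀ : Set K)).subtype = 0 from funext e, classInner_zero_left])
  refine ⟨ξ, hξ, x * g * x⁻¹, fun a ha => ?_, by rwa [h.bg.rs_conj T.rp (boxSt.rat h ξ (sB ξ hξ)) h.bdr e4 g.2]⟩
  have e6 : Commute (x⁻¹ * a * x) g := g.2 _ ((e4 _).2 (by simpa [mul_assoc] using ha))
  simpa [mul_assoc] using (e6.map (MulAut.conj x)).eq

/-- the stable characters with a common constituent lie in the same block -/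
theorem abs_bc (e : Emb ι β α) (hL : ι.range = centralizer (P : Set K)) {ξ ξ' : IrrCharacter K} {ψ : IrrCharacter L} (hξ : ξ ∈ B)
    (hξ' : St α (ξ' : K → ℂ)) (h0 : Un r ι P (ψ : L → ℂ) ξ) (h0' : Un r ι P (ψ : L → ℂ) ξ') : ξ' ∈ B := by
  have : Fact r.Prime := ⟨h.rp⟩
  have := Local.isPrime_of_isPModular hM
  obtain ⟨R, hR⟩ := hP.exists_le_sylow
  have e2 : P = R := le_antisymm hR (hS R R.isPGroup' hR)
  refine RT.bct_of h hM (b := blockOf M (ψ : L → ℂ)) ⟨hP, hs, e, hL, hB, sB, isPBlock_blockOf ψ,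
    boxSt.blk (h.toGl.sub e) hM ψ (con_rs boxSt h hP hs e hL (sB ξ hξ) h0), fun η _ => ?_, ξ, hξ, ψ, mem_blockOf_self ψ, h0⟩
    hA h1 h2 (inf_le_right.trans h3) hξ' (mem_blockOf_self ψ) h0'
  show _ ≤ _
  rw [e2, R.card_eq_multiplicity, h.rp.factorization_pow, Finsupp.single_eq_same]
  exact Nat.le_add_left _ _

end Cfsg.Agent.OM.Tf
end

-- part: OM/Tf/Defs
section
set_option linter.all false

/-!
# OM (S4894), the large Ree groups `²F₄` (helper50): definitions and boxes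

A non-cyclic defect group contains a subgroup `A` of a maximal torus `T` with `C(A) = T`; the block consists of the constituents of
Deligne-Lusztig characters of `T`; the property `QQ` forces these to be irreducible.
-/

set_option autoImplicit false
set_option linter.unusedSectionVars false

namespace Cfsg.Agent.OM.Tf

open Cfsg Cfsg.Agent.DL Cfsg.Agent.DL.PP Cfsg.Agent.DL.Uni Cfsg.Agent.DL.Asm Cfsg.Agent.Nodes.Reps Matrix Cfsg.Agent.KZ.Lie
  Cfsg.Agent.HZ.L Cfsg.Agent.OM.Au Cfsg.Agent.KZ.DatX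

section Gen

variable {p : ℕ} [Fact p.Prime] {k : Type} [Field k] [CharP k p] [IsAlgClosed k] {Y : Type} [Group Y] {N : Type}
  [Fintype N] [DecidableEq N] {ρ : Y →* GL N k} {F : MulAut Y} {G : Subgroup Y} (D : Datum p ρ F G)

/-- a regular eigenvector -/
def RegE (w : D.W) : Prop := (rts D).Nonempty ∧ ∃ μ y, IsE (D.Wm w * D.Mx) μ y ∧ ∀ a ∈ rts D, ev a.1 y ≠ 0

/-- two independent fixed vectors modulo `l` -/
structure Two (l : ℕ) (w : D.W) (u u' : Vec D.R) : Prop where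
  fx : ∀ i, (l : ℤ) ∣ ((D.Wm w * D.Mx - 1) *ᵥ u) i
  fx' : ∀ i, (l : ℤ) ∣ ((D.Wm w * D.Mx - 1) *ᵥ u') i
  ind : ∀ a b : ℤ, (∀ i, (l : ℤ) ∣ (a • u + b • u') i) → (l : ℤ) ∣ a ∧ (l : ℤ) ∣ b

/-- no root vanishes on the pair, no element of the relative Weyl group fixes it -/
structure Rg (l : ℕ) (w : D.W) (u u' : Vec D.R) : Prop where
  rt : ∀ a, D.Rt a → (l : ℤ) ∣ D.wt a ⬝ᵥ u → ¬ (l : ℤ) ∣ D.wt a ⬝ᵥ u'
  wy : ∀ v, Tc D v w w → (∀ i, (l : ℤ) ∣ ((D.Wm v - 1) *ᵥ u) i) → (∀ i, (l : ℤ) ∣ ((D.Wm v - 1) *ᵥ u') i) → v = 1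

/-- `A` lies in a torus of type `w`, and its centraliser is the torus at all levels -/
def Gd (w : D.W) (A : Subgroup ↥(GF F G)) : Prop := ∃ y ∈ G, D.Rp w (y⁻¹ * F y) ∧ (∀ a ∈ A, (a : Y) ∈ cj y D.T) ∧
  ∀ g ∈ G, (∀ a ∈ A, g * a = a * g) → ∃ v, D.Rp v (y⁻¹ * g * y) ∧ (Tc D v w w → v = 1)

variable [Fintype ↥(GF F G)]

/-- **geometry** : `wT` meets all classes of types -/
def BoxGeo : Prop := TO.X.Cn.Pi1 D 1 → ∀ l : ℕ, l.Prime → l ≠ p → l ≠ 2 → ∀ Q : Subgroup ↥(GF F G), IsPGroup l Q → ¬ IsCyclic Q →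
  ∀ {ι : Type} (wT : ι → D.W), (∀ u, ∃ i v, Tc D v u (wT i)) →
    ∃ i u u' A, Two D l (wT i) u u' ∧ A ≤ Q ∧ (Rg D l (wT i) u u' → Gd D (wT i) A)

/-- all constituents of the character with the label `(w, c)` lie in `B` -/
def In (f : Fr D) (B : Set (IrrCharacter ↥(GF F G))) (w : D.W) (c : Lbl D) : Prop :=
  Fx D w c ∧ ∀ χ : IrrCharacter ↥(GF F G), Has f (χ : ↥(GF F G) → ℂ) w c → χ ∈ B

/-- **positivity** -/
def BoxPos : Prop := D.QS → Cz p (rts D) → ∀ (f : Fr D) (B : Set (IrrCharacter ↥(GF F G))) w c, QQ f B → In D f B w c →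
  ∀ χ : IrrCharacter ↥(GF F G), Has f (χ : ↥(GF F G) → ℂ) w c → charDegree (χ : ↥(GF F G) → ℂ) * ordT D w = pc' p (GF F G)

/-- **all members meet the torus** -/
def BoxAll : Prop := D.QS → ∀ (f : Fr D) (B : Set (IrrCharacter ↥(GF F G))) w c, QQ f B → In D f B w c →
  (∀ u, Cp D w u → ∃ v, Tc D v u w) → ∀ χ ∈ B, ∃ c', Has f (χ : ↥(GF F G) → ℂ) w c'

/-- **blocks** -/
def BoxBlk : Prop := D.QS → ∀ (f : Fr D) (l : ℕ) (M : Ideal AlgInt), IsPModular l M → l ≠ p →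
  ∀ (B : Set (IrrCharacter ↥(GF F G))) (Q A : Subgroup ↥(GF F G)) w, IsPBlock M B → IsDefectGroup l M B Q → A ≤ Q →
    RegE D w → Gd D w A → (∃ χ ∈ B, ∃ c, Has f (χ : ↥(GF F G) → ℂ) w c) ∧
      ∀ χ ∈ B, ∀ c, Has f (χ : ↥(GF F G) → ℂ) w c → In D f B w c

/-- the blocks with non-cyclic defect groups -/
def QE' : Prop := ∀ (f : Fr D) (l : ℕ) (M : Ideal AlgInt), IsPModular l M → l ≠ p →
  ∀ (B : Set (IrrCharacter ↥(GF F G))) (Q : Subgroup ↥(GF F G)), IsPBlock M B → IsDefectGroup l M B Q → ¬ IsCyclic Q →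
    QQ f B → Gl.EqD B

end Gen

/-- **the finite checks** -/
structure Fin4 {m : ℕ} {k : Type} [Field k] [CharP k 2] [IsAlgClosed k] (X : XF hpF4 2 k ((2 : ℤ) ^ m • GamF)) : Prop where
  two : ∀ l : ℕ, l.Prime → l ≠ 2 → ∀ i u u', Two X.D l (KZ.TF.wT X i) u u' →
    Rg X.D l (KZ.TF.wT X i) u u' ∧ RegE X.D (KZ.TF.wT X i)
  sep : ∀ i u, Cp X.D (KZ.TF.wT X i) u → ∃ v, Tc X.D v u (KZ.TF.wT X i)
  cz : Cz 2 (rts X.D)

def BoxFin : Prop := ∀ (m : ℕ) (k : Type) [Field k] [CharP k 2] [IsAlgClosed k] (X : XF hpF4 2 k ((2 : ℤ) ^ m • GamF)), Fin4 X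

/-- **the row** -/
def BoxRow : Prop := (∀ m : ℕ, 1 ≤ m → ∀ (k : Type) [Field k] [CharP k 2] [IsAlgClosed k]
    (X : XF hpF4 2 k ((2 : ℤ) ^ m • GamF)) [Fintype ↥(GF X.F ⊤)], QE' X.D) →
  ∀ (l : ℕ) [Fact l.Prime], l ≠ 2 → ∀ (F : Type) [Field F] [Fintype F] (m : ℕ), 1 ≤ m →
    Fintype.card F = 2 ^ (2 * m + 1) → CovG 2 l (Lie.twistedF4 F (2 ^ m))

section Glue

variable {m : ℕ} {k : Type} [Field k] [CharP k 2] [IsAlgClosed k] (X : XF hpF4 2 k ((2 : ℤ) ^ m • GamF)) [Fintype ↥(GF X.F ⊤)]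

theorem qe_of (hp : TO.X.Cn.Pi1 X.D 1) (h1 : BoxGeo X.D) (h2 : BoxPos X.D) (h3 : BoxAll X.D) (h4 : BoxBlk X.D) (h5 : Fin4 X) :
    QE' X.D := fun f l M hM hl B Q hB hQ hn hq => by
  have := Fact.mk hM.1
  obtain ⟨i, u, u', A, e1, e2, e3⟩ := h1 hp l hM.1 hl hl Q (Blocks.Basic.isPGroup_of_isDefectGroup hQ) hn _ (KZ.TF.cls X)
  obtain ⟨e4, e5⟩ := h5.two l hM.1 hl i u u' e1
  obtain ⟨⟨χ₀, e6, c₀, e7⟩, e8⟩ := h4 X.D_qs f l M hM hl B Q A _ hB hQ e2 e5 (e3 e4)
  have key : ∀ χ ∈ B, charDegree (χ : ↥(GF X.F ⊤) → ℂ) * ordT X.D (KZ.TF.wT X i) = pc' 2 (GF X.F ⊤) := fun χ hχ =>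
    let ⟨c, hc⟩ := h3 X.D_qs f B _ c₀ hq (e8 χ₀ e6 c₀ e7) (h5.sep i) χ hχ
    h2 X.D_qs h5.cz f B _ c hq (e8 χ hχ c hc) χ hc
  intro χ hχ χ' hχ'
  refine Nat.eq_of_mul_eq_mul_right (Nat.pos_of_ne_zero fun e => ?_) ((key χ hχ).trans (key χ' hχ').symm)
  exact KZ.Lie.ordT_ne _ e

end Glue

end Cfsg.Agent.OM.Tf
end
end
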